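import Cfsg.Agent.Lib.Transfer.AEightSolv.General
import Cfsg.Agent.Lib.Fus.ClosedProduct.Main
import Cfsg.Agent.Lib.Fus.Goldschmidt.Main
import Cfsg.Agent.Lib.Fus.Goldschmidt.FourClimb

/-!
# A small strongly closed elementary subgroup cuts out one simple normal subgroup

With `O(G) = O₂(G) = 1` and `O²(G) = G` a self-centralising strongly closed elementary subgroup of order at
most 16 contains a Sylow subgroup `T` of a simple normal subgroup, of order 8 or 16, on whose involutions an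
odd group of automorphisms is transitive.
-/

set_option autoImplicit false
set_option linter.style.haveILetI false
set_option linter.unusedSectionVars false

namespace Cfsg.Agent.Transfer.AEightSolv

open Subgroup Cfsg.Agent.Grp
open scoped Pointwise

universe u

variable {G : Type u} [Group G] [Finite G]

theorem index_two_false (hres : Cfsg.pResidual 2 G = ⊤) (M : Subgroup G) : M.index ≠ 2 := fun hM => by
  have hle : Cfsg.pResidual 2 G ≤ M := by
    refine (closure_le _).2 fun g hg => ?_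
    obtain ⟨k, hk⟩ := (Nat.coprime_two_right.1 (hg : (orderOf g).Coprime 2))
    have h1 : g = (g ^ (k + 1)) ^ 2 := by
      rw [← pow_mul, show (k + 1) * 2 = orderOf g + 1 by omega, pow_succ, pow_orderOf_eq_one, one_mul]
    show g ∈ M
    rw [h1]
    exact sq_mem_of_index_two hM _
  rw [hres, top_le_iff] at hle
  rw [hle, index_top] at hM
  omega

/-- A prime dividing an odd group to the first power gives a subgroup of that order fixed by a 2-group. -/
theorem exists_prime_normalised {H : Type*} [Group H] [Finite H] {p : ℕ} (hp : p.Prime) {D V : Subgroup H}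
    (hD : Odd (Nat.card D)) (hpD : p ∣ Nat.card D) (hp2 : ¬ p ^ 2 ∣ Nat.card H) (hV : IsPGroup 2 V)
    (hVD : V ≤ normalizer (D : Set H)) : ∃ P : Subgroup H, Nat.card P = p ∧ V ≤ normalizer (P : Set H) := by
  classical
  haveI : Fact p.Prime := ⟨hp⟩
  haveI : Fact (Nat.Prime 2) := ⟨Nat.prime_two⟩
  letI : MulDistribMulAction ↥V ↥D :=
    MulDistribMulAction.compHom ↥D (D.normalizerMonoidHom.comp (inclusion hVD))
  have hodd : ¬ 2 ∣ Nat.card (Sylow p ↥D) := fun h => by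
    obtain ⟨P⟩ : Nonempty (Sylow p ↥D) := inferInstance
    have h1 : 2 ∣ Nat.card ↥D := h.trans (P.card_dvd_index.trans (index_dvd_card _))
    exact (Nat.not_even_iff_odd.2 hD) (even_iff_two_dvd.2 h1)
  obtain ⟨P, hP⟩ := hV.nonempty_fixed_point_of_prime_not_dvd_card (Sylow p ↥D) hodd
  refine ⟨(P : Subgroup ↥D).map D.subtype, ?_, fun v hv => mem_normalizer_fintype ?_⟩
  · rw [card_map_of_injective D.subtype_injective, P.card_eq_multiplicity]
    have h1 : (Nat.card ↥D).factorization p = 1 := by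
      refine le_antisymm ?_ (hp.factorization_pos_of_dvd Nat.card_pos.ne' hpD)
      by_contra h
      exact hp2 ((Nat.pow_dvd_pow p (by omega)).trans ((Nat.ordProj_dvd _ p).trans (card_subgroup_dvd_card D)))
    rw [h1, pow_one]
  · rintro _ ⟨x, hx, rfl⟩
    refine ⟨(⟨v, hv⟩ : ↥V) • x, ?_, rfl⟩
    have h1 := hP ⟨v, hv⟩
    rw [Sylow.ext_iff, Sylow.pointwise_smul_def] at h1
    show _ ∈ (P : Subgroup ↥D)
    rw [← h1]
    exact smul_mem_pointwise_smul x _ _ hx

/-- The hypotheses: a small self-centralising strongly closed elementary subgroup. -/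
structure GoldHyp (S : Sylow 2 G) (z : G) (A : Subgroup G) : Prop where
  res : Cfsg.pResidual 2 G = ⊤
  odd : Cfsg.pPrimeCore 2 G = ⊥
  two : Cfsg.pCore 2 G = ⊥
  zA : z ∈ A
  z2 : orderOf z = 2
  cen : ∀ x ∈ (S : Subgroup G), (∀ s ∈ (S : Subgroup G), s * x = x * s) → x = 1 ∨ x = z
  elem : Cfsg.IsElementaryAbelian 2 A
  closed : Cfsg.IsStronglyClosed A (S : Subgroup G)
  le16 : Nat.card A ≤ 16
  self : ∀ s ∈ (S : Subgroup G), (∀ a ∈ A, s * a = a * s) → s ∈ A

namespace GoldHyp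

variable {S : Sylow 2 G} {z : G} {A : Subgroup G} (h : GoldHyp S z A)
include h

theorem hyp : Fus.Gold.LocalHyp G A where
  core := h.odd
  elem := h.elem
  closed := fun R hR hAR x hx g hg => by
    obtain ⟨k, hk⟩ := Fus.ClosedProduct.move S hR
    have hkA : ∀ a ∈ A, k * a * k⁻¹ ∈ A := fun a ha => h.closed.2 a ha k (hk a (hAR ha))
    refine (mem_normalizer_iff.1 (mem_normalizer_fintype hkA : k ∈ normalizer (A : Set G)) _).2 ?_
    have h1 := h.closed.2 x hx (k * g) (by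
      rw [show k * g * x * (k * g)⁻¹ = k * (g * x * g⁻¹) * k⁻¹ by group]; exact hk _ hg)
    rwa [show k * g * x * (k * g)⁻¹ = k * (g * x * g⁻¹) * k⁻¹ by group] at h1
  comp := fun K hK => by
    haveI := hK.2.2
    exact Fus.Gold.conclusion_all _ hK.2.2 (Fus.Gold.not_comm_quotient hK)

theorem z_central {s : G} (hs : s ∈ (S : Subgroup G)) {N : Subgroup G} (hN : N ≤ (S : Subgroup G)) (hne : N ≠ ⊥)
    (hinv : ∀ r ∈ (S : Subgroup G), ∀ x ∈ N, r * x * r⁻¹ ∈ N) : z ∈ N ∧ s * z = z * s := by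
  obtain ⟨w, hwN, hw2, hwc⟩ := Fus.Gold.exists_central_involution S.isPGroup' hN hne hinv
  rcases h.cen w (hN hwN) hwc with e | e
  · rw [e, orderOf_one] at hw2; omega
  · exact e ▸ ⟨hwN, hwc s hs⟩

/-- the moved components -/
def Mov (_h : GoldHyp S z A) (K : Subgroup G) : Prop := Cfsg.IsComponent K ∧ ¬ A ≤ centralizer (K : Set G)

theorem K_cent {K : Subgroup G} (hK : h.Mov K) {x : G} (hx : x ∈ K) (hxc : x ∈ centralizer (K : Set G)) :
    x = 1 := by
  haveI : Fact (Nat.Prime 2) := ⟨Nat.prime_two⟩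
  have h1 := component_centralizer_inf_le_fitting hK.1 ⟨hx, hxc⟩
  rw [fitting_eq_pCore (p := 2) h.odd, h.two, mem_bot] at h1
  exact h1

theorem mk_inj {K : Subgroup G} (hK : h.Mov K) {a b : ↥K} (he : (a : ↥K ⧸ center ↥K) = b) : a = b :=
  Subtype.ext (inv_mul_eq_one.1 (h.K_cent hK (K.mul_mem (K.inv_mem a.2) b.2) ((Fus.Gold.mk_eq_mk hK.1).1 he)))

theorem four_le {K : Subgroup G} (hK : h.Mov K) : 4 ≤ Nat.card ↥(A ⊓ K) := by
  classical
  haveI : Fact (Nat.Prime 2) := ⟨Nat.prime_two⟩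
  obtain ⟨P, hP, hcl, hel, hne, -, hinv, -, -⟩ := Fus.Gold.exists_data h.hyp hK.1 h.closed.1 hK.2
  have hcard : Nat.card ↥(Fus.Gold.kbar A K) = Nat.card ↥(A ⊓ K) := by
    rw [Fus.Gold.kbar, card_map_of_injective fun a b he => h.mk_inj hK he,
      Nat.card_congr (subgroupOfEquivOfLe (inf_le_right : A ⊓ K ≤ K)).toEquiv]
  obtain ⟨k, hk⟩ := IsPGroup.iff_card.1 (elemAb_isPGroup hel)
  rw [← hcard, hk]
  by_contra hlt
  push Not at hlt
  have hk1 : k = 1 := by
    rcases k with _ | _ | k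
    · exact absurd (Subgroup.eq_bot_of_card_eq _ (by rw [hk, pow_zero])) hne
    · rfl
    · have hp : 4 ≤ 2 ^ (k + 1 + 1) := Nat.pow_le_pow_right (show 2 > 0 by norm_num) (show 2 ≤ k + 1 + 1 by omega)
      omega
  rw [hk1, pow_one] at hk
  obtain ⟨⟨b, hb⟩, hb1, huniq⟩ := (Nat.card_eq_two_iff' (1 : ↥(Fus.Gold.kbar A K))).1 hk
  haveI := hK.1.2.2
  have hb1' : b ≠ 1 := fun e => hb1 (Subtype.ext e)
  refine Fus.Gold.isolated_false hK.1.2.2 (Fus.Gold.not_comm_quotient hK.1) P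
    (Invol.orderOf_two_iff.2 ⟨by rw [← pow_two]; exact hel.2 b hb, hb1'⟩) (hcl.1 hb) fun g hg => ?_
  have h1 := hcl.2 b hb g hg
  have h2 : g * b * g⁻¹ ≠ 1 := fun e => hb1' (conj_eq_one_iff.1 e)
  exact congrArg Subtype.val (huniq ⟨_, h1⟩ fun e => h2 (congrArg Subtype.val e))

theorem mov_disjoint {K L : Subgroup G} (hK : h.Mov K) (hL : h.Mov L) (hne : K ≠ L) : K ≤ centralizer (L : Set G) ∧ K ⊓ L = ⊥ := by
  have h1 : K ≤ centralizer (L : Set G) := fun k hk =>
    mem_centralizer_iff.2 fun l hl => mem_centralizer_iff.1 (IsComponent.commute hL.1 hK.1 hne.symm hl) k hk |>.symm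
  exact ⟨h1, (Subgroup.eq_bot_iff_forall _).2 fun x hx => h.K_cent hL hx.2 (h1 hx.1)⟩

theorem mov_conj {K : Subgroup G} (hK : h.Mov K) (g : G) : h.Mov (K.map (MulAut.conj g).toMonoidHom) :=
  ⟨IsComponent.conj hK.1 g, Fus.ClosedProduct.moved_conj h.hyp h.closed.1 hK.1 hK.2 g⟩

theorem no_three {K L M : Subgroup G} (hK : h.Mov K) (hL : h.Mov L) (hM : h.Mov M) (hKL : K ≠ L) (hKM : K ≠ M)
    (hLM : L ≠ M) : False := by
  obtain ⟨-, d1⟩ := h.mov_disjoint hK hL hKL
  have hc : ∀ {B C : Subgroup G}, B ≤ A → C ≤ A → B ≤ normalizer (C : Set G) := fun hB hC =>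
    h.hyp.le_normalizer_of_le hB hC
  have a1 := card_sup_mul_card_inf (H := A ⊓ K) (N := A ⊓ L) (hc inf_le_left inf_le_left)
  have e1 : (A ⊓ K) ⊓ (A ⊓ L) = ⊥ := le_bot_iff.1 (d1 ▸ inf_le_inf inf_le_right inf_le_right)
  rw [e1, card_bot, mul_one] at a1
  have hle : (A ⊓ K) ⊔ (A ⊓ L) ≤ A := sup_le inf_le_left inf_le_left
  have a2 := card_sup_mul_card_inf (H := (A ⊓ K) ⊔ (A ⊓ L)) (N := A ⊓ M) (hc hle inf_le_left)
  have e2 : ((A ⊓ K) ⊔ (A ⊓ L)) ⊓ (A ⊓ M) = ⊥ := (Subgroup.eq_bot_iff_forall _).2 fun x hx => by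
    refine h.K_cent hM hx.2.2 ?_
    exact (sup_le (inf_le_right.trans (h.mov_disjoint hK hM hKM).1)
      (inf_le_right.trans (h.mov_disjoint hL hM hLM).1) : (A ⊓ K) ⊔ (A ⊓ L) ≤ centralizer (M : Set G)) hx.1
  rw [e2, card_bot, mul_one, a1] at a2
  have a3 := Nat.card_mono (Set.toFinite _) (show (A ⊓ K) ⊔ (A ⊓ L) ⊔ (A ⊓ M) ≤ A from sup_le hle inf_le_left)
  have b1 := h.four_le hK
  have b2 := h.four_le hL
  have b3 := h.four_le hM
  have := h.le16
  have b4 := Nat.mul_le_mul (Nat.mul_le_mul b1 b2) b3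
  have : Nat.card ↥((A ⊓ K) ⊔ (A ⊓ L) ⊔ (A ⊓ M)) ≤ Nat.card ↥A := a3
  omega

theorem exists_unique_mov : ∃ K : Subgroup G, h.Mov K ∧ K.Normal := by
  classical
  obtain ⟨K, hK⟩ : ∃ K, h.Mov K := by
    by_contra hcon
    push Not at hcon
    have := Fus.ClosedProduct.eq_one_of_centralizes h.hyp h.closed.1 (by rw [h.two, inf_bot_eq]) h.zA
      fun K hK hm => absurd ⟨hK, hm⟩ (hcon K)
    exact Invol.ne_one_of_orderOf_two h.z2 this
  by_cases hone : ∀ L, h.Mov L → L = K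
  · refine ⟨K, hK, ⟨fun x hx g => ?_⟩⟩
    have he := hone _ (h.mov_conj hK g)
    rw [← he]
    exact ⟨x, hx, rfl⟩
  exfalso
  push Not at hone
  obtain ⟨L, hL, hne⟩ := hone
  have two : ∀ M, h.Mov M → M = K ∨ M = L := fun M hM => by
    by_contra hM'
    rw [not_or] at hM'
    exact h.no_three hK hL hM hne.symm (Ne.symm hM'.1) (Ne.symm hM'.2)
  have hz : ∀ M, h.Mov M → (∀ s ∈ (S : Subgroup G), s ∈ normalizer (M : Set G)) → z ∈ M := fun M hM hn => by
    have hne : A ⊓ M ≠ ⊥ := fun e => by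
      have := h.four_le hM
      rw [e, card_bot] at this
      omega
    exact (h.z_central (one_mem _) (inf_le_left.trans h.closed.1) hne fun r hr x hx =>
      ⟨(mem_normalizer_iff.1 (Invol.sylow_le_normalizer_stronglyClosed h.closed hr) x).1 hx.1,
        (mem_normalizer_iff.1 (hn r hr) x).1 hx.2⟩).1.2
  obtain ⟨s, hs, hsK⟩ : ∃ s ∈ (S : Subgroup G), s ∉ normalizer (K : Set G) := by
    by_contra hcon
    push Not at hcon
    have hKs : ∀ s ∈ (S : Subgroup G), K.map (MulAut.conj s).toMonoidHom = K := fun s hs =>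
      conj_eq_iff.2 (hcon s hs)
    have hLn : ∀ s ∈ (S : Subgroup G), s ∈ normalizer (L : Set G) := fun s hs => by
      refine conj_eq_iff.1 ((two _ (h.mov_conj hL s)).resolve_left fun e => hne ?_)
      exact map_injective (MulAut.conj s).injective (e.trans (hKs s hs).symm)
    have h1 : z = 1 := mem_bot.1 ((h.mov_disjoint hK hL hne.symm).2 ▸ ⟨hz K hK hcon, hz L hL hLn⟩)
    exact Invol.ne_one_of_orderOf_two h.z2 h1
  have hcmp : ∀ a b : G, K.map (MulAut.conj (a * b)).toMonoidHom =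
      (K.map (MulAut.conj b).toMonoidHom).map (MulAut.conj a).toMonoidHom := fun a b => by
    rw [Subgroup.map_map]; congr 1; ext x; simp [mul_assoc]
  have hnK : ∀ g, g ∈ normalizer (K : Set G) ↔ K.map (MulAut.conj g).toMonoidHom = K := fun g =>
    conj_eq_iff.symm
  have hsL : K.map (MulAut.conj s).toMonoidHom = L :=
    (two _ (h.mov_conj hK s)).resolve_left fun e => hsK ((hnK s).2 e)
  refine index_two_false h.res (normalizer (K : Set G)) (index_eq_two_iff'.2 ⟨s, fun b => ?_⟩)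
  by_cases hb : b ∈ normalizer (K : Set G)
  · refine Or.inr ⟨hb, fun h1 => hne ?_⟩
    rw [hnK, hcmp, (hnK b).1 hb, hsL] at h1
    exact h1
  · refine Or.inl ⟨?_, hb⟩
    have hbL : K.map (MulAut.conj b).toMonoidHom = L :=
      (two _ (h.mov_conj hK b)).resolve_left fun e => hb ((hnK b).2 e)
    rw [hnK, hcmp, hbL]
    refine (two _ (h.mov_conj hL s)).resolve_right fun e => hne ?_
    exact (map_injective (MulAut.conj s).injective (hsL.trans e.symm)).symm

/-- The outcome. -/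
theorem exists_sylow : ∃ T : Subgroup G, T ≤ A ∧ z ∈ T ∧ (Nat.card T = 8 ∨ Nat.card T = 16) ∧
    ∃ hST : (S : Subgroup G) ≤ normalizer (T : Set G), ∃ D : Subgroup (MulAut ↥T), Odd (Nat.card D) ∧
      (∀ a b : ↥T, a ≠ 1 → b ≠ 1 → ∃ δ ∈ D, δ a = b) ∧
      ∀ s (hs : s ∈ (S : Subgroup G)), T.normalizerMonoidHom ⟨s, hST hs⟩ ∈ normalizer (D : Set (MulAut ↥T)) := by
  classical
  haveI : Fact (Nat.Prime 2) := ⟨Nat.prime_two⟩
  obtain ⟨K, hK, hKn⟩ := h.exists_unique_mov
  haveI := hKn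
  set T := (S : Subgroup G) ⊓ K with hTdef
  have hCK : centralizer (K : Set G) = ⊥ := by
    haveI : (centralizer (K : Set G)).Normal := inferInstance
    by_contra hne
    have hmeet : (S : Subgroup G) ⊓ centralizer (K : Set G) ≠ ⊥ := fun e => by
      have h1 := sylow_inf_normal_relIndex S (centralizer (K : Set G))
      rw [← inf_relIndex_right, e, relIndex_bot_left] at h1
      exact hne (le_bot_iff.1 (h.odd ▸ le_pPrimeCore inferInstance
        ((Nat.prime_two.coprime_iff_not_dvd.2 h1).symm)))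
    have hzC := (h.z_central (one_mem _) inf_le_left hmeet fun r hr x hx =>
      ⟨(S : Subgroup G).mul_mem ((S : Subgroup G).mul_mem hr hx.1) ((S : Subgroup G).inv_mem hr), Subgroup.Normal.conj_mem inferInstance x hx.2 r⟩).1.2
    have hmeet' : (S : Subgroup G) ⊓ K ≠ ⊥ := fun e => by
      have := h.four_le hK
      have hle : A ⊓ K ≤ ⊥ := e ▸ inf_le_inf_right K h.closed.1
      rw [le_bot_iff.1 hle, card_bot] at this
      omega
    have hzK := (h.z_central (one_mem _) inf_le_left hmeet' fun r hr x hx =>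
      ⟨(S : Subgroup G).mul_mem ((S : Subgroup G).mul_mem hr hx.1) ((S : Subgroup G).inv_mem hr), hKn.conj_mem x hx.2 r⟩).1.2
    exact Invol.ne_one_of_orderOf_two h.z2 (h.K_cent hK hzK hzC)
  have hTA : T ≤ A := by
    intro t ht
    refine h.self t ht.1 fun a ha => ?_
    obtain ⟨P, hP, hcl, hel, hne, hcase, hinv, hcent, htr⟩ := Fus.Gold.exists_data h.hyp hK.1 h.closed.1 hK.2
    have h1 := Fus.Gold.twist h.hyp hK.1 h.closed.1 hK.2 t ht.1 ht.2 a ha
    rw [hCK, mem_bot, mul_inv_eq_one, mul_inv_eq_iff_eq_mul] at h1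
    exact h1
  have hTeq : T = A ⊓ K := le_antisymm (le_inf hTA inf_le_right) (inf_le_inf_right K h.closed.1)
  have hST : (S : Subgroup G) ≤ normalizer (T : Set G) := fun r hr => mem_normalizer_fintype fun x hx =>
    ⟨(S : Subgroup G).mul_mem ((S : Subgroup G).mul_mem hr hx.1) ((S : Subgroup G).inv_mem hr), hKn.conj_mem x hx.2 r⟩
  have h4 : 4 ≤ Nat.card T := hTeq ▸ h.four_le hK
  have hzT : z ∈ T := (h.z_central (one_mem _) inf_le_left (fun e => by
    rw [hTdef, e, card_bot] at h4; omega) fun r hr x hx => (mem_normalizer_iff.1 (hST hr) x).1 hx).1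
  set φ := T.normalizerMonoidHom with hφ
  set D : Subgroup (MulAut ↥T) := (K.subgroupOf (normalizer (T : Set G))).map φ with hD
  have hDodd : Odd (Nat.card D) := by
    have h1 : Nat.card D = φ.ker.relIndex (K.subgroupOf (normalizer (T : Set G))) := (relIndex_ker _ φ).symm
    have h2 : T.subgroupOf (normalizer (T : Set G)) ≤ φ.ker := by
      rw [hφ, normalizerMonoidHom_ker]
      intro t ht
      exact mem_subgroupOf.2 (mem_centralizer_iff.2 fun a ha =>
        Grp.elemAb_comm h.elem _ (hTA ha) _ (hTA (mem_subgroupOf.1 ht)))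
    have h3 := relIndex_dvd_of_le_left (K.subgroupOf (normalizer (T : Set G))) h2
    have h5 : (T.subgroupOf (normalizer (T : Set G))).relIndex (K.subgroupOf (normalizer (T : Set G))) =
        T.relIndex (K ⊓ normalizer (T : Set G)) := by
      rw [← inf_subgroupOf_right K, relIndex_subgroupOf inf_le_right]
    have h6 : T.relIndex (K ⊓ normalizer (T : Set G)) ∣ T.relIndex K :=
      Dvd.intro _ (relIndex_mul_relIndex T (K ⊓ normalizer (T : Set G)) K (le_inf inf_le_right le_normalizer) inf_le_left)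
    have h7 : ¬ 2 ∣ T.relIndex K := by
      rw [hTdef, inf_relIndex_right]; exact sylow_inf_normal_relIndex S K
    refine Nat.not_even_iff_odd.1 fun he => h7 (dvd_trans (h5 ▸ dvd_trans ?_ h3) h6)
    exact h1 ▸ even_iff_two_dvd.1 he
  have htrans : ∀ a b : ↥T, a ≠ 1 → b ≠ 1 → ∃ δ ∈ D, δ a = b := by
    intro a b ha hb
    obtain ⟨P, hP, hcl, hel, hne, hcase, hinv, hcent, htr⟩ := Fus.Gold.exists_data h.hyp hK.1 h.closed.1 hK.2
    have ha' := Fus.Gold.mem_kbar (Ab := A) (hTA a.2) a.2.2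
    have hb' := Fus.Gold.mem_kbar (Ab := A) (hTA b.2) b.2.2
    obtain ⟨g, hg, hgab⟩ := htr _ ha' _ hb'
      (fun e => ha (Subtype.ext (h.K_cent hK a.2.2 ((Fus.Gold.mk_eq_one hK.1).1 e))))
      (fun e => hb (Subtype.ext (h.K_cent hK b.2.2 ((Fus.Gold.mk_eq_one hK.1).1 e))))
    obtain ⟨⟨k, hk⟩, rfl⟩ := QuotientGroup.mk_surjective g
    have hkN : k ∈ normalizer (T : Set G) := mem_normalizer_fintype fun x hx => by
      have hx' := Fus.Gold.mem_kbar (Ab := A) (hTA hx) hx.2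
      obtain ⟨⟨y, hyK⟩, hy, hye⟩ := (mem_normalizer_iff.1 hg _).1 hx'
      have h1 : (⟨y, hyK⟩ : ↥K) = ⟨k, hk⟩ * ⟨x, hx.2⟩ * (⟨k, hk⟩ : ↥K)⁻¹ := h.mk_inj hK (by
        rw [QuotientGroup.mk_mul, QuotientGroup.mk_mul, QuotientGroup.mk_inv]; exact hye)
      have h2 : y = k * x * k⁻¹ := congrArg Subtype.val h1
      rw [← h2, SetLike.mem_coe, hTeq]
      exact mem_subgroupOf.1 hy
    refine ⟨φ ⟨k, hkN⟩, ⟨⟨k, hkN⟩, mem_subgroupOf.2 hk, rfl⟩, Subtype.ext ?_⟩
    show k * (a : G) * k⁻¹ = b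
    have h1 : (⟨k, hk⟩ : ↥K) * ⟨a, a.2.2⟩ * (⟨k, hk⟩ : ↥K)⁻¹ = ⟨b, b.2.2⟩ := h.mk_inj hK (by
      rw [QuotientGroup.mk_mul, QuotientGroup.mk_mul, QuotientGroup.mk_inv]; exact hgab)
    exact congrArg Subtype.val h1
  have hDn : ∀ n : ↥(normalizer (T : Set G)), φ n ∈ normalizer (D : Set (MulAut ↥T)) := fun n =>
    mem_normalizer_fintype fun d hd => by
      obtain ⟨k, hk, rfl⟩ := hd
      refine ⟨n * k * n⁻¹, mem_subgroupOf.2 (hKn.conj_mem _ (mem_subgroupOf.1 hk) n), ?_⟩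
      rw [map_mul, map_mul, map_inv]
  refine ⟨T, hTA, hzT, ?_, hST, D, hDodd, htrans, fun s hs => hDn _⟩
  obtain ⟨k, hk⟩ := IsPGroup.iff_card.1 (elemAb_isPGroup (elemAb_mono h.elem hTA))
  have hk4 : k ≤ 4 := (Nat.pow_le_pow_iff_right (le_refl 2)).1 (by
    rw [← hk]; exact le_trans (Nat.card_mono (Set.toFinite _) hTA) h.le16)
  have hk2 : 2 ≤ k := (Nat.pow_le_pow_iff_right (le_refl 2)).1 (by rw [← hk]; exact h4)
  interval_cases k
  · -- a four-group: `K φ⁻¹(D)` has index two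
    exfalso
    have hT4 : Nat.card ↥T = 4 := hk
    have haut : Nat.card (MulAut ↥T) = 6 := by
      rw [card_mulAut_elementary (fun a => Subtype.ext (by
        show (a : G) * a = 1
        rw [← pow_two]; exact h.elem.2 _ (hTA a.2))) hk]
      decide
    obtain ⟨a, haT, ha1, haz⟩ : ∃ a ∈ T, a ≠ 1 ∧ a ≠ z := by
      by_contra hcon
      push Not at hcon
      have hle : (T : Set G) ⊆ {1, z} := fun x hx => by
        by_cases hx1 : x = 1
        · exact Or.inl hx1
        · exact Or.inr (hcon x hx hx1)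
      have := (Set.ncard_le_ncard hle (Set.toFinite _)).trans
        (le_trans (Set.ncard_insert_le _ _) (by rw [Set.ncard_singleton]))
      rw [← Nat.card_coe_set_eq] at this
      have h' : Nat.card ↥T ≤ 2 := this
      omega
    obtain ⟨s, hs, hsa⟩ : ∃ s ∈ (S : Subgroup G), s * a ≠ a * s := by
      by_contra hcon
      push Not at hcon
      exact (h.cen a haT.1 hcon).elim ha1 haz
    set σ := φ ⟨s, hST hs⟩ with hσ
    have hσD : σ ∉ D := fun hmem => by
      obtain ⟨j, hj⟩ := S.isPGroup' ⟨s, hs⟩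
      have h1 : σ ^ (2 ^ j) = 1 := by
        rw [hσ, ← map_pow, show (⟨s, hST hs⟩ : ↥(normalizer (T : Set G))) ^ (2 ^ j) = 1 from
          Subtype.ext (by simpa using congrArg Subtype.val hj), map_one]
      have h2 : σ = 1 := by
        have h4 : orderOf σ ∣ Nat.card ↥D := D.orderOf_dvd_natCard hmem
        exact orderOf_eq_one_iff.1 (Nat.eq_one_of_dvd_coprimes ((Nat.coprime_two_left.2 hDodd).pow_left j)
          (orderOf_dvd_of_pow_eq_one h1) h4)
      have h3 := congrArg (fun f : MulAut ↥T => ((f ⟨a, haT⟩ : ↥T) : G)) h2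
      exact hsa (mul_inv_eq_iff_eq_mul.1 h3)
    have hD3 : 3 ≤ Nat.card D := by
      have hinj : ∀ b : {b : ↥T // b ≠ 1}, ∃ δ : ↥D, (δ : MulAut ↥T) ⟨a, haT⟩ = b.1 := fun b => by
        obtain ⟨δ, hδ, hδe⟩ := htrans ⟨a, haT⟩ b.1 (fun e => ha1 (congrArg Subtype.val e)) b.2
        exact ⟨⟨δ, hδ⟩, hδe⟩
      choose f hf using hinj
      have := Nat.card_le_card_of_injective f fun b b' e => Subtype.ext (by rw [← hf b, ← hf b', e])
      have h3 : Nat.card {b : ↥T // b ≠ 1} = 3 := by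
        haveI := Fintype.ofFinite ↥T
        rw [Nat.card_eq_fintype_card, Fintype.card_subtype_compl, Fintype.card_subtype_eq, ← Nat.card_eq_fintype_card, hT4]
      omega
    have hidx : D.index = 2 := by
      have h1 := D.card_mul_index
      rw [haut] at h1
      have h2 : D.index ≠ 1 := fun e => hσD (by rw [index_eq_one.1 e]; exact mem_top _)
      have h3 : D.index ≤ 2 := by nlinarith
      have h4 : D.index ≠ 0 := Subgroup.index_ne_zero_of_finite
      omega
    set R : Subgroup G := (D.comap φ).map (normalizer (T : Set G)).subtype with hR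
    have hRmem : ∀ n (hn : n ∈ normalizer (T : Set G)), φ ⟨n, hn⟩ ∈ D → n ∈ R := fun n hn hd => ⟨⟨n, hn⟩, hd, rfl⟩
    have hsM : s ∉ K ⊔ R := fun hmem => by
      obtain ⟨k, hk, r, ⟨r', hr', rfl⟩, hkr⟩ := mem_sup_of_normal_left.1 hmem
      have hkN : k ∈ normalizer (T : Set G) := by
        rw [show k = s * (r' : G)⁻¹ by rw [← hkr]; exact (mul_inv_cancel_right k _).symm]
        exact mul_mem (hST hs) (inv_mem r'.2)
      refine hσD ?_
      rw [hσ, show (⟨s, hST hs⟩ : ↥(normalizer (T : Set G))) = ⟨k, hkN⟩ * r' from Subtype.ext hkr.symm, map_mul]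
      exact mul_mem ⟨⟨k, hkN⟩, mem_subgroupOf.2 hk, rfl⟩ hr'
    let P : Sylow 2 ↥K := (S.isPGroup'.comap_subtype (K := K)).toSylow (sylow_inf_normal_relIndex S K)
    have hfr := Sylow.normalizer_sup_eq_top P
    have hmap : (P : Subgroup ↥K).map K.subtype = T := by
      show ((S : Subgroup G).subgroupOf K).map K.subtype = _
      rw [subgroupOf_map_subtype]
    refine index_two_false h.res (K ⊔ R) (index_eq_two_iff'.2 ⟨s, fun b => ?_⟩)
    by_cases hb : b ∈ K ⊔ R
    · refine Or.inr ⟨hb, fun h1 => hsM ?_⟩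
      have := mul_mem h1 (inv_mem hb)
      rwa [mul_inv_cancel_right] at this
    · refine Or.inl ⟨?_, hb⟩
      obtain ⟨k, hk, n, hn, rfl⟩ := mem_sup_of_normal_left.1
        (show b ∈ K ⊔ normalizer (((P : Subgroup ↥K).map K.subtype : Subgroup G) : Set G) by
          rw [sup_comm, hfr]; exact mem_top b)
      rw [hmap] at hn
      have hnD : φ ⟨n, hn⟩ ∉ D := fun hd => hb (mul_mem (mem_sup_left hk) (mem_sup_right (hRmem n hn hd)))
      have hsn : φ ⟨s * n, mul_mem (hST hs) hn⟩ ∈ D := by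
        rw [show (⟨s * n, mul_mem (hST hs) hn⟩ : ↥(normalizer (T : Set G))) = ⟨s, hST hs⟩ * ⟨n, hn⟩ from rfl, map_mul]
        exact (mul_mem_iff_of_index_two hidx).2 ⟨fun e => absurd e hσD, fun e => absurd e hnD⟩
      rw [show s * (k * n) = s * k * s⁻¹ * (s * n) by group]
      exact mul_mem (mem_sup_left (hKn.conj_mem k hk s)) (mem_sup_right (hRmem _ _ hsn))
  · exact Or.inl hk
  · exact Or.inr hk

end GoldHyp

/-- Four operators fixing `z` with small fixed point sets contradict odd transitivity. -/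
theorem four_false {T : Subgroup G} (hT : Cfsg.IsElementaryAbelian 2 T) {k : ℕ} (hk : Nat.card T = 2 ^ k)
    (hk34 : k = 3 ∨ k = 4) {z : G} (hz : z ∈ T) (hz1 : z ≠ 1) {D V : Subgroup (MulAut ↥T)} (hD : Odd (Nat.card D))
    (htr : ∀ a b : ↥T, a ≠ 1 → b ≠ 1 → ∃ δ ∈ D, δ a = b) (hV4 : Nat.card V = 4) (hVsq : ∀ v ∈ V, v * v = 1)
    (hVz : ∀ v ∈ V, v ⟨z, hz⟩ = ⟨z, hz⟩) (hVD : V ≤ normalizer (D : Set (MulAut ↥T)))
    (hfix : ∀ v ∈ V, v ≠ 1 → ∃ f : Finset ↥T, f.card ≤ 4 ∧ ∀ y, v y = y → y ∈ f) : False := by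
  classical
  haveI : Fact (Nat.Prime 2) := ⟨Nat.prime_two⟩
  obtain ⟨p, hp, hp5, hpk, hp2⟩ : ∃ p, p.Prime ∧ 5 ≤ p ∧ p ∣ 2 ^ k - 1 ∧
      ¬ p ^ 2 ∣ ∏ i : Fin k, (2 ^ k - 2 ^ (i : ℕ)) := by
    rcases hk34 with rfl | rfl
    · exact ⟨7, by norm_num, by norm_num, by norm_num, by decide⟩
    · exact ⟨5, by norm_num, by norm_num, by norm_num, by decide⟩
  rw [← card_mulAut_elementary (M := ↥T) (fun a => Subtype.ext (by
    show (a : G) * a = 1
    rw [← pow_two]; exact hT.2 _ a.2)) hk] at hp2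
  set z' : ↥T := ⟨z, hz⟩
  have hz' : z' ≠ 1 := fun e => hz1 (congrArg Subtype.val e)
  have horb : MulAction.orbit ↥D z' = {y : ↥T | y ≠ 1} := by
    ext y
    constructor
    · rintro ⟨δ, rfl⟩ e
      exact hz' ((δ : MulAut ↥T).injective (e.trans (map_one (δ : MulAut ↥T)).symm))
    · intro hy
      obtain ⟨δ, hδ, hδe⟩ := htr z' y hz' hy
      exact ⟨⟨δ, hδ⟩, hδe⟩
  have horb' : MulAction.orbit (MulAut ↥T) z' = {y : ↥T | y ≠ 1} := by
    refine Set.Subset.antisymm ?_ (horb ▸ fun y ⟨δ, hδ⟩ => ⟨δ, hδ⟩)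
    rintro y ⟨f, rfl⟩ e
    exact hz' (f.injective (e.trans (map_one f).symm))
  have hcard : Nat.card {y : ↥T | y ≠ 1} = 2 ^ k - 1 := by
    haveI := Fintype.ofFinite ↥T
    show Nat.card {y : ↥T // y ≠ 1} = _
    rw [Nat.card_eq_fintype_card, Fintype.card_subtype_compl, Fintype.card_subtype_eq, ← Nat.card_eq_fintype_card, hk]
  have hpD : p ∣ Nat.card D := by
    rw [Nat.card_congr (MulAction.orbitProdStabilizerEquivGroup ↥D z').symm, Nat.card_prod, horb, hcard]
    exact hpk.mul_right _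
  obtain ⟨P, hP, hVP⟩ := exists_prime_normalised hp hD hpD hp2 (IsPGroup.of_card (n := 2) hV4) hVD
  exact prime_orbit_false (H := MulAut ↥T) z' hp hp5 (by rw [horb', hcard]; exact hpk) hp2 hV4 hVsq hVz hfix hP hVP

/-- A subgroup of `S` inducing a four-group with small fixed point sets on `A` gives a contradiction. -/
theorem GoldHyp.false_of_four {S : Sylow 2 G} {z : G} {A : Subgroup G} (h : GoldHyp S z A) (B Kb : Subgroup G)
    (hBS : B ≤ (S : Subgroup G)) (hKB : Kb ≤ B) (hidx : Kb.relIndex B = 4) (hsq : ∀ b ∈ B, b * b ∈ Kb)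
    (hKc : ∀ k ∈ Kb, ∀ a ∈ A, k * a = a * k)
    (hfix : ∀ b ∈ B, b ∉ Kb → ∃ f : Finset G, f.card ≤ 4 ∧ ∀ a ∈ A, b * a = a * b → a ∈ f) : False := by
  classical
  obtain ⟨T, hTA, hzT, hcard, hST, D, hD, htr, hSD⟩ := h.exists_sylow
  set φ := T.normalizerMonoidHom with hφ
  set B' := B.subgroupOf (normalizer (T : Set G)) with hB'
  have hBN : B ≤ normalizer (T : Set G) := hBS.trans hST
  have hker : ∀ b : ↥(normalizer (T : Set G)), (b : G) ∈ B → (φ b = 1 ↔ (b : G) ∈ Kb) := by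
    intro b hb
    constructor
    · intro hb1
      by_contra hbK
      obtain ⟨f, hf, hfb⟩ := hfix _ hb hbK
      have hle : (T : Set G) ⊆ (f : Set G) := fun a ha => hfb a (hTA ha) (by
        have h1 := congrArg (fun g : MulAut ↥T => ((g ⟨a, ha⟩ : ↥T) : G)) hb1
        exact mul_inv_eq_iff_eq_mul.1 h1)
      have h2 := Set.ncard_le_ncard hle (Finset.finite_toSet _)
      rw [Set.ncard_coe_finset, ← Nat.card_coe_set_eq] at h2
      have h3 : Nat.card ↥T ≤ 4 := h2.trans hf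
      omega
    · intro hbK
      refine MulEquiv.ext fun a => Subtype.ext ?_
      show (b : G) * a * (b : G)⁻¹ = a
      exact mul_inv_eq_iff_eq_mul.2 (hKc _ hbK _ (hTA a.2))
  have hV4 : Nat.card ↥(B'.map φ) = 4 := by
    rw [← relIndex_ker B' φ, ← inf_relIndex_right, show φ.ker ⊓ B' = Kb.subgroupOf (normalizer (T : Set G)) ⊓ B' from by
      ext b
      simp only [mem_inf, MonoidHom.mem_ker, mem_subgroupOf, hB']
      exact ⟨fun h1 => ⟨(hker b h1.2).1 h1.1, h1.2⟩, fun h1 => ⟨(hker b h1.2).2 h1.1, h1.2⟩⟩,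
      inf_relIndex_right, hB', relIndex_subgroupOf hBN, hidx]
  refine four_false (T := T) (elemAb_mono h.elem hTA) (k := if Nat.card T = 8 then 3 else 4) ?_ ?_ hzT
    (Invol.ne_one_of_orderOf_two h.z2) hD htr hV4 ?_ ?_ ?_ ?_
  · rcases hcard with e | e <;> simp [e]
  · rcases hcard with e | e <;> simp [e]
  · rintro _ ⟨b, hb, rfl⟩
    rw [← map_mul, hker]
    · exact hsq _ hb
    · exact mul_mem hb hb
  · rintro _ ⟨b, hb, rfl⟩
    refine Subtype.ext ?_
    show (b : G) * z * (b : G)⁻¹ = z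
    exact mul_inv_eq_iff_eq_mul.2 ((h.z_central (N := T) (hBS hb) (hTA.trans h.closed.1)
      (fun e => by rw [e, card_bot] at hcard; omega)
      fun r hr x hx => (mem_normalizer_iff.1 (hST hr) x).1 hx).2)
  · rintro _ ⟨b, hb, rfl⟩
    exact hSD _ (hBS hb)
  · rintro _ ⟨b, hb, rfl⟩ hb1
    obtain ⟨f, hf, hfb⟩ := hfix _ hb fun hK => hb1 ((hker b hb).2 hK)
    refine ⟨f.subtype fun x => x ∈ T, ?_, fun y hy => Finset.mem_subtype.2 (hfb _ (hTA y.2) ?_)⟩
    · rw [Finset.card_subtype]; exact (Finset.card_filter_le _ _).trans hf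
    · exact mul_inv_eq_iff_eq_mul.1 (congrArg Subtype.val hy)

end Cfsg.Agent.Transfer.AEightSolv
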