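import Cfsg.Agent.Lib.Transfer.AEightSolv.Global
import Cfsg.Agent.Lib.Transfer.AEightSolv.Gold

/-!
# `E` is not normal modulo the core of the centraliser
-/

set_option autoImplicit false
set_option linter.style.haveILetI false
set_option linter.unusedSectionVars false
set_option maxRecDepth 100000

namespace Cfsg.Agent.Transfer.AEightSolv

open Subgroup Cfsg.Agent.Grp

universe u

theorem outer_count : ∀ n : Fin 64, 16 ≤ (n : ℕ) → mM n n = 0 →
    (Finset.univ.filter fun m : Fin 64 => comM n m = true).card ≤ 16 := by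
  decide +kernel

theorem outer_comm : ∀ n : Fin 64, 16 ≤ (n : ℕ) → mM n n = 0 →
    ∃ p q : Fin 64, comM p n = true ∧ comM q n = true ∧ mM (cM p q) (iM q) = 15 := by
  decide +kernel

theorem outer_fix : ∀ n : Fin 64, 16 ≤ (n : ℕ) →
    (Finset.univ.filter fun m : Fin 16 => comM n m = true).card ≤ 4 := by
  decide +kernel

namespace Ctx

variable {G : Type u} [Group G] [Finite G] {S : Sylow 2 G} {e : ℕ → G} (h : Ctx G S e)
include h

theorem E_self {s : G} (hs : s ∈ (S : Subgroup G)) (hc : ∀ a ∈ h.c.sE, s * a = a * s) : s ∈ h.c.sE := by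
  obtain ⟨n, hn, rfl⟩ := (h.c.mem s).1 hs
  by_contra hE
  obtain ⟨m, -, hmc⟩ := cent_om ⟨n, hn⟩ (Nat.le_of_not_lt fun hlt => hE ⟨n, hlt, rfl⟩)
  have h1 := (h.c.comm_iff hn (show (m : ℕ) < 64 by omega)).1 (hc _ ⟨m, m.2, rfl⟩)
  rw [h1] at hmc
  exact Bool.noConfusion hmc

/-- In the case of a normal `E` it is strongly closed. -/
theorem E_closed {T : Sylow 2 h.Xq} (hl : Local h.Xq T h.eX) (hn : hl.c.sE.Normal) :
    Cfsg.IsStronglyClosed h.c.sE (S : Subgroup G) := by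
  classical
  haveI : Fact (Nat.Prime 2) := ⟨Nat.prime_two⟩
  refine ⟨h.c.sE_le, fun x hx g hg => ?_⟩
  by_contra hgE
  obtain ⟨n, hn64, hne⟩ := (h.c.mem _).1 hg
  have hn16 : 16 ≤ n := Nat.le_of_not_lt fun hlt => hgE (hne ▸ ⟨n, hlt, rfl⟩)
  have hsq : mM n n = 0 := (h.c.sq_iff hn64).1 (by
    rw [hne, show g * x * g⁻¹ * (g * x * g⁻¹) = g * (x * x) * g⁻¹ by group, ← pow_two, h.c.sE_elem.2 x hx]
    group)
  set v := e n with hv
  -- a fully centralised representative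
  obtain ⟨f, ⟨hfE, k0, hk0⟩, hmax⟩ := Set.exists_max_image {f : G | f ∈ h.c.sE ∧ ∃ k : G, k * v * k⁻¹ = f}
    (fun f => Nat.card ↥((S : Subgroup G) ⊓ centralizer ({f} : Set G))) (Set.toFinite _)
    ⟨x, hx, g⁻¹, by rw [hne]; group⟩
  set Cf := (S : Subgroup G) ⊓ centralizer ({f} : Set G) with hCf
  have hEf : h.c.sE ≤ Cf := le_inf h.c.sE_le fun a ha => mem_centralizer_singleton_iff.2 (h.c.sE_comm ha hfE)
  have h16 : 16 ≤ Nat.card Cf := h.c.sE_card ▸ Nat.card_mono (Set.toFinite _) hEf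
  have hfull : ∀ W : Subgroup G, IsPGroup 2 W → Cf ≤ W → W ≤ centralizer ({f} : Set G) → W = Cf := by
    intro W hW hCW hWf
    refine (Subgroup.eq_of_le_of_card_ge hCW ?_).symm
    obtain ⟨k, hk⟩ := Fus.ClosedProduct.move S hW
    have hfk := hk f (hCW (hEf hfE))
    obtain ⟨j, hj, hje⟩ := (h.c.mem _).1 hfk
    have hle : Nat.card W ≤ Nat.card ↥((S : Subgroup G) ⊓ centralizer ({k * f * k⁻¹} : Set G)) := by
      rw [← card_map_of_injective (K := W) (MulAut.conj k).injective (f := (MulAut.conj k).toMonoidHom)]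
      refine Nat.card_mono (Set.toFinite _) ?_
      rintro _ ⟨w, hw, rfl⟩
      refine ⟨hk w hw, mem_centralizer_singleton_iff.2 ?_⟩
      have hc := mem_centralizer_singleton_iff.1 (hWf hw)
      show k * w * k⁻¹ * (k * f * k⁻¹) = k * f * k⁻¹ * (k * w * k⁻¹)
      calc _ = k * (w * f) * k⁻¹ := by group
        _ = _ := by rw [hc]; group
    by_cases hj16 : j < 16
    · exact hle.trans (hmax _ ⟨hje ▸ ⟨j, hj16, rfl⟩, k * k0, by rw [← hk0]; group⟩)
    · refine hle.trans (le_trans ?_ h16)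
      rw [← hje]
      have hjj : mM j j = 0 := (h.c.sq_iff hj).1 (by
        rw [hje, show k * f * k⁻¹ * (k * f * k⁻¹) = k * (f * f) * k⁻¹ by group, ← pow_two, h.c.sE_elem.2 f hfE]
        group)
      refine le_trans ?_ (outer_count ⟨j, hj⟩ (Nat.le_of_not_lt hj16) hjj)
      rw [← Nat.card_eq_finsetCard]
      have hmem : ∀ y : ↥((S : Subgroup G) ⊓ centralizer ({e j} : Set G)), ∃ m : Fin 64, comM j m = true ∧ e m = y := by
        intro y
        obtain ⟨m, hm, hme⟩ := (h.c.mem _).1 y.2.1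
        exact ⟨⟨m, hm⟩, (h.c.comm_iff hj hm).1 (by rw [hme]; exact (mem_centralizer_singleton_iff.1 y.2.2).symm), hme⟩
      choose F hF1 hF2 using hmem
      exact Nat.card_le_card_of_injective
        (fun y => (⟨F y, Finset.mem_filter.2 ⟨Finset.mem_univ _, hF1 y⟩⟩ : {m // m ∈ Finset.univ.filter fun m : Fin 64 => comM j m = true}))
        fun a b he => Subtype.ext (by
          have h' : F a = F b := congrArg Subtype.val he
          rw [← hF2 a, ← hF2 b, h'])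
  -- move `C_S(v)` into `C_S(f)`
  set Cv := ((S : Subgroup G) ⊓ centralizer ({v} : Set G)).map (MulAut.conj k0).toMonoidHom with hCv
  have hCvf : Cv ≤ centralizer ({f} : Set G) := by
    rintro _ ⟨w, hw, rfl⟩
    have hc := mem_centralizer_singleton_iff.1 hw.2
    refine mem_centralizer_singleton_iff.2 ?_
    show k0 * w * k0⁻¹ * f = f * (k0 * w * k0⁻¹)
    rw [← hk0]
    calc _ = k0 * (w * v) * k0⁻¹ := by group
      _ = _ := by rw [hc]; group
  obtain ⟨R, hR⟩ := (show IsPGroup 2 ↥(Cf.subgroupOf (centralizer ({f} : Set G))) from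
    (S.isPGroup'.to_le inf_le_left).comap_subtype).exists_le_sylow
  have hRe : (R : Subgroup ↥(centralizer ({f} : Set G))).map (centralizer ({f} : Set G)).subtype = Cf :=
    hfull _ (R.isPGroup'.map _) (fun a ha => ⟨⟨a, ha.2⟩, hR ha, rfl⟩) (map_subtype_le _)
  obtain ⟨k1, hk1⟩ := Fus.ClosedProduct.move R (show IsPGroup 2 ↥(Cv.subgroupOf (centralizer ({f} : Set G))) from
    ((S.isPGroup'.to_le inf_le_left).map _).comap_subtype)
  have hmove : ∀ w ∈ (S : Subgroup G), w * v = v * w → (k1 : G) * k0 * w * ((k1 : G) * k0)⁻¹ ∈ (S : Subgroup G) := by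
    intro w hw hwv
    have hwC : k0 * w * k0⁻¹ ∈ Cv := ⟨w, ⟨hw, mem_centralizer_singleton_iff.2 hwv⟩, rfl⟩
    have h1 : ((k1 * ⟨_, hCvf hwC⟩ * k1⁻¹ : ↥(centralizer ({f} : Set G))) : G) ∈ Cf :=
      hRe ▸ mem_map_of_mem _ (hk1 _ (mem_subgroupOf.2 hwC))
    rw [show (k1 : G) * k0 * w * ((k1 : G) * k0)⁻¹ = k1 * (k0 * w * k0⁻¹) * (k1 : G)⁻¹ by group]
    exact h1.1
  obtain ⟨k, hk⟩ : ∃ k, k = (k1 : G) * k0 := ⟨_, rfl⟩
  have hkv : k * v * k⁻¹ = f := by
    rw [hk, show (k1 : G) * k0 * v * ((k1 : G) * k0)⁻¹ = k1 * (k0 * v * k0⁻¹) * (k1 : G)⁻¹ by group, hk0,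
      mem_centralizer_singleton_iff.1 k1.2, mul_inv_cancel_right]
  obtain ⟨p, q, hp, hq, hpq⟩ := outer_comm ⟨n, hn64⟩ hn16 hsq
  have hzE : k * e 15 * k⁻¹ ∈ h.c.sE := by
    have hz : e p * e q * (e p)⁻¹ * (e q)⁻¹ = e 15 := by
      rw [h.c.conj p.2 q.2, h.c.inv q.2, h.c.mul _ (cM_lt _ _) _ (iM_lt _)]
      exact congrArg e hpq
    rw [← hz, show k * (e p * e q * (e p)⁻¹ * (e q)⁻¹) * k⁻¹ =
      k * e p * k⁻¹ * (k * e q * k⁻¹) * (k * e p * k⁻¹)⁻¹ * (k * e q * k⁻¹)⁻¹ by group, hk]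
    exact h.e_comm_mem (hmove _ (h.c.e_mem p.2) ((h.c.comm_iff p.2 hn64).2 hp))
      (hmove _ (h.c.e_mem q.2) ((h.c.comm_iff q.2 hn64).2 hq))
  obtain ⟨m, -, hmN, hmz⟩ := h.fusion_E le_top (mem_top k) (show e 15 ∈ h.c.sE from ⟨15, by norm_num, rfl⟩) hzE
  have hh : m⁻¹ * k ∈ centralizer ({e 15} : Set G) := mem_centralizer_singleton_iff.2 (mul_inv_eq_iff_eq_mul.1 (by
    calc m⁻¹ * k * e 15 * (m⁻¹ * k)⁻¹ = m⁻¹ * (k * e 15 * k⁻¹) * m := by group
      _ = m⁻¹ * (m * e 15 * m⁻¹) * m := by rw [hmz]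
      _ = _ := by group))
  obtain ⟨i, hi, hie⟩ := (mem_normalizer_iff.1 (inv_mem hmN) f).1 hfE
  have hpr : h.pr hh * h.eX n * (h.pr hh)⁻¹ = h.eX i := by
    rw [h.eX_eq hn64, h.eX_eq (show i < 64 by omega), ← map_inv, ← map_mul, ← map_mul]
    refine congrArg _ (Subtype.ext ?_)
    show m⁻¹ * k * e n * (m⁻¹ * k)⁻¹ = e i
    rw [hie, ← hkv, ← hv]
    group
  have hiX : h.eX i ∈ hl.c.sE := ⟨i, hi, rfl⟩
  have hnX : h.eX n ∈ hl.c.sE := by
    have h1 := hn.conj_mem _ hiX (h.pr hh)⁻¹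
    rwa [inv_inv, ← hpr, show (h.pr hh)⁻¹ * (h.pr hh * h.eX n * (h.pr hh)⁻¹) * h.pr hh = h.eX n by group] at h1
  exact absurd ((hl.c.e_mem_sE hn64).1 hnX) (by omega)

/-- `E` is not normal modulo the core. -/
theorem caseA {T : Sylow 2 h.Xq} (hl : Local h.Xq T h.eX) (hn : hl.c.sE.Normal) : False := by
  classical
  have hg : GoldHyp S (e 15) h.c.sE :=
    ⟨h.res, h.odd, h.two, ⟨15, by norm_num, rfl⟩, h.c.z_order, fun x hx hc => h.center_two hx hc, h.c.sE_elem,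
      h.E_closed hl hn, h.c.sE_card.le, fun s hs hc => h.E_self hs hc⟩
  refine hg.false_of_four (S : Subgroup G) h.c.sE le_rfl h.c.sE_le ?_ (fun b hb => ?_)
    (fun k hk a ha => h.c.sE_comm hk ha) fun b hb hbE => ?_
  · have h1 := card_mul_relIndex h.c.sE_le
    rw [h.c.sE_card, h.c.card] at h1
    omega
  · obtain ⟨m, hm, rfl⟩ := (h.c.mem b).1 hb
    rw [h.c.mul m hm m hm]
    exact ⟨_, sq_ok ⟨m, hm⟩, rfl⟩
  · obtain ⟨n, hn64, rfl⟩ := (h.c.mem b).1 hb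
    have hn16 : 16 ≤ n := Nat.le_of_not_lt fun hlt => hbE ⟨n, hlt, rfl⟩
    refine ⟨(Finset.univ.filter fun m : Fin 16 => comM n m = true).image fun m : Fin 16 => e m,
      Finset.card_image_le.trans (outer_fix ⟨n, hn64⟩ hn16), fun a ha hba => ?_⟩
    obtain ⟨m, hm, rfl⟩ := ha
    exact Finset.mem_image.2 ⟨⟨m, hm⟩, Finset.mem_filter.2 ⟨Finset.mem_univ _,
      (h.c.comm_iff hn64 (show m < 64 by omega)).1 hba⟩, rfl⟩

end Ctx

end Cfsg.Agent.Transfer.AEightSolv
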