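import Cfsg.Agent.Lib.Transfer.AEightSolv.Sig

/-!
# The large shape: the core of the centraliser of `z` is trivial
-/

set_option autoImplicit false
set_option linter.style.haveILetI false
set_option linter.unusedSectionVars false
set_option maxRecDepth 100000

namespace Cfsg.Agent.Transfer.AEightSolv

open Subgroup Cfsg.Agent.Grp

universe u

/-- the orbit of `z`: itself and one odd class -/
def orbL (cl : Bool) (m : ℕ) : Bool := orbM false false false cl (!cl) m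

theorem five_partner : ∀ cl : Bool, ∀ t : Fin 16, (t : ℕ) ≠ 0 → orbL cl t = false →
    ∃ o : Fin 16, orbL cl o = true ∧ orbL cl (mM o t) = true := by
  decide +kernel

theorem five_unique : ∀ cl : Bool, ∀ t o m : Fin 16, (t : ℕ) ≠ 0 → orbL cl o = true → orbL cl (mM o t) = true →
    orbL cl m = true → orbL cl (mM m t) = true → (m : ℕ) = o ∨ (m : ℕ) = mM o t := by
  decide +kernel

theorem outer_commE : ∀ n : Fin 64, 16 ≤ (n : ℕ) → mM n n = 0 → ∀ m : Fin 16, inL (vP n) m = true →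
    comM m n = true := by
  decide +kernel

theorem mM_E : ∀ a b : Fin 16, mM a b < 16 := by decide +kernel

theorem four_one : ∀ m : Fin 16, inL 1 m = true → (m : ℕ) = 0 ∨ (m : ℕ) = 15 ∨ (m : ℕ) = 3 ∨ (m : ℕ) = 12 := by
  decide +kernel

/-- Glauberman's theorem modulo a central involution. -/
theorem zstar_mod {G : Type u} [Group G] [Finite G] {t b : G} (ht : orderOf t = 2) (hb : b * b = 1) (hb1 : b ≠ 1)
    (hbne : b ≠ t) {A : Subgroup G} (hA : IsPGroup 2 A) (hAC : A ≤ centralizer ({t} : Set G)) (htA : t ∈ A)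
    (hbA : b ∈ A)
    (hiso : ∀ R : Subgroup G, IsPGroup 2 R → R ≤ centralizer ({t} : Set G) → A ≤ R →
      ∀ y ∈ centralizer ({t} : Set G), y * b * y⁻¹ ∈ R → y * b * y⁻¹ = b ∨ y * b * y⁻¹ = b * t)
    {g : G} (hg : g ∈ centralizer ({t} : Set G)) : g * b * g⁻¹ * b⁻¹ ∈ theta t ⊔ zpowers t := by
  classical
  haveI : Fact (Nat.Prime 2) := ⟨Nat.prime_two⟩
  have htsq : t * t = 1 := (Invol.orderOf_two_iff.1 ht).1
  set Ct := centralizer ({t} : Set G) with hCt
  let t' : ↥Ct := ⟨t, hAC htA⟩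
  let b' : ↥Ct := ⟨b, hAC hbA⟩
  set Z := zpowers t' with hZ
  have hZc : ∀ z ∈ Z, ∀ y : ↥Ct, z * y = y * z := fun z hz y => by
    obtain ⟨i, rfl⟩ := hz
    exact ((show Commute t' y from Subtype.ext (mem_centralizer_singleton_iff.1 y.2).symm).zpow_left i).eq
  haveI : Z.Normal := ⟨fun z hz y => by rw [← hZc z hz y, mul_inv_cancel_right]; exact hz⟩
  have ht2 : orderOf t' = 2 := by rw [← Subgroup.orderOf_coe]; exact ht
  have hZ2 : IsPGroup 2 Z := IsPGroup.of_card (n := 1) (by rw [hZ, Nat.card_zpowers, ht2, pow_one])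
  have hZmem : ∀ z ∈ Z, (z : G) = 1 ∨ (z : G) = t := fun z hz => by
    obtain ⟨i, rfl⟩ := hz
    show ((t' ^ i : ↥Ct) : G) = 1 ∨ ((t' ^ i : ↥Ct) : G) = t
    rw [SubgroupClass.coe_zpow]
    show t ^ i = 1 ∨ t ^ i = t
    rcases Int.even_or_odd i with ⟨j, rfl⟩ | ⟨j, rfl⟩
    · left; rw [zpow_add, ← (Commute.refl t).mul_zpow, htsq, one_zpow]
    · right; rw [zpow_add, zpow_mul, zpow_ofNat, pow_two, htsq, one_zpow, one_mul, zpow_one]
  set π := QuotientGroup.mk' Z with hπ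
  obtain ⟨P, hP⟩ := (show IsPGroup 2 ↥(A.subgroupOf Ct) from hA.comap_subtype).exists_le_sylow
  have hAP : A ≤ (P : Subgroup ↥Ct).map Ct.subtype := fun a ha => ⟨⟨a, hAC ha⟩, hP (mem_subgroupOf.2 ha), rfl⟩
  have hbP : b' ∈ (P : Subgroup ↥Ct) := hP (mem_subgroupOf.2 hbA)
  have htP : t' ∈ (P : Subgroup ↥Ct) := hP (mem_subgroupOf.2 htA)
  have hb2 : orderOf (π b') = 2 := by
    refine Invol.orderOf_two_iff.2 ⟨?_, fun e1 => ?_⟩
    · rw [← map_mul, show b' * b' = 1 from Subtype.ext hb, map_one]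
    · rcases hZmem _ ((QuotientGroup.eq_one_iff b').1 e1) with e2 | e2
      · exact hb1 e2
      · exact hbne e2
  obtain ⟨N, hN, hodd, hcomm⟩ := S0215.result (P.mapSurjective (QuotientGroup.mk'_surjective Z)) (π b') hb2
    (by show π b' ∈ ((P.mapSurjective (QuotientGroup.mk'_surjective Z) : Sylow 2 (↥Ct ⧸ Z)) : Subgroup (↥Ct ⧸ Z)); rw [Sylow.coe_mapSurjective]; exact mem_map_of_mem _ hbP)
    fun y hy => by
      obtain ⟨y, rfl⟩ := QuotientGroup.mk'_surjective Z y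
      change _ ∈ ((P.mapSurjective (QuotientGroup.mk'_surjective Z) : Sylow 2 (↥Ct ⧸ Z)) : Subgroup (↥Ct ⧸ Z)) at hy
      rw [Sylow.coe_mapSurjective] at hy
      obtain ⟨p, hp, hpe⟩ := hy
      rw [← map_inv, ← map_mul, ← map_mul] at hpe ⊢
      have hmem : y * b' * y⁻¹ ∈ (P : Subgroup ↥Ct) := by
        have h3 := (P : Subgroup ↥Ct).mul_mem hp (zpowers_le.2 htP ((QuotientGroup.eq).1 hpe))
        rwa [mul_inv_cancel_left] at h3
      refine QuotientGroup.eq.2 ?_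
      rcases hiso _ (P.isPGroup'.map _) (map_subtype_le _) hAP y y.2 ⟨_, hmem, rfl⟩ with e1 | e1
      · rw [show y * b' * y⁻¹ = b' from Subtype.ext e1, inv_mul_cancel]; exact one_mem _
      · rw [show y * b' * y⁻¹ = b' * t' from Subtype.ext e1, mul_inv_rev, inv_mul_cancel_right]
        exact inv_mem (mem_zpowers _)
  have hNle : N ≤ Cfsg.pPrimeCore 2 (↥Ct ⧸ Z) := le_pPrimeCore hN (Nat.coprime_two_right.2 hodd)
  set w := b' * ⟨g, hg⟩ * b'⁻¹ * (⟨g, hg⟩ : ↥Ct)⁻¹ with hw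
  have hwN : π w ∈ Cfsg.pPrimeCore 2 (↥Ct ⧸ Z) :=
    hNle (by rw [hw, map_mul, map_mul, map_mul, map_inv, map_inv]; exact hcomm _)
  have hsplit : ∀ w : ↥Ct, π w ∈ Cfsg.pPrimeCore 2 (↥Ct ⧸ Z) → (w : G) ∈ theta t ⊔ zpowers t := by
    intro w hw'
    set m := Nat.card ↥(Cfsg.pPrimeCore 2 (↥Ct ⧸ Z))
    have hm : Odd m := Nat.coprime_two_right.1 pPrimeCore_coprime
    obtain ⟨k, hk⟩ := hm
    have h3 : π (w ^ m) = 1 := by
      rw [map_pow]
      exact orderOf_dvd_iff_pow_eq_one.1 ((Cfsg.pPrimeCore 2 (↥Ct ⧸ Z)).orderOf_dvd_natCard hw')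
    have h4 : w ^ m ∈ Z := (QuotientGroup.eq_one_iff _).1 h3
    obtain ⟨y, hy⟩ : ∃ y, y = w ^ (m + 1) := ⟨_, rfl⟩
    have hym : y ^ m = 1 := by
      rw [hy, ← pow_mul, mul_comm, pow_mul, hk, show 2 * k + 1 + 1 = 2 * (k + 1) by omega, pow_mul]
      have h5 : (w ^ (2 * k + 1)) ^ 2 = 1 := by
        rw [← hk]
        rcases hZmem _ h4 with e1 | e1
        · rw [show w ^ m = 1 from Subtype.ext e1, one_pow]
        · rw [show w ^ m = t' from Subtype.ext e1, ← ht2, pow_orderOf_eq_one]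
      rw [h5, one_pow]
    have hyc : y ∈ Cfsg.pPrimeCore 2 ↥Ct := odd_mem_core_of_central Z hZ2 hZc
      (by show π y ∈ _; rw [hy, map_pow]; exact pow_mem hw' _)
      ((show Odd m from ⟨k, hk⟩).of_dvd_nat (orderOf_dvd_of_pow_eq_one hym))
    have hwy : (w : G) = (y : G) * ((w ^ m : ↥Ct) : G)⁻¹ := by
      rw [hy]; simp only [SubgroupClass.coe_pow]; rw [pow_succ', mul_inv_cancel_right]
    rw [hwy]
    refine mul_mem (mem_sup_left ⟨y, hyc, rfl⟩) (inv_mem (mem_sup_right ?_))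
    rcases hZmem _ h4 with e1 | e1
    · rw [e1]; exact one_mem _
    · rw [e1]; exact mem_zpowers _
  have h6 := hsplit _ hwN
  rw [show g * b * g⁻¹ * b⁻¹ = (b * g * b⁻¹ * g⁻¹)⁻¹ by group]
  exact inv_mem h6

namespace Coords

variable {G : Type u} [Group G] {S : Subgroup G} {e : ℕ → G}

/-- the four-group of two codes in `E` -/
def fourC (c : Coords S e) {t r : ℕ} (ht : t < 16) (hr : r < 16) : Subgroup G where
  carrier := {x | x = 1 ∨ x = e t ∨ x = e r ∨ x = e r * e t}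
  one_mem' := Or.inl rfl
  mul_mem' := by
    have ct := c.E_sq ht
    have cr := c.E_sq hr
    have cc := c.sE_comm (show e t ∈ c.sE from ⟨t, ht, rfl⟩) (show e r ∈ c.sE from ⟨r, hr, rfl⟩)
    have c1 : ∀ y : G, e t * (e t * y) = y := fun y => by rw [← mul_assoc, ct, one_mul]
    have c2 : ∀ y : G, e r * (e r * y) = y := fun y => by rw [← mul_assoc, cr, one_mul]
    have c3 : ∀ y : G, e t * (e r * y) = e r * (e t * y) := fun y => by rw [← mul_assoc, cc, mul_assoc]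
    rintro x y (rfl | rfl | rfl | rfl) (rfl | rfl | rfl | rfl) <;> simp [mul_assoc, ct, cr, cc, c1, c2, c3]
  inv_mem' := by
    have ct := c.E_sq ht
    have cr := c.E_sq hr
    have cc := c.sE_comm (show e t ∈ c.sE from ⟨t, ht, rfl⟩) (show e r ∈ c.sE from ⟨r, hr, rfl⟩)
    rintro x (rfl | rfl | rfl | rfl)
    · exact Or.inl inv_one
    · exact Or.inr (Or.inl (inv_eq_of_mul_eq_one_right ct))
    · exact Or.inr (Or.inr (Or.inl (inv_eq_of_mul_eq_one_right cr)))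
    · exact Or.inr (Or.inr (Or.inr (by rw [mul_inv_rev, inv_eq_of_mul_eq_one_right ct, inv_eq_of_mul_eq_one_right cr, cc])))

theorem fourC_le (c : Coords S e) {t r : ℕ} (ht : t < 16) (hr : r < 16) : c.fourC ht hr ≤ c.sE := by
  rintro x (rfl | rfl | rfl | rfl)
  exacts [one_mem _, ⟨t, ht, rfl⟩, ⟨r, hr, rfl⟩, mul_mem ⟨r, hr, rfl⟩ ⟨t, ht, rfl⟩]

end Coords

namespace Ctx

variable {G : Type u} [Group G] [Finite G] {S : Sylow 2 G} {e : ℕ → G} (h : Ctx G S e)
variable {T : Sylow 2 h.Xq} (hq : LocalQ h.Xq T h.eX)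
include h hq

/-- With no pair in the orbit, every conjugate of `z` in `S` lies in `E`. -/
theorem O_mem_E {cl : Bool} (horb : ∀ m < 16, h.IsO m ↔ orbL cl m = true) {x : G} (hx : x ∈ (S : Subgroup G))
    (hxO : ∃ g : G, g * e 15 * g⁻¹ = x) : x ∈ h.c.sE := by
  obtain ⟨n, hn, rfl⟩ := (h.c.mem x).1 hx
  by_contra hE
  have h16 : 16 ≤ n := Nat.le_of_not_lt fun hlt => hE ⟨n, hlt, rfl⟩
  obtain ⟨g, hg⟩ := hxO
  have hsq : mM n n = 0 := (h.c.sq_iff hn).1 (by
    rw [← hg, show g * e 15 * g⁻¹ * (g * e 15 * g⁻¹) = g * (e 15 * e 15) * g⁻¹ by group, h.c.z_sq]; group)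
  obtain ⟨hv, -⟩ := h.outer_to_pair hq hn h16 hsq
  have hO := (horb _ (vOk_uM hv).1).1 ((h.O_outer hq hn h16 hsq).1 ⟨g, hg⟩)
  rw [(by decide +kernel : ∀ cl : Bool, ∀ v : Fin 4, 1 ≤ (v : ℕ) → orbL cl (uM v) = false) cl ⟨_, hv.2⟩ hv.1] at hO
  exact Bool.noConfusion hO

/-- The centraliser of an involution outside the orbit is its core times the normaliser of a four-group. -/
theorem five_split {cl : Bool} (horb : ∀ m < 16, h.IsO m ↔ orbL cl m = true) {t : ℕ} (ht : t < 16) (ht0 : t ≠ 0)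
    (htO : ¬ h.IsO t) : ∃ o, ∃ ho : o < 16, h.IsO o ∧ h.IsO (mM o t) ∧ e o ≠ e t ∧
      ∀ g ∈ centralizer ({e t} : Set G), ∃ r ∈ theta (e t),
        r⁻¹ * g ∈ normalizer (h.c.fourC ht ho : Set G) ∧ r⁻¹ * g ∈ centralizer ({e t} : Set G) := by
  have htb : orbL cl t = false := by
    by_contra hh
    rw [Bool.not_eq_false] at hh
    exact htO ((horb t ht).2 hh)
  obtain ⟨⟨o, ho⟩, hoO, hotO⟩ := five_partner cl ⟨t, ht⟩ ht0 htb
  simp only at hoO hotO
  have hot : mM o t < 16 := mM_E ⟨o, ho⟩ ⟨t, ht⟩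
  have hne : e o ≠ e t := fun he => htO (((h.c.eq_iff (show o < 64 by omega) (show t < 64 by omega)).1 he) ▸ (horb o ho).2 hoO)
  refine ⟨o, ho, (horb o ho).2 hoO, (horb _ hot).2 hotO, hne, fun g hg => ?_⟩
  have htE : e t ∈ h.c.sE := ⟨t, ht, rfl⟩
  have hoE : e o ∈ h.c.sE := ⟨o, ho, rfl⟩
  have hmul : e o * e t = e (mM o t) := h.c.mul o (by omega) t (by omega)
  have hEC : h.c.sE ≤ centralizer ({e t} : Set G) := fun a ha =>
    mem_centralizer_singleton_iff.2 (h.c.sE_comm ha htE)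
  have hgb := zstar_mod ((h.c.order_two (by omega)).2 ⟨sq_E ⟨t, ht⟩, ht0⟩) (h.c.E_sq ho)
    (h.O_ne ((horb o ho).2 hoO)) hne (elemAb_isPGroup h.c.sE_elem) hEC htE hoE (fun R hR _ hER y hy hyR => by
      obtain ⟨k, hk, hkS⟩ := h.move_norm hR hER
      have hconj : ∀ {x : G}, x ∈ R → (∃ g : G, g * e 15 * g⁻¹ = x) → x ∈ h.c.sE := by
        rintro x hxR ⟨g', hg'⟩
        refine (mem_normalizer_iff.1 hk x).2 (h.O_mem_E hq horb (hkS x hxR) ⟨k * g', ?_⟩)
        rw [← hg']; group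
      obtain ⟨g1, hg1⟩ := (horb o ho).2 hoO
      obtain ⟨g2, hg2⟩ := (horb _ hot).2 hotO
      obtain ⟨m, hm, hme⟩ := hconj hyR ⟨y * g1, by rw [← hg1]; group⟩
      have hyt : y * e t * y⁻¹ = e t := mul_inv_eq_iff_eq_mul.2 (mem_centralizer_singleton_iff.1 hy)
      have hyx : y * e (mM o t) * y⁻¹ = y * e o * y⁻¹ * e t := by
        conv_rhs => rw [← hyt]
        rw [← hmul]; group
      obtain ⟨m', hm', hme'⟩ := hconj (mul_mem hyR (hER htE)) ⟨y * g2, by rw [← hyx, ← hg2]; group⟩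
      have hmm : mM m t = m' := (h.c.eq_iff (mM_lt _ _) (by omega)).1 (by
        rw [← h.c.mul m (by omega) t (by omega), hme, hme'])
      have hmO : h.IsO m := ⟨y * g1, by rw [hme, ← hg1]; group⟩
      have hmO' : h.IsO (mM m t) := ⟨y * g2, by rw [hmm, hme', ← hyx, ← hg2]; group⟩
      rcases five_unique cl ⟨t, ht⟩ ⟨o, ho⟩ ⟨m, hm⟩ ht0 hoO hotO ((horb m hm).1 hmO)
        ((horb _ (mM_E ⟨m, hm⟩ ⟨t, ht⟩)).1 hmO') with e1 | e1 <;> simp only at e1
      · exact Or.inl (by rw [← hme, e1])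
      · exact Or.inr (by rw [← hme, e1, hmul])) hg
  set F := h.c.fourC ht ho with hF
  have hFE : F ≤ h.c.sE := h.c.fourC_le ht ho
  have htF : e t ∈ F := Or.inr (Or.inl rfl)
  have hoF : e o ∈ F := Or.inr (Or.inr (Or.inl rfl))
  have hgt : g * e t * g⁻¹ = e t := mul_inv_eq_iff_eq_mul.2 (mem_centralizer_singleton_iff.1 hg)
  have hgo : g * e o * g⁻¹ ∈ theta (e t) ⊔ F := by
    have h8 := mul_mem ((sup_le_sup_left (zpowers_le.2 htF) (theta (e t))) hgb) (mem_sup_right (S := theta (e t)) hoF)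
    rwa [inv_mul_cancel_right] at h8
  obtain ⟨r, hr, hrn⟩ := exists_frattini (theta_odd (e t)) (elemAb_isPGroup (elemAb_mono h.c.sE_elem hFE))
    (fun p hp => mem_normalizer_fintype fun y hy => centralizerPPrimeCore_conj (h.c.sE_comm (hFE hp) htE) hy)
    (h := g) (by
      rintro p (rfl | rfl | rfl | rfl)
      · rw [mul_one, mul_inv_cancel]; exact one_mem _
      · rw [hgt]; exact mem_sup_right htF
      · exact hgo
      · rw [show g * (e o * e t) * g⁻¹ = g * e o * g⁻¹ * (g * e t * g⁻¹) by group, hgt]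
        exact mul_mem hgo (mem_sup_right htF))
  exact ⟨r, hr, hrn, mul_mem (inv_mem (theta_le _ hr)) hg⟩

/-- Every involution of `E` has a solvable centraliser. -/
theorem five_solv {cl : Bool} (horb : ∀ m < 16, h.IsO m ↔ orbL cl m = true) {t : ℕ} (ht : t < 16) (ht0 : t ≠ 0) :
    Group.IsSolvable ↥(centralizer ({e t} : Set G)) := by
  classical
  by_cases htO : h.IsO t
  · exact h.O_solvable htO
  obtain ⟨o, ho, hoO, -, hne, hsplit⟩ := h.five_split hq horb ht ht0 htO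
  haveI := h.O_solvable hoO
  set F := h.c.fourC ht ho with hF
  set Ct := centralizer ({e t} : Set G) with hCt
  set N := normalizer (F : Set G) ⊓ Ct with hN
  have htF : e t ∈ F := Or.inr (Or.inl rfl)
  have hoF : e o ∈ F := Or.inr (Or.inr (Or.inl rfl))
  have hsqc : ∀ n : ↥N, ∀ x ∈ F, (n : G) * n * x = x * (n * n) := by
    intro n x hx
    have hnt : (n : G) * e t * (n : G)⁻¹ = e t := mul_inv_eq_iff_eq_mul.2 (mem_centralizer_singleton_iff.1 n.2.2)
    have hno : (n : G) * ((n : G) * e o * (n : G)⁻¹) * (n : G)⁻¹ = e o := by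
      rcases (mem_normalizer_iff.1 n.2.1 (e o)).1 hoF with e1 | e1 | e1 | e1
      · exact absurd (conj_eq_one_iff.1 e1) (h.O_ne hoO)
      · refine absurd ?_ hne
        rw [← hnt] at e1
        exact mul_left_cancel (mul_right_cancel e1)
      · rw [e1, e1]
      · rw [e1, show (n : G) * (e o * e t) * (n : G)⁻¹ = (n : G) * e o * (n : G)⁻¹ * ((n : G) * e t * (n : G)⁻¹) by group,
          e1, hnt, mul_assoc, h.c.E_sq ht, mul_one]
    refine mul_inv_eq_iff_eq_mul.1 ?_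
    rw [show (n : G) * n * x * ((n : G) * n)⁻¹ = (n : G) * ((n : G) * x * (n : G)⁻¹) * (n : G)⁻¹ by group]
    rcases hx with rfl | rfl | rfl | rfl
    · group
    · rw [hnt, hnt]
    · exact hno
    · conv_rhs => rw [← hno, ← hnt, ← hnt]
      group
  let f : ↥N →* MulAut ↥F := F.normalizerMonoidHom.comp (Subgroup.inclusion inf_le_left)
  have hker : ∀ n ∈ f.ker, ((n : ↥N) : G) ∈ centralizer ({e o} : Set G) := fun n hn => by
    have h1 : Subgroup.inclusion (inf_le_left : N ≤ normalizer (F : Set G)) n ∈ F.normalizerMonoidHom.ker := hn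
    rw [normalizerMonoidHom_ker, mem_subgroupOf, mem_centralizer_iff] at h1
    exact mem_centralizer_singleton_iff.2 (h1 _ hoF).symm
  haveI : Group.IsSolvable ↥f.ker :=
    Group.isSolvable_of_isSolvable_injective
      (f := (N.subtype.comp f.ker.subtype).codRestrict (centralizer ({e o} : Set G)) fun n => hker n n.2)
      fun a b he => Subtype.ext (Subtype.ext (congrArg Subtype.val he :))
  have hf2 : ∀ y : ↥f.range, y * y = 1 := by
    rintro ⟨_, n, rfl⟩
    refine Subtype.ext ?_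
    show f n * f n = 1
    rw [← map_mul, ← MonoidHom.mem_ker]
    show Subgroup.inclusion (inf_le_left : N ≤ normalizer (F : Set G)) (n * n) ∈ F.normalizerMonoidHom.ker
    rw [normalizerMonoidHom_ker, mem_subgroupOf, mem_centralizer_iff]
    exact fun x hx => (hsqc n x hx).symm
  haveI : Group.IsSolvable ↥f.range := Group.isSolvable_of_comm fun a b => by
    calc a * b = (a * b)⁻¹ := (inv_eq_of_mul_eq_one_right (hf2 _)).symm
      _ = _ := by rw [mul_inv_rev, inv_eq_of_mul_eq_one_right (hf2 a), inv_eq_of_mul_eq_one_right (hf2 b)]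
  haveI : Group.IsSolvable ↥N := Group.isSolvable_of_ker_le_range f.ker.subtype f.rangeRestrict (by
    rw [MonoidHom.ker_rangeRestrict, Subgroup.range_subtype])
  haveI : (Cfsg.pPrimeCore 2 ↥Ct).Normal := pPrimeCore_isNormal
  haveI : Group.IsSolvable ↥(Cfsg.pPrimeCore 2 ↥Ct) := S0205.result (Nat.coprime_two_right.1 pPrimeCore_coprime)
  let ψ : ↥N →* ↥Ct ⧸ Cfsg.pPrimeCore 2 ↥Ct :=
    (QuotientGroup.mk' _).comp (Subgroup.inclusion (inf_le_right : N ≤ Ct))
  have hψ : Function.Surjective ψ := by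
    intro q
    obtain ⟨g, rfl⟩ := QuotientGroup.mk'_surjective _ q
    obtain ⟨r, hr, hrn, hrc⟩ := hsplit g g.2
    obtain ⟨r', hr', rfl⟩ := hr
    refine ⟨⟨_, hrn, hrc⟩, ?_⟩
    refine QuotientGroup.eq.2 ?_
    have h1 : (Subgroup.inclusion (inf_le_right : N ≤ Ct) ⟨_, hrn, hrc⟩)⁻¹ * g = g⁻¹ * r' * g := by
      refine Subtype.ext ?_
      show ((r' : G)⁻¹ * (g : G))⁻¹ * g = (g : G)⁻¹ * r' * g
      group
    rw [h1]
    have := pPrimeCore_isNormal.conj_mem r' hr' g⁻¹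
    rwa [inv_inv] at this
  haveI : Group.IsSolvable (↥Ct ⧸ Cfsg.pPrimeCore 2 ↥Ct) := Group.isSolvable_of_surjective hψ
  exact Group.isSolvable_of_ker_le_range (Cfsg.pPrimeCore 2 ↥Ct).subtype (QuotientGroup.mk' (Cfsg.pPrimeCore 2 ↥Ct))
    (by rw [QuotientGroup.ker_mk', Subgroup.range_subtype])

/-- The core of `C(z)` is trivial. -/
theorem large_theta (hl : hq.Large) : theta (e 15) = ⊥ := by
  classical
  have hcases : (∀ m < 16, m ≠ 0 → h.IsO m) ∨ ∃ cl, ∀ m < 16, h.IsO m ↔ orbL cl m = true := by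
    rcases h.large_shapes hq hl with hall | ⟨hno, hab⟩
    · exact Or.inl hall
    have p3 : h.oB 3 = false := h.oB_false.2 (hno 1 ⟨le_rfl, by norm_num⟩)
    have p5 : h.oB 5 = false := h.oB_false.2 (hno 2 ⟨by norm_num, by norm_num⟩)
    have p9 : h.oB 9 = false := h.oB_false.2 (hno 3 ⟨by norm_num, by norm_num⟩)
    refine Or.inr ?_
    rcases hab with ⟨ha, hb⟩ | ⟨hb, ha⟩
    · exact ⟨true, fun m hm => by rw [h.orb_iff hm, p3, p5, p9, h.oB_iff.2 ha, h.oB_false.2 hb]; rfl⟩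
    · exact ⟨false, fun m hm => by rw [h.orb_iff hm, p3, p5, p9, h.oB_false.2 ha, h.oB_iff.2 hb]; rfl⟩
  have hsol : ∀ a ∈ h.c.sE, a ≠ 1 → Group.IsSolvable ↥(centralizer ({a} : Set G)) := by
    rintro _ ⟨m, hm, rfl⟩ ha1
    have hm0 : m ≠ 0 := fun e1 => ha1 ((h.c.eq_one (by omega)).2 e1)
    rcases hcases with hall | ⟨cl, horb⟩
    · exact h.O_solvable (hall m hm hm0)
    · exact h.five_solv hq horb hm hm0
  set W := Cfsg.signalizerClosure h.c.sE theta with hW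
  obtain ⟨hWodd, hth⟩ := closure_facts h.c.sE_elem (by rw [h.c.sE_card]; norm_num) hsol
  have hE1 : ∀ m < 16, m ≠ 0 → theta (e m) ≤ W := fun m hm hm0 =>
    hth _ ⟨m, hm, rfl⟩ fun e1 => hm0 ((h.c.eq_one (by omega)).1 e1)
  have o1 : vOk 1 := ⟨le_rfl, by norm_num⟩
  have hgen : ∀ {g : G}, (∀ f ∈ h.c.sE ⊓ h.c.sLG o1, f ≠ 1 → theta (g * f * g⁻¹) ≤ W) →
      g ∈ normalizer (W : Set G) := fun hg => mem_normalizer_of_comap
    (closure_le h.c.sE_elem inf_le_left (h.c.sLG_inf_card o1).ge hsol fun f hf hf1 => theta_conj_le f _ (hg f hf hf1))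
  have hNE : normalizer (h.c.sE : Set G) ≤ normalizer (W : Set G) := fun n hn => hgen fun f hf hf1 => by
    obtain ⟨m, hm, rfl⟩ := hf.1
    exact hth _ ((mem_normalizer_iff.1 hn _).1 hf.1) fun e1 => hf1 (conj_eq_one_iff.1 e1)
  have hinv : ∀ x ∈ (S : Subgroup G), orderOf x = 2 → theta x ≤ W := by
    intro x hx hx2
    obtain ⟨n, hn, rfl⟩ := (h.c.mem x).1 hx
    obtain ⟨hsq, hn0⟩ := (h.c.order_two hn).1 hx2
    by_cases h16 : n < 16
    · exact hE1 n h16 hn0
    push Not at h16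
    obtain ⟨hv, -⟩ := h.outer_to_pair hq hn h16 hsq
    refine theta_le_four (elemAb_mono h.c.sE_elem inf_le_left) (h.c.sLG_inf_card hv).ge hx2 ?_
      (fun f hf => hsol f hf.1) fun f hf hf1 => hth f hf.1 hf1
    rintro f ⟨⟨m, hm, rfl⟩, hmL⟩
    exact ((h.c.comm_iff (show m < 64 by omega) hn).2
      (outer_commE ⟨n, hn⟩ h16 hsq ⟨m, hm⟩ ((h.c.e_mem_sLG hv (show m < 64 by omega)).1 hmL))).symm.symm
  have hCz : centralizer ({e 15} : Set G) ≤ normalizer (W : Set G) := fun g hg => by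
    obtain ⟨k, hk, hkq, hke⟩ := hq.conj_invQ (h.pr hg) (show 3 < 64 by norm_num) (hq.invQ_uM o1)
    obtain ⟨hk0, hksq, hkn, hkn'⟩ := invQ_iff.1 hkq
    obtain ⟨g', hg', hgg, hge⟩ := h.lift_exact hg (show 3 < 64 by norm_num) hk (by decide) hksq hke.symm
    have hgz : g' * e 15 * g'⁻¹ = e 15 := mul_inv_eq_iff_eq_mul.2 (mem_centralizer_singleton_iff.1 hg')
    have hg'N : g' ∈ normalizer (W : Set G) := hgen fun f hf hf1 => by
      obtain ⟨⟨m, hm, rfl⟩, hmL⟩ := hf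
      refine hinv _ ?_ ?_
      · rcases four_one ⟨m, hm⟩ ((h.c.e_mem_sLG o1 (show m < 64 by omega)).1 hmL) with e1 | e1 | e1 | e1 <;>
          simp only at e1 <;> subst e1
        · exact absurd h.c.zero hf1
        · rw [hgz]; exact h.c.e_mem (by norm_num)
        · rw [hge]; exact h.c.e_mem hk
        · rw [show (12 : ℕ) = mM 3 15 by decide, ← h.c.mul 3 (by norm_num) 15 (by norm_num),
            show g' * (e 3 * e 15) * g'⁻¹ = g' * e 3 * g'⁻¹ * (g' * e 15 * g'⁻¹) by group, hge, hgz]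
          exact mul_mem (h.c.e_mem hk) (h.c.e_mem (by norm_num))
      · rw [Invol.orderOf_conj_eq]
        exact (h.c.order_two (show m < 64 by omega)).2 ⟨sq_E ⟨m, hm⟩, fun e1 => hf1 (by rw [e1, h.c.zero])⟩
    have h1 : g' * g⁻¹ ∈ normalizer (W : Set G) := le_normalizer (hE1 15 (by norm_num) (by norm_num) hgg)
    have h2 := mul_mem (inv_mem h1) hg'N
    rwa [mul_inv_rev, inv_inv, inv_mul_cancel_right] at h2
  have hCO : ∀ m < 16, h.IsO m → centralizer ({e m} : Set G) ≤ normalizer (W : Set G) := fun m hm hmO => by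
    obtain ⟨n, hn, hne⟩ := h.O_transitive hm hmO
    exact h.cent_le_of_conj (hNE hn) hne hCz
  have hWb : W = ⊥ := h.finish hq hWodd hNE hCz fun m hm hm0 => by
    by_cases hmO : h.IsO m
    · exact hCO m hm hmO
    rcases hcases with hall | ⟨cl, horb⟩
    · exact absurd (hall m hm hm0) hmO
    obtain ⟨o, ho, hoO, hotO, hne, hsplit⟩ := h.five_split hq horb hm hm0 hmO
    intro g hg
    obtain ⟨r, hr, hrn, hrc⟩ := hsplit g hg
    obtain ⟨n, hn⟩ : ∃ n, n = r⁻¹ * g := ⟨_, rfl⟩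
    rw [← hn] at hrn hrc
    have hin : n * e o * n⁻¹ ∈ h.c.sE :=
      h.c.fourC_le hm ho ((mem_normalizer_iff.1 hrn (e o)).1 (Or.inr (Or.inr (Or.inl rfl))))
    obtain ⟨n1, -, hn1, hn1e⟩ := h.fusion_E le_top (mem_top n) ⟨o, ho, rfl⟩ hin
    have h2 : n1⁻¹ * n ∈ normalizer (W : Set G) := hCO o ho hoO (mem_centralizer_singleton_iff.2
      (mul_inv_eq_iff_eq_mul.1 (by
        calc n1⁻¹ * n * e o * (n1⁻¹ * n)⁻¹ = n1⁻¹ * (n * e o * n⁻¹) * n1 := by group
          _ = n1⁻¹ * (n1 * e o * n1⁻¹) * n1 := by rw [hn1e]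
          _ = _ := by group)))
    have h3 := mul_mem (hNE hn1) h2
    rw [mul_inv_cancel_left] at h3
    rw [show g = r * n by rw [hn, mul_inv_cancel_left]]
    exact mul_mem (le_normalizer (hE1 m hm hm0 hr)) h3
  exact le_bot_iff.1 (hWb ▸ hE1 15 (by norm_num) (by norm_num))

end Ctx

end Cfsg.Agent.Transfer.AEightSolv
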