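import Cfsg.Agent.Lib.Transfer.AEightSolv.Sig

/-!
# The small shape: the core of the centraliser of `z` is trivial
-/

set_option autoImplicit false
set_option linter.style.haveILetI false
set_option linter.unusedSectionVars false
set_option maxRecDepth 100000

namespace Cfsg.Agent.Transfer.AEightSolv

open Subgroup Cfsg.Agent.Grp

universe u

/-- the orbit of `z`: two pairs and one odd class -/
def orbS (v0 : ℕ) (cl : Bool) (m : ℕ) : Bool := orbM (!(v0 == 1)) (!(v0 == 2)) (!(v0 == 3)) cl (!cl) m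

/-- the other six -/
def sixB (v0 : ℕ) (cl : Bool) (m : ℕ) : Bool := !(m == 0) && !orbS v0 cl m

/-- a pure column -/
def colS (v0 : ℕ) : ℕ := if v0 = 1 then 2 else 1

theorem six_pair : ∀ v : Fin 4, 1 ≤ (v : ℕ) → ∀ cl : Bool, ∃ r : Fin 16,
    sixB v cl r = true ∧ sixB v cl (mM r (uM v)) = true := by
  decide +kernel

theorem six_unique : ∀ v : Fin 4, 1 ≤ (v : ℕ) → ∀ cl : Bool, ∀ m r r' : Fin 16, sixB v cl m = true →
    sixB v cl r = true → sixB v cl (mM r m) = true → sixB v cl r' = true → sixB v cl (mM r' m) = true →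
    (r' : ℕ) = r ∨ (r' : ℕ) = mM r m := by
  decide +kernel

theorem six_coset : ∀ v : Fin 4, 1 ≤ (v : ℕ) → ∀ cl : Bool, ∀ r m : Fin 16, sixB v cl r = true →
    sixB v cl (mM r (uM v)) = true → (m : ℕ) ≠ 0 → (m : ℕ) ≠ uM v → (m : ℕ) ≠ r → (m : ℕ) ≠ mM r (uM v) →
    orbS v cl m = true ∨ orbS v cl (mM m (uM v)) = true ∨ orbS v cl (mM m r) = true ∨
      orbS v cl (mM m (mM r (uM v))) = true := by
  decide +kernel

theorem six_cent : ∀ v : Fin 4, 1 ≤ (v : ℕ) → ∀ cl : Bool, ∀ r : Fin 16, sixB v cl r = true →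
    sixB v cl (mM r (uM v)) = true → ∀ n : Fin 64, comM n (uM v) = true → comM n r = true → (n : ℕ) < 16 := by
  decide +kernel

theorem six_cases : ∀ v : Fin 4, 1 ≤ (v : ℕ) → ∀ cl : Bool, ∀ m : Fin 16, sixB v cl m = true →
    (m : ℕ) = uM v ∨ (m : ℕ) = mM (uM v) 15 ∨ ∀ k : Fin 16, sixB v cl k = true →
      (k : ℕ) = uM v ∨ (k : ℕ) = mM (uM v) 15 ∨ ∃ s : Fin 64, cM s m = k := by
  decide +kernel

theorem pair_cent_card : ∀ v : Fin 4, 1 ≤ (v : ℕ) →
    (Finset.univ.filter fun n : Fin 64 => comM n (uM v) = true).card = 32 := by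
  decide +kernel

theorem pair_cent_col : ∀ v : Fin 4, 1 ≤ (v : ℕ) → ∀ n : Fin 64, 16 ≤ (n : ℕ) → mM n n = 0 →
    comM n (uM v) = true → vP n = v := by
  decide +kernel

namespace Ctx

variable {G : Type u} [Group G] [Finite G] {S : Sylow 2 G} {e : ℕ → G} (h : Ctx G S e)
variable {T : Sylow 2 h.Xq} (hq : LocalQ h.Xq T h.eX)
include h hq

theorem sLG_O {v : ℕ} (hv : vOk v) (hvO : h.IsO (uM v)) {n : ℕ} (hn : n < 64) (hnL : inL v n = true) (hn0 : n ≠ 0) :
    h.IsO n := by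
  have hsq : mM n n = 0 := by
    simp only [inL, Bool.and_eq_true, beq_iff_eq] at hnL
    exact hnL.1
  by_cases h16 : n < 16
  · rcases (by decide +kernel : ∀ v : Fin 4, 1 ≤ (v : ℕ) → ∀ n : Fin 16, inL v n = true → (n : ℕ) = 0 ∨
        (n : ℕ) = 15 ∨ (n : ℕ) = uM v ∨ (n : ℕ) = mM (uM v) 15) ⟨v, hv.2⟩ hv.1 ⟨n, h16⟩ hnL with e1 | e1 | e1 | e1
      <;> simp only at e1
    · exact absurd e1 hn0
    · exact e1 ▸ h.O_self
    · exact e1 ▸ hvO
    · obtain ⟨t, -, ht⟩ := pair_swap ⟨v, hv.2⟩ hv.1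
      rw [e1]
      refine (h.O_conj_iff t.2 (mM_lt _ _)).1 ?_
      rw [ht]; exact hvO
  · push Not at h16
    refine (h.O_outer hq hn h16 hsq).2 ?_
    have hvP : vP n = v := (by decide +kernel : ∀ v : Fin 4, 1 ≤ (v : ℕ) → ∀ n : Fin 64, 16 ≤ (n : ℕ) →
      inL v n = true → vP n = v) ⟨v, hv.2⟩ hv.1 ⟨n, hn⟩ h16 hnL
    rwa [hvP]

end Ctx

/-- The data of the small shape. -/
structure SData {G : Type u} [Group G] [Finite G] {S : Sylow 2 G} {e : ℕ → G} (h : Ctx G S e)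
    {T : Sylow 2 h.Xq} (hq : LocalQ h.Xq T h.eX) (v0 : ℕ) (cl : Bool) : Prop where
  small : hq.Small
  ok : vOk v0
  orb : ∀ m < 16, h.IsO m ↔ orbS v0 cl m = true

namespace SData

variable {G : Type u} [Group G] [Finite G] {S : Sylow 2 G} {e : ℕ → G} {h : Ctx G S e}
  {T : Sylow 2 h.Xq} {hq : LocalQ h.Xq T h.eX} {v0 : ℕ} {cl : Bool} (D : SData h hq v0 cl)
include D

theorem col_ok : vOk (colS v0) ∧ h.IsO (uM (colS v0)) := by
  have key : ∀ v : Fin 4, 1 ≤ (v : ℕ) → ∀ cl : Bool, (1 ≤ colS v ∧ colS v < 4) ∧ uM (colS v) < 16 ∧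
      orbS v cl (uM (colS v)) = true := by decide +kernel
  obtain ⟨h1, h2, h3⟩ := key ⟨v0, D.ok.2⟩ D.ok.1 cl
  exact ⟨h1, (D.orb _ h2).2 h3⟩

/-- the pure elementary group -/
def colG : Subgroup G := h.c.sLG D.col_ok.1

/-- the signalizer closure -/
def Wc : Subgroup G := Cfsg.signalizerClosure D.colG theta

theorem col_solv : ∀ a ∈ D.colG, a ≠ 1 → Group.IsSolvable ↥(centralizer ({a} : Set G)) := by
  rintro a ⟨n, hn, hnL, rfl⟩ ha1
  exact h.O_solvable (h.sLG_O hq D.col_ok.1 D.col_ok.2 hn hnL fun e1 => ha1 ((h.c.eq_one hn).2 e1))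

theorem W_odd : Odd (Nat.card ↥D.Wc) :=
  (closure_facts (h.c.sLG_elem D.col_ok.1) (h.c.sLG_card D.col_ok.1).ge D.col_solv).1

theorem theta_W {a : G} (ha : a ∈ D.colG) (ha1 : a ≠ 1) : theta a ≤ D.Wc :=
  (closure_facts (h.c.sLG_elem D.col_ok.1) (h.c.sLG_card D.col_ok.1).ge D.col_solv).2 a ha ha1

/-- the four-group `⟨z, u⟩` -/
def fourS : Subgroup G := h.c.sE ⊓ D.colG

theorem four_elem : Cfsg.IsElementaryAbelian 2 D.fourS := elemAb_mono h.c.sE_elem inf_le_left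

theorem four_card : 4 ≤ Nat.card D.fourS := (h.c.sLG_inf_card D.col_ok.1).ge

theorem four_solv : ∀ f ∈ D.fourS, f ≠ 1 → Group.IsSolvable ↥(centralizer ({f} : Set G)) :=
  fun f hf hf1 => D.col_solv f hf.2 hf1

theorem theta_E {m : ℕ} (hm : m < 16) (hm0 : m ≠ 0) : theta (e m) ≤ D.Wc := by
  refine theta_le_four D.four_elem D.four_card ((h.c.order_two (by omega)).2 ⟨sq_E ⟨m, hm⟩, hm0⟩)
    (fun f hf => h.c.sE_comm hf.1 ⟨m, hm, rfl⟩) D.four_solv fun f hf hf1 => D.theta_W hf.2 hf1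

theorem W_le {X : Subgroup G} (hX : ∀ f ∈ D.fourS, f ≠ 1 → theta f ≤ X) : D.Wc ≤ X :=
  closure_le (h.c.sLG_elem D.col_ok.1) inf_le_right D.four_card D.col_solv hX

theorem four_codes {f : G} (hf : f ∈ D.fourS) (hf1 : f ≠ 1) : f = e 15 ∨ f = e (uM (colS v0)) ∨
    f = e (uM (colS v0)) * e 15 := by
  obtain ⟨⟨m, hm, rfl⟩, hL⟩ := hf
  have hnL := (h.c.e_mem_sLG D.col_ok.1 (show m < 64 by omega)).1 hL
  rcases (by decide +kernel : ∀ v : Fin 4, 1 ≤ (v : ℕ) → ∀ n : Fin 16, inL v n = true → (n : ℕ) = 0 ∨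
      (n : ℕ) = 15 ∨ (n : ℕ) = uM v ∨ (n : ℕ) = mM (uM v) 15) ⟨colS v0, D.col_ok.1.2⟩ D.col_ok.1.1 ⟨m, hm⟩ hnL
    with e1 | e1 | e1 | e1 <;> simp only at e1
  · exact absurd ((h.c.eq_one (show m < 64 by omega)).2 e1) hf1
  · exact Or.inl (by rw [e1])
  · exact Or.inr (Or.inl (by rw [e1]))
  · obtain ⟨hu, -⟩ := vOk_uM D.col_ok.1
    exact Or.inr (Or.inr (by rw [e1, h.c.mul _ (by omega) 15 (by norm_num)]))

theorem norm_E : normalizer (h.c.sE : Set G) ≤ normalizer (D.Wc : Set G) := fun n hn => by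
  refine mem_normalizer_of_comap (D.W_le fun f hf hf1 => theta_conj_le f n ?_)
  obtain ⟨m, hm, rfl⟩ := hf.1
  obtain ⟨k, hk, hke⟩ := h.norm_code hn hm
  rw [← hke]
  refine D.theta_E hk fun e1 => hf1 ?_
  rw [e1, h.c.zero] at hke
  exact conj_eq_one_iff.1 hke.symm

theorem cent_z : centralizer ({e 15} : Set G) ≤ normalizer (D.Wc : Set G) := fun g hg => by
  obtain ⟨hu, hu0, hune, -⟩ := vOk_uM D.col_ok.1
  have hcol := D.small.column (colS v0) D.col_ok.1 (h.pr hg) (h.eX (uM (colS v0))) (hq.u_mem_sL D.col_ok.1)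
  obtain ⟨m, hm, hmL, hme⟩ := hcol
  obtain ⟨g', hg', hgg, hge⟩ := h.lift_exact hg (show uM (colS v0) < 64 by omega) hm (sq_E ⟨_, hu⟩) (by
    simp only [inL, Bool.and_eq_true, beq_iff_eq] at hmL
    exact hmL.1) hme.symm
  have hm1 : e m ≠ 1 := fun e1 => by
    have : e (uM (colS v0)) = 1 := conj_eq_one_iff.1 (hge.trans e1)
    exact hune ((h.c.eq_one (by omega)).1 this)
  have hmA : e m ∈ D.colG := ⟨m, hm, hmL, rfl⟩
  have hzA : e 15 ∈ D.colG :=
    (h.c.e_mem_sLG D.col_ok.1 (by norm_num)).2 (by simp [inL, show mM 15 15 = 0 by decide])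
  have hgz : g' * e 15 * g'⁻¹ = e 15 := mul_inv_eq_iff_eq_mul.2 (mem_centralizer_singleton_iff.1 hg')
  have hg'N : g' ∈ normalizer (D.Wc : Set G) := by
    refine mem_normalizer_of_comap (D.W_le fun f hf hf1 => theta_conj_le f g' ?_)
    rcases D.four_codes hf hf1 with rfl | rfl | rfl
    · rw [hgz]; exact D.theta_W hzA h.c.z_ne
    · rw [hge]; exact D.theta_W hmA hm1
    · rw [show g' * (e (uM (colS v0)) * e 15) * g'⁻¹ = g' * e (uM (colS v0)) * g'⁻¹ * (g' * e 15 * g'⁻¹) by group,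
        hge, hgz]
      refine D.theta_W (mul_mem hmA hzA) fun e1 => hf1 ?_
      have : g' * (e (uM (colS v0)) * e 15) * g'⁻¹ = 1 := by
        rw [show g' * (e (uM (colS v0)) * e 15) * g'⁻¹ = g' * e (uM (colS v0)) * g'⁻¹ * (g' * e 15 * g'⁻¹) by group,
          hge, hgz, e1]
      exact conj_eq_one_iff.1 this
  have h1 : g' * g⁻¹ ∈ normalizer (D.Wc : Set G) := le_normalizer (D.theta_E (by norm_num) (by norm_num) hgg)
  have h2 := mul_mem (inv_mem h1) hg'N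
  rwa [mul_inv_rev, inv_inv, inv_mul_cancel_right] at h2

theorem six_iff {m : ℕ} (hm : m < 16) : sixB v0 cl m = true ↔ m ≠ 0 ∧ ¬ h.IsO m := by
  rw [D.orb m hm]
  simp [sixB]

theorem six_conj {n : G} (hn : n ∈ normalizer (h.c.sE : Set G)) {m k : ℕ} (hm : m < 16) (hk : k < 16)
    (hke : e k = n * e m * n⁻¹) (h6 : sixB v0 cl m = true) : sixB v0 cl k = true := by
  obtain ⟨h0, hO⟩ := (D.six_iff hm).1 h6
  refine (D.six_iff hk).2 ⟨fun e1 => h0 ((h.c.eq_one (show m < 64 by omega)).1 ?_), fun hkO => hO ?_⟩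
  · rw [e1, h.c.zero] at hke; exact conj_eq_one_iff.1 hke.symm
  · exact h.O_norm (n := n⁻¹) (by rw [hke]; group) hkO

/-- The six form one orbit. -/
theorem six_transitive {m : ℕ} (hm : m < 16) (h6 : sixB v0 cl m = true) :
    ∃ n ∈ normalizer (h.c.sE : Set G), n * e (uM v0) * n⁻¹ = e m := by
  obtain ⟨hu, -, hu0, -⟩ := vOk_uM D.ok
  have hu6 : sixB v0 cl (uM v0) = true :=
    (by decide +kernel : ∀ v : Fin 4, 1 ≤ (v : ℕ) → ∀ cl : Bool, sixB v cl (uM v) = true) ⟨v0, D.ok.2⟩ D.ok.1 cl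
  obtain ⟨t, ht, ht'⟩ := pair_swap ⟨v0, D.ok.2⟩ D.ok.1
  simp only at ht ht'
  have hsw : ∀ {k : ℕ}, k = uM v0 ∨ k = mM (uM v0) 15 →
      ∃ n ∈ normalizer (h.c.sE : Set G), n * e (uM v0) * n⁻¹ = e k := by
    rintro k (rfl | rfl)
    · exact ⟨1, one_mem _, by group⟩
    · exact ⟨e t, h.S_le_norm (h.c.e_mem t.2), by rw [h.c.conj t.2 (by omega), ht]⟩
  -- the orbit leaves the pair
  obtain ⟨n, hn, k, hk, hke, hk1, hk2⟩ : ∃ n ∈ normalizer (h.c.sE : Set G), ∃ k < 16,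
      e k = n * e (uM v0) * n⁻¹ ∧ k ≠ uM v0 ∧ k ≠ mM (uM v0) 15 := by
    by_contra hcon
    push Not at hcon
    obtain ⟨n, hn, hne⟩ := h.O_transitive (vOk_uM D.col_ok.1).1 D.col_ok.2
    obtain ⟨k, hk, hke⟩ := h.norm_code hn hu
    obtain ⟨j, hj, hje⟩ := h.norm_code hn (show mM (uM v0) 15 < 16 from
      (by decide +kernel : ∀ v : Fin 4, mM (uM v) 15 < 16) ⟨v0, D.ok.2⟩)
    have hk' : k = uM v0 ∨ k = mM (uM v0) 15 := or_iff_not_imp_left.2 (hcon n hn k hk hke)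
    have hj' : j = uM v0 ∨ j = mM (uM v0) 15 := by
      refine or_iff_not_imp_left.2 (hcon (n * e t) (mul_mem hn (h.S_le_norm (h.c.e_mem t.2))) j hj ?_)
      rw [hje, ← ht, ← h.c.conj t.2 (show uM v0 < 64 by omega)]; group
    have hne2 : k ≠ j := fun e1 => by
      rw [e1, hje] at hke
      have h2 : mM (uM v0) 15 = uM v0 := (h.c.eq_iff (mM_lt _ _) (by omega)).1 (mul_left_cancel (mul_right_cancel hke))
      exact (by decide +kernel : ∀ v : Fin 4, 1 ≤ (v : ℕ) → mM (uM v) 15 ≠ uM v) ⟨v0, D.ok.2⟩ D.ok.1 h2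
    have h15 : e (uM v0) * e (mM (uM v0) 15) = e 15 := by
      rw [← h.c.mul (uM v0) (by omega) 15 (by norm_num), ← mul_assoc, h.c.E_sq hu, one_mul]
    have h15' : e k * e j = e 15 := by
      rcases hk' with rfl | rfl <;> rcases hj' with rfl | rfl
      · exact absurd rfl hne2
      · exact h15
      · rw [← h15, h.c.sE_comm ⟨_, hk, rfl⟩ ⟨_, hj, rfl⟩]
      · exact absurd rfl hne2
    have h16 : n * e 15 * n⁻¹ = e 15 := by
      conv_lhs => rw [← h15]
      rw [show n * (e (uM v0) * e (mM (uM v0) 15)) * n⁻¹ = n * e (uM v0) * n⁻¹ * (n * e (mM (uM v0) 15) * n⁻¹) by group,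
        ← hke, ← hje, h15']
    rw [hne] at h16
    obtain ⟨hu', -, -, h15ne⟩ := vOk_uM D.col_ok.1
    exact h15ne ((h.c.eq_iff (by omega) (by norm_num)).1 h16)
  have hk6 := D.six_conj hn hu hk hke hu6
  rcases six_cases ⟨v0, D.ok.2⟩ D.ok.1 cl ⟨k, hk⟩ hk6 with e1 | e1 | e1
  · exact absurd e1 hk1
  · exact absurd e1 hk2
  · rcases e1 ⟨m, hm⟩ h6 with e2 | e2 | ⟨s, hs⟩
    · exact hsw (Or.inl e2)
    · exact hsw (Or.inr e2)
    · refine ⟨e s * n, mul_mem (h.S_le_norm (h.c.e_mem s.2)) hn, ?_⟩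
      rw [show e s * n * e (uM v0) * (e s * n)⁻¹ = e s * (n * e (uM v0) * n⁻¹) * (e s)⁻¹ by group, ← hke,
        h.c.conj s.2 (show k < 64 by omega)]
      exact congrArg e hs

/-- A 2-subgroup of `C(t)` containing `E` is moved by `C(t) ∩ N(E)` into `C_S(t)`. -/
theorem move_cent {R : Subgroup G} (hR : IsPGroup 2 R) (hER : h.c.sE ≤ R)
    (hRC : R ≤ centralizer ({e (uM v0)} : Set G)) :
    ∃ c ∈ centralizer ({e (uM v0)} : Set G), c ∈ normalizer (h.c.sE : Set G) ∧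
      ∀ r ∈ R, c * r * c⁻¹ ∈ (S : Subgroup G) := by
  classical
  haveI : Fact (Nat.Prime 2) := ⟨Nat.prime_two⟩
  obtain ⟨hu, -, hu0, -⟩ := vOk_uM D.ok
  set Ct := centralizer ({e (uM v0)} : Set G) with hCt
  set St := (S : Subgroup G) ⊓ Ct with hSt
  have hSt32 : 32 ≤ Nat.card St := by
    rw [← pair_cent_card ⟨v0, D.ok.2⟩ D.ok.1, ← Nat.card_eq_finsetCard]
    refine Nat.card_le_card_of_injective (fun n : {n // n ∈ Finset.univ.filter fun n : Fin 64 => comM n (uM v0) = true} =>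
      (⟨e n.1, h.c.e_mem n.1.2, mem_centralizer_singleton_iff.2
        ((h.c.comm_iff n.1.2 (show uM v0 < 64 by omega)).2 (Finset.mem_filter.1 n.2).2)⟩ : ↥St)) fun a b he => ?_
    exact Subtype.ext (Fin.ext (h.c.inj _ a.1.2 _ b.1.2 (congrArg Subtype.val he)))
  have hmax : ∀ P : Subgroup G, IsPGroup 2 P → St ≤ P → P ≤ Ct → P = St := by
    intro P hP hle hPC
    refine (Subgroup.eq_of_le_of_card_ge hle ?_).symm
    by_contra hlt
    push Not at hlt
    obtain ⟨j, hj⟩ := IsPGroup.iff_card.1 hP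
    have hj6 : 6 ≤ j := by
      by_contra hj6
      have h2 : (2 : ℕ) ^ j ≤ 2 ^ 5 := Nat.pow_le_pow_right (by norm_num) (by omega)
      omega
    have hEP : h.c.sE ≤ P := le_trans (le_inf h.c.sE_le fun a ha =>
      mem_centralizer_singleton_iff.2 (h.c.sE_comm ha ⟨uM v0, hu, rfl⟩)) hle
    obtain ⟨k, hkN, hk⟩ := h.move_norm hP hEP
    have heq : P.map (MulAut.conj k).toMonoidHom = (S : Subgroup G) := by
      refine Subgroup.eq_of_le_of_card_ge (fun _ ⟨p, hp, hpe⟩ => hpe ▸ hk p hp) ?_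
      rw [card_map_of_injective (MulAut.conj k).injective, h.c.card, hj]
      exact (show (2 : ℕ) ^ 6 ≤ 2 ^ j from Nat.pow_le_pow_right (by norm_num) hj6)
    have hut : e (uM v0) ∈ P := hle ⟨h.c.e_mem (by omega), mem_centralizer_singleton_iff.2 rfl⟩
    rcases h.center_two (hk _ hut) (fun s hs => by
      obtain ⟨p, hp, rfl⟩ := heq.ge hs
      show k * p * k⁻¹ * (k * e (uM v0) * k⁻¹) = k * e (uM v0) * k⁻¹ * (k * p * k⁻¹)
      calc _ = k * (p * e (uM v0)) * k⁻¹ := by group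
        _ = _ := by rw [mem_centralizer_singleton_iff.1 (hPC hp)]; group) with e1 | e1
    · exact hu0 ((h.c.eq_one (by omega)).1 (conj_eq_one_iff.1 e1))
    · have hO : h.IsO (uM v0) := ⟨k⁻¹, by rw [← e1]; group⟩
      rw [D.orb _ hu] at hO
      have hno := (by decide +kernel : ∀ v : Fin 4, 1 ≤ (v : ℕ) → ∀ cl : Bool, orbS v cl (uM v) = false)
        ⟨v0, D.ok.2⟩ D.ok.1 cl
      rw [hno] at hO
      exact Bool.noConfusion hO
  obtain ⟨P, hP⟩ := (show IsPGroup 2 ↥(St.subgroupOf Ct) from (S.isPGroup'.to_le inf_le_left).comap_subtype).exists_le_sylow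
  have hPe : (P : Subgroup ↥Ct).map Ct.subtype = St :=
    hmax _ (P.isPGroup'.map _) (fun a ha => ⟨⟨a, ha.2⟩, hP ha, rfl⟩) (map_subtype_le _)
  obtain ⟨c, hc⟩ := Fus.ClosedProduct.move P (show IsPGroup 2 ↥(R.subgroupOf Ct) from hR.comap_subtype)
  have hmv : ∀ r ∈ R, (c : G) * r * (c : G)⁻¹ ∈ (S : Subgroup G) := fun r hr => by
    have h1 : ((c * ⟨r, hRC hr⟩ * c⁻¹ : ↥Ct) : G) ∈ St := hPe ▸ mem_map_of_mem _ (hc _ (mem_subgroupOf.2 hr))
    exact h1.1
  exact ⟨c, c.2, mem_normalizer_fintype (h.c.sE_unique _ S.isPGroup' h.c.sE_le _ fun a ha => hmv a (hER ha)), hmv⟩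

theorem O_in_E {x : G} (hx : x ∈ (S : Subgroup G)) (hxt : x * e (uM v0) = e (uM v0) * x)
    (hxO : ∃ g : G, g * e 15 * g⁻¹ = x) : x ∈ h.c.sE := by
  obtain ⟨hu, -⟩ := vOk_uM D.ok
  obtain ⟨n, hn, rfl⟩ := (h.c.mem x).1 hx
  by_contra hE
  have h16 : 16 ≤ n := Nat.le_of_not_lt fun hlt => hE ⟨n, hlt, rfl⟩
  obtain ⟨g, hg⟩ := hxO
  have hsq : mM n n = 0 := (h.c.sq_iff hn).1 (by
    rw [← hg, show g * e 15 * g⁻¹ * (g * e 15 * g⁻¹) = g * (e 15 * e 15) * g⁻¹ by group, h.c.z_sq]; group)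
  have hv := pair_cent_col ⟨v0, D.ok.2⟩ D.ok.1 ⟨n, hn⟩ h16 hsq ((h.c.comm_iff hn (show uM v0 < 64 by omega)).1 hxt)
  have hO := (h.O_outer hq hn h16 hsq).1 ⟨g, hg⟩
  simp only at hv
  rw [hv, D.orb _ hu] at hO
  have hno := (by decide +kernel : ∀ v : Fin 4, 1 ≤ (v : ℕ) → ∀ cl : Bool, orbS v cl (uM v) = false)
    ⟨v0, D.ok.2⟩ D.ok.1 cl
  rw [hno] at hO
  exact Bool.noConfusion hO

/-- `E` is strongly closed in `C_S(t)` with respect to `C(t)`. -/
theorem closed_cent {x g : G} (hx : x ∈ h.c.sE) (hg : g ∈ centralizer ({e (uM v0)} : Set G))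
    (hgx : g * x * g⁻¹ ∈ (S : Subgroup G)) : g * x * g⁻¹ ∈ h.c.sE := by
  classical
  haveI : Fact (Nat.Prime 2) := ⟨Nat.prime_two⟩
  obtain ⟨hu, -⟩ := vOk_uM D.ok
  set t := e (uM v0) with ht
  have htE : t ∈ h.c.sE := ⟨uM v0, hu, rfl⟩
  have hgt := mem_centralizer_singleton_iff.1 hg
  obtain ⟨v, hv⟩ : ∃ v, v = g * x * g⁻¹ := ⟨_, rfl⟩
  rw [← hv] at hgx ⊢
  have hvt : v * t = t * v := by
    have hxt := h.c.sE_comm hx htE
    have hgt' : g * t * g⁻¹ = t := mul_inv_eq_iff_eq_mul.2 hgt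
    calc v * t = g * x * g⁻¹ * (g * t * g⁻¹) := by rw [hgt', hv]
      _ = g * t * g⁻¹ * (g * x * g⁻¹) := by
        rw [show g * x * g⁻¹ * (g * t * g⁻¹) = g * (x * t) * g⁻¹ by group, hxt]; group
      _ = t * v := by rw [hgt', hv]
  set K := centralizer ({t} : Set G) ⊓ centralizer ({x} : Set G) with hK
  set Cv := ((S : Subgroup G) ⊓ centralizer ({t} : Set G) ⊓ centralizer ({v} : Set G)).map (MulAut.conj g⁻¹).toMonoidHom
    with hCv
  have hCvK : Cv ≤ K := by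
    rintro _ ⟨w, ⟨⟨-, hwt⟩, hwv⟩, rfl⟩
    have h1 := mem_centralizer_singleton_iff.1 hwv
    refine ⟨?_, mem_centralizer_singleton_iff.2 ?_⟩
    · show g⁻¹ * w * g⁻¹⁻¹ ∈ centralizer ({t} : Set G)
      exact mul_mem (mul_mem (inv_mem hg) hwt) (inv_mem (inv_mem hg))
    · show g⁻¹ * w * g⁻¹⁻¹ * x = x * (g⁻¹ * w * g⁻¹⁻¹)
      rw [show x = g⁻¹ * v * g by rw [hv]; group]
      calc g⁻¹ * w * g⁻¹⁻¹ * (g⁻¹ * v * g) = g⁻¹ * (w * v) * g := by group
        _ = _ := by rw [h1]; group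
  have hEK : h.c.sE ≤ K := le_inf (fun a ha => mem_centralizer_singleton_iff.2 (h.c.sE_comm ha htE))
    fun a ha => mem_centralizer_singleton_iff.2 (h.c.sE_comm ha hx)
  obtain ⟨P, hP⟩ := (show IsPGroup 2 ↥(h.c.sE.subgroupOf K) from (elemAb_isPGroup h.c.sE_elem).comap_subtype).exists_le_sylow
  obtain ⟨d, hd⟩ := Fus.ClosedProduct.move P (show IsPGroup 2 ↥(Cv.subgroupOf K) from
    ((S.isPGroup'.to_le (inf_le_left.trans inf_le_left)).map _).comap_subtype)
  obtain ⟨c, hc, hcN, hcS⟩ := D.move_cent (P.isPGroup'.map K.subtype) (fun a ha => ⟨⟨a, hEK ha⟩, hP ha, rfl⟩)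
    ((map_subtype_le _).trans inf_le_left)
  obtain ⟨k, hk⟩ : ∃ k, k = c * (d : G) * g⁻¹ := ⟨_, rfl⟩
  have hkt : k ∈ centralizer ({t} : Set G) := hk ▸ mul_mem (mul_mem hc d.2.1) (inv_mem hg)
  have hkv : k * v * k⁻¹ ∈ h.c.sE := by
    rw [hk, hv, show c * (d : G) * g⁻¹ * (g * x * g⁻¹) * (c * (d : G) * g⁻¹)⁻¹ = c * ((d : G) * x * (d : G)⁻¹) * c⁻¹ by group,
      mul_inv_eq_iff_eq_mul.2 (mem_centralizer_singleton_iff.1 d.2.2)]
    exact (mem_normalizer_iff.1 hcN x).1 hx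
  have hkS : ∀ w ∈ (S : Subgroup G), w * t = t * w → w * v = v * w → k * w * k⁻¹ ∈ (S : Subgroup G) := by
    intro w hw hwt hwv
    have hwC : g⁻¹ * w * g⁻¹⁻¹ ∈ Cv :=
      ⟨w, ⟨⟨hw, mem_centralizer_singleton_iff.2 hwt⟩, mem_centralizer_singleton_iff.2 hwv⟩, rfl⟩
    have h1 := hcS _ ⟨_, hd _ (mem_subgroupOf.2 hwC : (⟨_, hCvK hwC⟩ : ↥K) ∈ Cv.subgroupOf K), rfl⟩
    rw [hk, show c * (d : G) * g⁻¹ * w * (c * (d : G) * g⁻¹)⁻¹ = c * ((d : G) * (g⁻¹ * w * g⁻¹⁻¹) * (d : G)⁻¹) * c⁻¹ by group]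
    exact h1
  have hz : k * e 15 * k⁻¹ ∈ h.c.sE := by
    refine D.O_in_E (hkS _ (h.c.e_mem (by norm_num)) (h.c.z_central (h.c.sE_le htE)).symm (h.c.z_central hgx).symm) ?_ ⟨k, rfl⟩
    have hkt' := mem_centralizer_singleton_iff.1 hkt
    have h1 : k * t * k⁻¹ = t := mul_inv_eq_iff_eq_mul.2 hkt'
    calc k * e 15 * k⁻¹ * t = k * e 15 * k⁻¹ * (k * t * k⁻¹) := by rw [h1]
      _ = k * t * k⁻¹ * (k * e 15 * k⁻¹) := by
        rw [show k * e 15 * k⁻¹ * (k * t * k⁻¹) = k * (e 15 * t) * k⁻¹ by group,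
          ← h.c.z_central (h.c.sE_le htE)]
        group
      _ = _ := by rw [h1]
  obtain ⟨n, hnt, hnN, hnz⟩ := h.fusion_E (H := centralizer ({t} : Set G))
    (fun a ha => mem_centralizer_singleton_iff.2 (h.c.sE_comm ha htE)) hkt
    (show e 15 ∈ h.c.sE from ⟨15, by norm_num, rfl⟩) hz
  obtain ⟨p, hp⟩ : ∃ p, p = n⁻¹ * k := ⟨_, rfl⟩
  have hpC : p ∈ centralizer ({e 15} : Set G) := mem_centralizer_singleton_iff.2 (mul_inv_eq_iff_eq_mul.1 (by
    calc p * e 15 * p⁻¹ = n⁻¹ * (k * e 15 * k⁻¹) * n := by rw [hp]; group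
      _ = n⁻¹ * (n * e 15 * n⁻¹) * n := by rw [hnz]
      _ = _ := by group))
  have hpt : p * t = t * p := mem_centralizer_singleton_iff.1 (hp ▸ mul_mem (inv_mem hnt) hkt)
  have hpN : h.pr hpC ∈ normalizer (hq.c.sE : Set h.Xq) := hq.shape.2.2 v0 D.ok _ (by
    rw [h.eX_eq (show uM v0 < 64 by omega), ← map_mul, ← map_mul]
    exact congrArg _ (Subtype.ext hpt))
  obtain ⟨i, hi, hie⟩ : p * v * p⁻¹ ∈ h.c.sE := by
    rw [hp, show n⁻¹ * k * v * (n⁻¹ * k)⁻¹ = n⁻¹ * (k * v * k⁻¹) * n⁻¹⁻¹ by group]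
    exact (mem_normalizer_iff.1 (inv_mem hnN) _).1 hkv
  obtain ⟨j, hj, rfl⟩ := (h.c.mem v).1 hgx
  have hjX : h.eX j ∈ hq.c.sE := by
    refine (mem_normalizer_iff.1 hpN _).2 ⟨i, hi, ?_⟩
    rw [h.eX_eq hj, h.eX_eq (show i < 64 by omega), ← map_inv, ← map_mul, ← map_mul]
    exact congrArg _ (Subtype.ext hie)
  exact ⟨j, (hq.c.e_mem_sE hj).1 hjX, rfl⟩

/-- the four-group `⟨t, r⟩` -/
def fourT {t r : ℕ} (_D : SData h hq v0 cl) (ht : t < 16) (hr : r < 16) : Subgroup G where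
  carrier := {x | x = 1 ∨ x = e t ∨ x = e r ∨ x = e r * e t}
  one_mem' := Or.inl rfl
  mul_mem' := by
    have ct := h.c.E_sq ht
    have cr := h.c.E_sq hr
    have cc := h.c.sE_comm (show e t ∈ h.c.sE from ⟨t, ht, rfl⟩) (show e r ∈ h.c.sE from ⟨r, hr, rfl⟩)
    have c1 : ∀ y : G, e t * (e t * y) = y := fun y => by rw [← mul_assoc, ct, one_mul]
    have c2 : ∀ y : G, e r * (e r * y) = y := fun y => by rw [← mul_assoc, cr, one_mul]
    have c3 : ∀ y : G, e t * (e r * y) = e r * (e t * y) := fun y => by rw [← mul_assoc, cc, mul_assoc]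
    rintro x y (rfl | rfl | rfl | rfl) (rfl | rfl | rfl | rfl) <;> simp [mul_assoc, ct, cr, cc, c1, c2, c3]
  inv_mem' := by
    have ct := h.c.E_sq ht
    have cr := h.c.E_sq hr
    have cc := h.c.sE_comm (show e t ∈ h.c.sE from ⟨t, ht, rfl⟩) (show e r ∈ h.c.sE from ⟨r, hr, rfl⟩)
    rintro x (rfl | rfl | rfl | rfl)
    · exact Or.inl inv_one
    · exact Or.inr (Or.inl (inv_eq_of_mul_eq_one_right ct))
    · exact Or.inr (Or.inr (Or.inl (inv_eq_of_mul_eq_one_right cr)))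
    · exact Or.inr (Or.inr (Or.inr (by rw [mul_inv_rev, inv_eq_of_mul_eq_one_right ct, inv_eq_of_mul_eq_one_right cr, cc])))

/-- The commutator property of the pair element. -/
theorem zstar_pair {r : ℕ} (hr : r < 16) (h1 : sixB v0 cl r = true) (h2 : sixB v0 cl (mM r (uM v0)) = true)
    {g : G} (hg : g ∈ centralizer ({e (uM v0)} : Set G)) :
    g * e r * g⁻¹ * (e r)⁻¹ ∈ theta (e (uM v0)) ⊔ zpowers (e (uM v0)) := by
  classical
  haveI : Fact (Nat.Prime 2) := ⟨Nat.prime_two⟩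
  obtain ⟨hu, -, hu0, -⟩ := vOk_uM D.ok
  set t := e (uM v0) with ht
  set b := e r with hb
  have htE : t ∈ h.c.sE := ⟨_, hu, rfl⟩
  have hbE : b ∈ h.c.sE := ⟨_, hr, rfl⟩
  have hr0 := ((D.six_iff hr).1 h1).1
  have hrt : r ≠ uM v0 := fun e1 => by
    have hmm : mM r r = 0 := sq_E ⟨r, hr⟩
    rw [← e1, hmm] at h2
    simp [sixB] at h2
  -- conjugates of `b` in the Sylow subgroup
  have hiso : ∀ y ∈ centralizer ({t} : Set G), y * b * y⁻¹ ∈ (S : Subgroup G) →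
      y * b * y⁻¹ = b ∨ y * b * y⁻¹ = b * t := by
    intro y hy hyS
    obtain ⟨k, hk, hke⟩ := D.closed_cent hbE hy hyS
    obtain ⟨n, hnt, hn, hne⟩ := h.fusion_E (H := centralizer ({t} : Set G))
      (fun a ha => mem_centralizer_singleton_iff.2 (h.c.sE_comm ha htE)) hy hbE ⟨k, hk, hke⟩
    rw [← hke] at hne ⊢
    have hlt : mM k (uM v0) < 16 := (by decide +kernel : ∀ k : Fin 16, ∀ v : Fin 4, mM k (uM v) < 16) ⟨k, hk⟩ ⟨v0, D.ok.2⟩
    have hlt' : mM r (uM v0) < 16 := (by decide +kernel : ∀ k : Fin 16, ∀ v : Fin 4, mM k (uM v) < 16) ⟨r, hr⟩ ⟨v0, D.ok.2⟩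
    have hk6 := D.six_conj hn hr hk hne.symm h1
    have hk6' := D.six_conj hn hlt' hlt (by
      rw [← h.c.mul k (by omega) (uM v0) (by omega), ← h.c.mul r (by omega) (uM v0) (by omega), ← hne,
        ← ht, ← hb, show n * (b * t) * n⁻¹ = n * b * n⁻¹ * (n * t * n⁻¹) by group,
        mul_inv_eq_iff_eq_mul.2 (mem_centralizer_singleton_iff.1 hnt)]) h2
    have hu6 : sixB v0 cl (uM v0) = true :=
      (by decide +kernel : ∀ v : Fin 4, 1 ≤ (v : ℕ) → ∀ cl : Bool, sixB v cl (uM v) = true) ⟨v0, D.ok.2⟩ D.ok.1 cl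
    rcases six_unique ⟨v0, D.ok.2⟩ D.ok.1 cl ⟨uM v0, hu⟩ ⟨r, hr⟩ ⟨k, hk⟩ hu6 h1 h2 hk6 hk6' with e1 | e1 <;>
      simp only at e1
    · exact Or.inl (by rw [e1])
    · exact Or.inr (by rw [e1, ht, hb, h.c.mul r (by omega) (uM v0) (by omega)])
  -- the quotient by `⟨t⟩`
  set Ct := centralizer ({t} : Set G) with hCt
  let t' : ↥Ct := ⟨t, mem_centralizer_singleton_iff.2 rfl⟩
  let b' : ↥Ct := ⟨b, mem_centralizer_singleton_iff.2 (h.c.sE_comm hbE htE)⟩
  set Z := zpowers t' with hZ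
  have hZc : ∀ z ∈ Z, ∀ y : ↥Ct, z * y = y * z := fun z hz y => by
    obtain ⟨i, rfl⟩ := hz
    exact ((show Commute t' y from Subtype.ext (mem_centralizer_singleton_iff.1 y.2).symm).zpow_left i).eq
  haveI : Z.Normal := ⟨fun z hz y => by rw [← hZc z hz y, mul_inv_cancel_right]; exact hz⟩
  have ht2 : orderOf t' = 2 := by
    rw [← Subgroup.orderOf_coe]; exact (h.c.order_two (by omega)).2 ⟨sq_E ⟨_, hu⟩, hu0⟩
  have hZ2 : IsPGroup 2 Z := IsPGroup.of_card (n := 1) (by rw [hZ, Nat.card_zpowers, ht2, pow_one])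
  have hZmem : ∀ z ∈ Z, (z : G) = 1 ∨ (z : G) = t := fun z hz => by
    obtain ⟨i, rfl⟩ := hz
    show ((t' ^ i : ↥Ct) : G) = 1 ∨ ((t' ^ i : ↥Ct) : G) = t
    rw [SubgroupClass.coe_zpow]
    show t ^ i = 1 ∨ t ^ i = t
    rcases Int.even_or_odd i with ⟨j, rfl⟩ | ⟨j, rfl⟩
    · left; rw [zpow_add, ← (Commute.refl t).mul_zpow, h.c.E_sq hu, one_zpow]
    · right; rw [zpow_add, zpow_mul, zpow_ofNat, pow_two, h.c.E_sq hu, one_zpow, one_mul, zpow_one]
  set π := QuotientGroup.mk' Z with hπ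
  obtain ⟨P, hP⟩ := (show IsPGroup 2 ↥(((S : Subgroup G) ⊓ Ct).subgroupOf Ct) from
    (S.isPGroup'.to_le inf_le_left).comap_subtype).exists_le_sylow
  obtain ⟨c, hc, hcN, hcS⟩ := D.move_cent (P.isPGroup'.map Ct.subtype)
    (fun a ha => ⟨⟨a, mem_centralizer_singleton_iff.2 (h.c.sE_comm ha htE)⟩, hP (mem_subgroupOf.2 ⟨h.c.sE_le ha,
      mem_centralizer_singleton_iff.2 (h.c.sE_comm ha htE)⟩), rfl⟩) (map_subtype_le _)
  have hPS : ∀ y : ↥Ct, y ∈ (P : Subgroup ↥Ct) → (y : G) ∈ (S : Subgroup G) := by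
    have hle : ((S : Subgroup G) ⊓ Ct).subgroupOf Ct = (P : Subgroup ↥Ct) := by
      refine Subgroup.eq_of_le_of_card_ge hP ?_
      rw [Nat.card_congr (subgroupOfEquivOfLe (inf_le_right : (S : Subgroup G) ⊓ Ct ≤ Ct)).toEquiv]
      refine Nat.card_le_card_of_injective (fun y : ↥(P : Subgroup ↥Ct) =>
        (⟨c * ((y : ↥Ct) : G) * c⁻¹, hcS _ (mem_map_of_mem _ y.2), Ct.mul_mem (Ct.mul_mem hc y.1.2) (Ct.inv_mem hc)⟩ :
          ↥((S : Subgroup G) ⊓ Ct))) fun a a' he => ?_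
      exact Subtype.ext (Subtype.ext (mul_left_cancel (mul_right_cancel (congrArg Subtype.val he))))
    exact fun y hy => (mem_subgroupOf.1 (hle.ge hy)).1
  have hbP : b' ∈ (P : Subgroup ↥Ct) := hP (mem_subgroupOf.2 ⟨h.c.sE_le hbE, b'.2⟩)
  have htP : t' ∈ (P : Subgroup ↥Ct) := hP (mem_subgroupOf.2 ⟨h.c.sE_le htE, t'.2⟩)
  have hb2 : orderOf (π b') = 2 := by
    refine Invol.orderOf_two_iff.2 ⟨?_, fun e1 => ?_⟩
    · rw [← map_mul, show b' * b' = 1 from Subtype.ext (h.c.E_sq hr), map_one]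
    · rcases hZmem _ ((QuotientGroup.eq_one_iff b').1 e1) with e2 | e2
      · exact hr0 ((h.c.eq_one (by omega)).1 e2)
      · exact hrt ((h.c.eq_iff (by omega) (by omega)).1 e2)
  obtain ⟨N, hN, hodd, hcomm⟩ := S0215.result (P.mapSurjective (QuotientGroup.mk'_surjective Z)) (π b') hb2
    (by show π b' ∈ ((P.mapSurjective (QuotientGroup.mk'_surjective Z) : Sylow 2 (↥Ct ⧸ Z)) : Subgroup (↥Ct ⧸ Z)); rw [Sylow.coe_mapSurjective]; exact mem_map_of_mem _ hbP)
    fun y hy => by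
      obtain ⟨y, rfl⟩ := QuotientGroup.mk'_surjective Z y
      change _ ∈ ((P.mapSurjective (QuotientGroup.mk'_surjective Z) : Sylow 2 (↥Ct ⧸ Z)) : Subgroup (↥Ct ⧸ Z)) at hy
      rw [Sylow.coe_mapSurjective] at hy
      obtain ⟨p, hp, hpe⟩ := hy
      rw [← map_inv, ← map_mul, ← map_mul] at hpe ⊢
      have hmem : y * b' * y⁻¹ ∈ (P : Subgroup ↥Ct) := by
        have h3 := (P : Subgroup ↥Ct).mul_mem hp (zpowers_le.2 htP ((QuotientGroup.eq).1 hpe))
        rwa [mul_inv_cancel_left] at h3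
      refine QuotientGroup.eq.2 ?_
      rcases hiso y y.2 (hPS _ hmem) with e1 | e1
      · rw [show y * b' * y⁻¹ = b' from Subtype.ext e1, inv_mul_cancel]; exact one_mem _
      · rw [show y * b' * y⁻¹ = b' * t' from Subtype.ext e1, mul_inv_rev, inv_mul_cancel_right]
        exact inv_mem (mem_zpowers _)
  have hNle : N ≤ Cfsg.pPrimeCore 2 (↥Ct ⧸ Z) := le_pPrimeCore hN (Nat.coprime_two_right.2 hodd)
  set w := b' * ⟨g, hg⟩ * b'⁻¹ * (⟨g, hg⟩ : ↥Ct)⁻¹ with hw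
  have hwN : π w ∈ Cfsg.pPrimeCore 2 (↥Ct ⧸ Z) := hNle (by rw [hw, map_mul, map_mul, map_mul, map_inv, map_inv]; exact hcomm _)
  -- split off `t`
  have hsplit : ∀ w : ↥Ct, π w ∈ Cfsg.pPrimeCore 2 (↥Ct ⧸ Z) → (w : G) ∈ theta t ⊔ zpowers t := by
    intro w hw'
    set m := Nat.card ↥(Cfsg.pPrimeCore 2 (↥Ct ⧸ Z))
    have hm : Odd m := Nat.coprime_two_right.1 pPrimeCore_coprime
    obtain ⟨k, hk⟩ := hm
    have h3 : π (w ^ m) = 1 := by
      rw [map_pow]
      exact orderOf_dvd_iff_pow_eq_one.1 ((Cfsg.pPrimeCore 2 (↥Ct ⧸ Z)).orderOf_dvd_natCard hw')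
    have h4 : w ^ m ∈ Z := (QuotientGroup.eq_one_iff _).1 h3
    obtain ⟨y, hy⟩ : ∃ y, y = w ^ (m + 1) := ⟨_, rfl⟩
    have hym : y ^ m = 1 := by
      rw [hy, ← pow_mul, mul_comm, pow_mul, hk, show 2 * k + 1 + 1 = 2 * (k + 1) by omega, pow_mul]
      have h5 : (w ^ (2 * k + 1)) ^ 2 = 1 := by
        rw [← hk]
        rcases hZmem _ h4 with e1 | e1
        · rw [show w ^ m = 1 from Subtype.ext e1, one_pow]
        · rw [show w ^ m = t' from Subtype.ext e1, ← ht2, pow_orderOf_eq_one]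
      rw [h5, one_pow]
    have hyc : y ∈ Cfsg.pPrimeCore 2 ↥Ct := odd_mem_core_of_central Z hZ2 hZc
      (by show π y ∈ _; rw [hy, map_pow]; exact pow_mem hw' _)
      ((show Odd m from ⟨k, hk⟩).of_dvd_nat (orderOf_dvd_of_pow_eq_one hym))
    have hwy : (w : G) = (y : G) * ((w ^ m : ↥Ct) : G)⁻¹ := by
      rw [hy]; simp only [SubgroupClass.coe_pow]; rw [pow_succ', mul_inv_cancel_right]
    rw [hwy]
    refine mul_mem (mem_sup_left ⟨y, hyc, rfl⟩) (inv_mem (mem_sup_right ?_))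
    rcases hZmem _ h4 with e1 | e1
    · rw [e1]; exact one_mem _
    · rw [e1]; exact mem_zpowers _
  have h6 := hsplit _ hwN
  have h7 : g * b * g⁻¹ * b⁻¹ = (b * g * b⁻¹ * g⁻¹)⁻¹ := by group
  rw [h7]
  exact inv_mem h6

theorem cent_pair_le : centralizer ({e (uM v0)} : Set G) ≤ normalizer (D.Wc : Set G) := by
  classical
  haveI : Fact (Nat.Prime 2) := ⟨Nat.prime_two⟩
  obtain ⟨hu, -, hu0, -⟩ := vOk_uM D.ok
  obtain ⟨⟨r, hr⟩, h1, h2⟩ := six_pair ⟨v0, D.ok.2⟩ D.ok.1 cl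
  simp only at h1 h2
  set t := e (uM v0) with ht
  set b := e r with hb
  have htE : t ∈ h.c.sE := ⟨_, hu, rfl⟩
  have hbE : b ∈ h.c.sE := ⟨_, hr, rfl⟩
  have hr0 := ((D.six_iff hr).1 h1).1
  set F := D.fourT hu hr with hF
  haveI : Fintype ↥F := Fintype.ofFinite _
  have hFE : F ≤ h.c.sE := by
    rintro x (rfl | rfl | rfl | rfl)
    exacts [one_mem _, htE, hbE, mul_mem hbE htE]
  have htF : t ∈ F := Or.inr (Or.inl rfl)
  have hbF : b ∈ F := Or.inr (Or.inr (Or.inl rfl))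
  have hrt : r ≠ uM v0 := fun e1 => by
    have hmm : mM r r = 0 := sq_E ⟨r, hr⟩
    rw [← e1, hmm] at h2
    simp [sixB] at h2
  have hF4 : 4 ≤ Nat.card F := by
    have hs : ({1, t, b, b * t} : Finset G) ⊆ (Finset.univ : Finset ↥F).map ⟨Subtype.val, Subtype.val_injective⟩ := by
      intro x hx
      simp only [Finset.mem_insert, Finset.mem_singleton] at hx
      exact Finset.mem_map.2 ⟨⟨x, hx⟩, Finset.mem_univ _, rfl⟩
    have hc4 : ({1, t, b, b * t} : Finset G).card = 4 := by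
      rw [← h.c.zero, ht, hb, h.c.mul r (by omega) (uM v0) (by omega)]
      have hne : ∀ {i j : ℕ}, i < 64 → j < 64 → i ≠ j → e i ≠ e j := fun hi hj hij he => hij ((h.c.eq_iff hi hj).1 he)
      have hrt0 := ((D.six_iff (show mM r (uM v0) < 16 from
        (by decide +kernel : ∀ k : Fin 16, ∀ v : Fin 4, mM k (uM v) < 16) ⟨r, hr⟩ ⟨v0, D.ok.2⟩)).1 h2).1
      obtain ⟨hA, hB⟩ := (by decide +kernel : ∀ r : Fin 16, ∀ v : Fin 4, 1 ≤ (v : ℕ) → (r : ℕ) ≠ 0 → (r : ℕ) ≠ uM v →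
        mM r (uM v) ≠ uM v ∧ mM r (uM v) ≠ r) ⟨r, hr⟩ ⟨v0, D.ok.2⟩ D.ok.1 hr0 hrt
      refine Finset.card_eq_of_equiv_fin (Finset.equivFinOfCardEq ?_)
      rw [Finset.card_insert_of_notMem, Finset.card_insert_of_notMem, Finset.card_pair]
      · exact hne (by omega) (mM_lt _ _) (Ne.symm hB)
      · simp only [Finset.mem_insert, Finset.mem_singleton, not_or]
        exact ⟨hne (by omega) (by omega) (Ne.symm hrt), hne (by omega) (mM_lt _ _) (Ne.symm hA)⟩
      · simp only [Finset.mem_insert, Finset.mem_singleton, not_or]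
        exact ⟨hne (by omega) (by omega) (Ne.symm hu0), hne (by omega) (by omega) (Ne.symm hr0),
          hne (by omega) (mM_lt _ _) (Ne.symm hrt0)⟩
    have h3 := Finset.card_le_card hs
    rw [hc4, Finset.card_map, Finset.card_univ, ← Nat.card_eq_fintype_card] at h3
    exact h3
  have hFel : Cfsg.IsElementaryAbelian 2 F := elemAb_mono h.c.sE_elem hFE
  -- elements of `F#` and their cores
  have hF6 : ∀ f ∈ F, f ≠ 1 → ∃ m < 16, f = e m ∧ sixB v0 cl m = true := by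
    rintro f (rfl | rfl | rfl | rfl) hf1
    · exact absurd rfl hf1
    · exact ⟨_, hu, rfl, (by decide +kernel : ∀ v : Fin 4, 1 ≤ (v : ℕ) → ∀ cl : Bool, sixB v cl (uM v) = true)
        ⟨v0, D.ok.2⟩ D.ok.1 cl⟩
    · exact ⟨r, hr, rfl, h1⟩
    · exact ⟨_, (by decide +kernel : ∀ k : Fin 16, ∀ v : Fin 4, mM k (uM v) < 16) ⟨r, hr⟩ ⟨v0, D.ok.2⟩,
        h.c.mul r (by omega) (uM v0) (by omega), h2⟩
  have hsplit : ∀ f ∈ F, f ≠ 1 → ∀ g ∈ centralizer ({f} : Set G),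
      ∃ o ∈ theta f, o⁻¹ * g ∈ normalizer (F : Set G) := by
    intro f hf hf1 g hg
    obtain ⟨m, hm, hfe, hm6⟩ := hF6 f hf hf1
    obtain ⟨n, hn, hne⟩ := D.six_transitive hm hm6
    rw [← hfe] at hne
    -- transport the commutator property
    obtain ⟨k, hk, hke⟩ := h.norm_code hn hr
    obtain ⟨k', hk', hke'⟩ := h.norm_code hn
      ((by decide +kernel : ∀ k : Fin 16, ∀ v : Fin 4, mM k (uM v) < 16) ⟨r, hr⟩ ⟨v0, D.ok.2⟩)
    have hk6 := D.six_conj hn hr hk hke h1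
    have hk6' := D.six_conj hn ((by decide +kernel : ∀ k : Fin 16, ∀ v : Fin 4, mM k (uM v) < 16) ⟨r, hr⟩ ⟨v0, D.ok.2⟩)
      hk' hke' h2
    have hkf : e k' = e k * f := by
      rw [hke', ← h.c.mul r (by omega) (uM v0) (by omega), hke, ← hne]; group
    have hkm : mM k m = k' := by
      refine (h.c.eq_iff (mM_lt _ _) (by omega)).1 ?_
      rw [← h.c.mul k (by omega) m (by omega), ← hfe, hkf]
    have hkF : e k ∈ F := by
      -- a partner of `f` inside `F`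
      obtain ⟨s, hs, hse, hs6, hsm⟩ : ∃ s < 16, e s ∈ F ∧ sixB v0 cl s = true ∧ sixB v0 cl (mM s m) = true := by
        have hu6 : sixB v0 cl (uM v0) = true :=
          (by decide +kernel : ∀ v : Fin 4, 1 ≤ (v : ℕ) → ∀ cl : Bool, sixB v cl (uM v) = true) ⟨v0, D.ok.2⟩ D.ok.1 cl
        have key : ∀ v : Fin 4, ∀ r : Fin 16, mM (uM v) r = mM r (uM v) ∧
            mM (uM v) (mM r (uM v)) = r := by decide +kernel
        obtain ⟨ka, kb⟩ := key ⟨v0, D.ok.2⟩ ⟨r, hr⟩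
        simp only at ka kb
        rcases hf with rfl | rfl | rfl | rfl
        · exact absurd rfl hf1
        · have : m = uM v0 := ((h.c.eq_iff (by omega) (by omega)).1 hfe).symm
          subst this
          exact ⟨r, hr, hbF, h1, h2⟩
        · have : m = r := ((h.c.eq_iff (by omega) (by omega)).1 hfe).symm
          subst this
          exact ⟨uM v0, hu, htF, hu6, ka ▸ h2⟩
        · have : m = mM r (uM v0) := by
            rw [h.c.mul r (by omega) (uM v0) (by omega), h.c.eq_iff (mM_lt _ _) (by omega)] at hfe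
            exact hfe.symm
          subst this
          exact ⟨uM v0, hu, htF, hu6, by rw [kb]; exact h1⟩
      rcases six_unique ⟨v0, D.ok.2⟩ D.ok.1 cl ⟨m, hm⟩ ⟨s, hs⟩ ⟨k, hk⟩ hm6 hs6 hsm hk6 (by simp only; rwa [hkm])
        with e1 | e1 <;> simp only at e1
      · rw [e1]; exact hse
      · rw [e1, ← h.c.mul s (by omega) m (by omega), ← hfe]; exact mul_mem hse hf
    have hFgen : ∀ x ∈ F, x = 1 ∨ x = f ∨ x = e k ∨ x = e k * f := by
      intro x hx
      have hsub : ({1, f, e k, e k * f} : Finset G) ⊆ (Finset.univ : Finset ↥F).map ⟨Subtype.val, Subtype.val_injective⟩ := by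
        intro y hy
        simp only [Finset.mem_insert, Finset.mem_singleton] at hy
        refine Finset.mem_map.2 ⟨⟨y, ?_⟩, Finset.mem_univ _, rfl⟩
        rcases hy with rfl | rfl | rfl | rfl
        exacts [one_mem _, hf, hkF, mul_mem hkF hf]
      have hk0 := ((D.six_iff hk).1 hk6).1
      have hk0' := ((D.six_iff hk').1 hk6').1
      have hne4 : ({1, f, e k, e k * f} : Finset G).card = 4 := by
        have hkf1 : e k ≠ f := fun e2 => hk0' ((h.c.eq_one (show k' < 64 by omega)).1 (by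
          rw [hkf, e2, hfe, h.c.E_sq hm]))
        have hk1 : e k ≠ 1 := fun e2 => hk0 ((h.c.eq_one (show k < 64 by omega)).1 e2)
        have hk1' : e k * f ≠ 1 := fun e2 => hk0' ((h.c.eq_one (show k' < 64 by omega)).1 (by rw [hkf, e2]))
        rw [Finset.card_insert_of_notMem, Finset.card_insert_of_notMem, Finset.card_pair]
        · exact fun e2 => hf1 (mul_eq_left.1 e2.symm)
        · simp only [Finset.mem_insert, Finset.mem_singleton, not_or]
          exact ⟨Ne.symm hkf1, fun e2 => hk1 (mul_eq_right.1 e2.symm)⟩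
        · simp only [Finset.mem_insert, Finset.mem_singleton, not_or]
          exact ⟨Ne.symm hf1, Ne.symm hk1, Ne.symm hk1'⟩
      have hF4' : Fintype.card ↥F = 4 := by
        refine le_antisymm ?_ (by rw [← Nat.card_eq_fintype_card]; exact hF4)
        have hs' : (Finset.univ : Finset ↥F).map ⟨Subtype.val, Subtype.val_injective⟩ ⊆ ({1, t, b, b * t} : Finset G) := by
          intro y hy
          obtain ⟨⟨y, hy'⟩, -, rfl⟩ := Finset.mem_map.1 hy
          simp only [Finset.mem_insert, Finset.mem_singleton]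
          exact hy'
        have := Finset.card_le_card hs'
        rw [Finset.card_map, Finset.card_univ] at this
        exact this.trans Finset.card_le_four
      have heq := Finset.eq_of_subset_of_card_le hsub (by rw [Finset.card_map, Finset.card_univ, hne4, hF4'])
      have hxm : x ∈ ({1, f, e k, e k * f} : Finset G) := heq ▸ Finset.mem_map.2 ⟨⟨x, hx⟩, Finset.mem_univ _, rfl⟩
      simpa using hxm
    refine exists_frattini (theta_odd f) (elemAb_isPGroup hFel)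
      (fun p hp => mem_normalizer_fintype fun y hy => centralizerPPrimeCore_conj (elemAb_comm hFel p hp f hf) hy) ?_
    have hgk : g * e k * g⁻¹ * (e k)⁻¹ ∈ theta f ⊔ zpowers f := by
      have hc : n⁻¹ * g * n ∈ centralizer ({t} : Set G) := by
        refine mem_centralizer_singleton_iff.2 ?_
        have h5 := mem_centralizer_singleton_iff.1 hg
        rw [← hne, ← ht] at h5
        calc n⁻¹ * g * n * t = n⁻¹ * (g * (n * t * n⁻¹)) * n := by group
          _ = _ := by rw [h5]; group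
      have h6 := D.zstar_pair hr h1 h2 hc
      have hle : (theta t ⊔ zpowers t).map (MulAut.conj n).toMonoidHom ≤ theta f ⊔ zpowers f := by
        rw [Subgroup.map_sup]
        refine sup_le_sup ?_ ?_
        · rintro _ ⟨y, hy, rfl⟩; exact hne ▸ conj_mem_theta hy
        · rw [MonoidHom.map_zpowers]; exact (zpowers_le.2 (by rw [← hne]; exact mem_zpowers _))
      have h7 := hle ⟨_, h6, rfl⟩
      change n * (n⁻¹ * g * n * b * (n⁻¹ * g * n)⁻¹ * b⁻¹) * n⁻¹ ∈ _ at h7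
      rwa [hke, show g * (n * b * n⁻¹) * g⁻¹ * (n * b * n⁻¹)⁻¹ =
        n * (n⁻¹ * g * n * b * (n⁻¹ * g * n)⁻¹ * b⁻¹) * n⁻¹ by group]
    have hgf : g * f * g⁻¹ = f := mul_inv_eq_iff_eq_mul.2 (mem_centralizer_singleton_iff.1 hg)
    have hin : g * e k * g⁻¹ ∈ theta f ⊔ F := by
      have h8 := mul_mem ((sup_le_sup_left (zpowers_le.2 hf) (theta f)) hgk) (mem_sup_right (S := theta f) hkF)
      rwa [inv_mul_cancel_right] at h8
    intro p hp
    rcases hFgen p hp with rfl | rfl | rfl | rfl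
    · rw [mul_one, mul_inv_cancel]; exact one_mem _
    · rw [hgf]; exact mem_sup_right hf
    · exact hin
    · rw [show g * (e k * f) * g⁻¹ = g * e k * g⁻¹ * (g * f * g⁻¹) by group, hgf]
      exact mul_mem hin (mem_sup_right hf)
  have htheta : ∀ f ∈ F, f ≠ 1 → theta f ≤ D.Wc := fun f hf hf1 => by
    obtain ⟨m, hm, rfl, -⟩ := hF6 f hf hf1
    exact D.theta_E hm fun e1 => hf1 (by rw [e1, h.c.zero])
  set M := normalizer (D.Wc : Set G) with hM
  -- the centraliser of `F`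
  set Y := centralizer (F : Set G) with hY
  have hEY : h.c.sE ≤ Y := fun a ha => mem_centralizer_iff.2 fun f hf => h.c.sE_comm (hFE hf) ha
  have hYf : ∀ f ∈ F, Y ≤ centralizer ({f} : Set G) := fun f hf y hy =>
    mem_centralizer_singleton_iff.2 (mem_centralizer_iff.1 hy f hf).symm
  have hEsyl : ∀ R : Subgroup G, IsPGroup 2 R → h.c.sE ≤ R → R ≤ Y → R = h.c.sE := by
    intro R hR hER hRY
    refine le_antisymm (fun x hx => ?_) hER
    obtain ⟨c, hc, hcN, hcS⟩ := D.move_cent hR hER (hRY.trans (hYf t htF))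
    obtain ⟨j, hj, hje⟩ := (h.c.mem _).1 (hcS x hx)
    obtain ⟨i, hi, hie⟩ := h.norm_code hcN hr
    have hct : c * t * c⁻¹ = t := mul_inv_eq_iff_eq_mul.2 (mem_centralizer_singleton_iff.1 hc)
    have hlt' : mM r (uM v0) < 16 := (by decide +kernel : ∀ k : Fin 16, ∀ v : Fin 4, mM k (uM v) < 16) ⟨r, hr⟩ ⟨v0, D.ok.2⟩
    have hlt : mM i (uM v0) < 16 := (by decide +kernel : ∀ k : Fin 16, ∀ v : Fin 4, mM k (uM v) < 16) ⟨i, hi⟩ ⟨v0, D.ok.2⟩
    have hi6 := D.six_conj hcN hr hi hie h1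
    have hi6' := D.six_conj hcN hlt' hlt (by
      rw [← h.c.mul i (by omega) (uM v0) (by omega), ← h.c.mul r (by omega) (uM v0) (by omega), hie, ← ht,
        show c * (e r * t) * c⁻¹ = c * e r * c⁻¹ * (c * t * c⁻¹) by group, hct]) h2
    have h16 : j < 16 := by
      refine six_cent ⟨v0, D.ok.2⟩ D.ok.1 cl ⟨i, hi⟩ hi6 hi6' ⟨j, hj⟩ ?_ ?_
      · refine (h.c.comm_iff hj (show uM v0 < 64 by omega)).1 ?_
        rw [hje, ← ht]
        conv_lhs => rw [← hct]
        conv_rhs => rw [← hct]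
        have h5 := mem_centralizer_singleton_iff.1 (hYf t htF (hRY hx))
        calc c * x * c⁻¹ * (c * t * c⁻¹) = c * (x * t) * c⁻¹ := by group
          _ = _ := by rw [h5]; group
      · refine (h.c.comm_iff hj (show i < 64 by omega)).1 ?_
        rw [hje, hie, ← hb]
        have h5 := mem_centralizer_singleton_iff.1 (hYf b hbF (hRY hx))
        calc c * x * c⁻¹ * (c * b * c⁻¹) = c * (x * b) * c⁻¹ := by group
          _ = _ := by rw [h5]; group
    exact (mem_normalizer_iff.1 hcN x).2 (hje ▸ ⟨j, h16, rfl⟩)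
  have hFM : F ≤ M := hFE.trans (h.c.sE_le.trans (h.S_le_norm.trans D.norm_E))
  have hYM : Y ≤ M := by
    -- the image of `Y ∩ M` in `Y/F`
    set F' := F.subgroupOf Y with hF'
    have hF'c : ∀ z ∈ F', ∀ y : ↥Y, z * y = y * z := fun z hz y =>
      Subtype.ext (mem_centralizer_iff.1 y.2 _ (mem_subgroupOf.1 hz))
    haveI : F'.Normal := ⟨fun z hz y => by rw [← hF'c z hz y, mul_inv_cancel_right]; exact hz⟩
    set π := QuotientGroup.mk' F' with hπ
    obtain ⟨P, hP⟩ := (show IsPGroup 2 ↥(h.c.sE.subgroupOf Y) from (elemAb_isPGroup h.c.sE_elem).comap_subtype).exists_le_sylow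
    have hPE : (P : Subgroup ↥Y) = h.c.sE.subgroupOf Y := by
      refine le_antisymm (fun y hy => mem_subgroupOf.2 ?_) hP
      have h5 := hEsyl _ (P.isPGroup'.map Y.subtype) (fun a ha => ⟨⟨a, hEY ha⟩, hP (mem_subgroupOf.2 ha), rfl⟩)
        (map_subtype_le _)
      rw [← h5]; exact mem_map_of_mem _ hy
    set P' := P.mapSurjective (QuotientGroup.mk'_surjective F') with hP'
    set Mb := ((Y ⊓ M).subgroupOf Y).map π with hMb
    have hEM : h.c.sE ≤ M := h.c.sE_le.trans (h.S_le_norm.trans D.norm_E)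
    have hPM : (P' : Subgroup (↥Y ⧸ F')) ≤ Mb := by
      rw [hP', Sylow.coe_mapSurjective, hPE]
      exact map_mono fun y hy => mem_subgroupOf.2 ⟨y.2, hEM (mem_subgroupOf.1 hy)⟩
    have hkey : ∀ x ∈ (P' : Subgroup (↥Y ⧸ F')), orderOf x = 2 → ∀ g : ↥Y ⧸ F',
        g * x * g⁻¹ ∈ (P' : Subgroup (↥Y ⧸ F')) → g ∈ Mb := by
      intro x hx hx2 g hg
      rw [hP', Sylow.coe_mapSurjective, hPE] at hx hg
      obtain ⟨⟨_, hxY⟩, ⟨m, hm, rfl⟩, rfl⟩ := hx
      obtain ⟨y, rfl⟩ := QuotientGroup.mk'_surjective F' g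
      have hmF : e m ∉ F := fun hh => Invol.ne_one_of_orderOf_two hx2
        ((QuotientGroup.eq_one_iff _).2 (mem_subgroupOf.2 hh))
      obtain ⟨f, hf, k, hk, hkO, hke⟩ : ∃ f ∈ F, ∃ k < 16, h.IsO k ∧ e k = e m * f := by
        have hlt : ∀ {i : ℕ}, i < 16 → mM m i < 16 := fun {i} hi =>
          (by decide +kernel : ∀ a b : Fin 16, mM a b < 16) ⟨m, hm⟩ ⟨i, hi⟩
        have hlt' : mM r (uM v0) < 16 := (by decide +kernel : ∀ k : Fin 16, ∀ v : Fin 4, mM k (uM v) < 16) ⟨r, hr⟩ ⟨v0, D.ok.2⟩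
        rcases six_coset ⟨v0, D.ok.2⟩ D.ok.1 cl ⟨r, hr⟩ ⟨m, hm⟩ h1 h2
          (fun e1 => hmF (by simp only at e1; rw [e1, h.c.zero]; exact one_mem _))
          (fun e1 => hmF (by simp only at e1; rw [e1]; exact htF))
          (fun e1 => hmF (by simp only at e1; rw [e1]; exact hbF))
          (fun e1 => hmF (by simp only at e1; rw [e1, ← h.c.mul r (by omega) (uM v0) (by omega)]; exact mul_mem hbF htF))
          with e1 | e1 | e1 | e1 <;> simp only at e1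
        · exact ⟨1, one_mem _, m, hm, (D.orb m hm).2 e1, (mul_one _).symm⟩
        · exact ⟨t, htF, _, hlt hu, (D.orb _ (hlt hu)).2 e1, (h.c.mul m (by omega) _ (by omega)).symm⟩
        · exact ⟨b, hbF, _, hlt hr, (D.orb _ (hlt hr)).2 e1, (h.c.mul m (by omega) _ (by omega)).symm⟩
        · exact ⟨b * t, mul_mem hbF htF, _, hlt hlt', (D.orb _ (hlt hlt')).2 e1, by
            rw [hb, ht, h.c.mul r (by omega) (uM v0) (by omega), h.c.mul m (by omega) _ (by omega)]⟩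
      rw [← map_inv, ← map_mul, ← map_mul] at hg
      obtain ⟨p, hp, hpe⟩ := hg
      have h5 : (p : G)⁻¹ * ((y : G) * e m * (y : G)⁻¹) ∈ F := mem_subgroupOf.1 ((QuotientGroup.eq).1 hpe)
      have h6 : (y : G) * e m * (y : G)⁻¹ ∈ h.c.sE := by
        have := mul_mem (mem_subgroupOf.1 hp) (hFE h5)
        rwa [mul_inv_cancel_left] at this
      have h7 : (y : G) * e k * (y : G)⁻¹ ∈ h.c.sE := by
        rw [hke, show (y : G) * (e m * f) * (y : G)⁻¹ = (y : G) * e m * (y : G)⁻¹ * ((y : G) * f * (y : G)⁻¹) by group,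
          show (y : G) * f * (y : G)⁻¹ = f from mul_inv_eq_iff_eq_mul.2 (mem_centralizer_iff.1 y.2 f hf).symm]
        exact mul_mem h6 (hFE hf)
      obtain ⟨n, hnY, hnN, hne⟩ := h.fusion_E hEY y.2 ⟨k, hk, rfl⟩ h7
      obtain ⟨n0, hn0, hn0e⟩ := h.O_transitive hk hkO
      have hck : centralizer ({e k} : Set G) ≤ M := h.cent_le_of_conj (D.norm_E hn0) hn0e D.cent_z
      have h8 : n⁻¹ * (y : G) ∈ M := hck (mem_centralizer_singleton_iff.2 (mul_inv_eq_iff_eq_mul.1 (by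
        calc n⁻¹ * (y : G) * e k * (n⁻¹ * (y : G))⁻¹ = n⁻¹ * ((y : G) * e k * (y : G)⁻¹) * n := by group
          _ = n⁻¹ * (n * e k * n⁻¹) * n := by rw [hne]
          _ = _ := by group)))
      have h9 := mul_mem (D.norm_E hnN) h8
      rw [mul_inv_cancel_left] at h9
      exact mem_map_of_mem _ (mem_subgroupOf.2 ⟨y.2, h9⟩)
    have heven : Even (Nat.card ↥Mb) := by
      have hm : ∃ m : Fin 16, e m ∉ F := by
        by_contra hcon
        push Not at hcon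
        have hle : h.c.sE ≤ F := fun a ⟨m, hm, hma⟩ => hma ▸ hcon ⟨m, hm⟩
        have h5 := Nat.card_mono (Set.toFinite _) hle
        have h6 : Nat.card ↥F ≤ 4 := by
          have hs' : (Finset.univ : Finset ↥F).map ⟨Subtype.val, Subtype.val_injective⟩ ⊆ ({1, t, b, b * t} : Finset G) := by
            intro y hy
            obtain ⟨⟨y, hy'⟩, -, rfl⟩ := Finset.mem_map.1 hy
            simp only [Finset.mem_insert, Finset.mem_singleton]
            exact hy'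
          have := Finset.card_le_card hs'
          rw [Finset.card_map, Finset.card_univ, ← Nat.card_eq_fintype_card] at this
          exact this.trans Finset.card_le_four
        have h7 : Nat.card ↥h.c.sE ≤ Nat.card ↥F := h5
        rw [h.c.sE_card] at h7
        omega
      obtain ⟨m, hm⟩ := hm
      have hmE : e m ∈ h.c.sE := ⟨m, m.2, rfl⟩
      refine Invol.even_card_of_mem (t := π ⟨e m, hEY hmE⟩) (Invol.orderOf_two_iff.2 ⟨?_, fun e1 => ?_⟩)
        (mem_map_of_mem _ (mem_subgroupOf.2 ⟨hEY hmE, hEM hmE⟩))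
      · rw [← map_mul, show (⟨e m, hEY hmE⟩ : ↥Y) * ⟨e m, hEY hmE⟩ = 1 from Subtype.ext (h.c.E_sq m.2), map_one]
      · exact hm (mem_subgroupOf.1 ((QuotientGroup.eq_one_iff _).1 e1))
    rcases se_or_top P' hPM heven hkey with e1 | e1
    · intro y hy
      obtain ⟨m, hm, hme⟩ : π ⟨y, hy⟩ ∈ Mb := e1 ▸ mem_top _
      have h5 : ((m : ↥Y) : G)⁻¹ * y ∈ F := mem_subgroupOf.1 ((QuotientGroup.eq).1 hme)
      have := mul_mem (mem_subgroupOf.1 hm).2 (hFM h5)
      rwa [mul_inv_cancel_left] at this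
    -- strongly embedded: the closure is generated at `F`
    set WY := D.Wc ⊓ Y with hWY
    have hWYM : WY ≤ Y ⊓ M := le_inf inf_le_right (inf_le_left.trans le_normalizer)
    have hWYodd : Odd (Nat.card ↥WY) := D.W_odd.of_dvd_nat (card_dvd_of_le inf_le_left)
    have hcore : (WY.subgroupOf Y).map π ≤ Cfsg.oddCore (↥Y ⧸ F') := by
      have hle : (WY.subgroupOf Y).map π ≤ Mb := map_mono fun y hy => hWYM hy
      refine le_oddCore_of_se e1 hle ⟨fun x hx g => mem_subgroupOf.2 ?_⟩ ?_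
      · obtain ⟨w, hw, hwe⟩ := mem_subgroupOf.1 hx
        obtain ⟨m, hm, hme⟩ := g.2
        refine ⟨m * w * m⁻¹, mem_subgroupOf.2 ⟨?_, (m * w * m⁻¹).2⟩, ?_⟩
        · exact (mem_normalizer_iff.1 (mem_subgroupOf.1 hm).2 _).1 (mem_subgroupOf.1 hw).1
        · show π (m * w * m⁻¹) = (g : ↥Y ⧸ F') * (x : ↥Y ⧸ F') * (g : ↥Y ⧸ F')⁻¹
          rw [map_mul, map_mul, map_inv, hwe, hme]
      · refine Odd.of_dvd_nat ?_ (card_map_dvd _ _)
        rw [Nat.card_congr (subgroupOfEquivOfLe (inf_le_right : WY ≤ Y)).toEquiv]; exact hWYodd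
    set OY := (Cfsg.pPrimeCore 2 ↥Y).map Y.subtype with hOY
    have hWO : WY ≤ OY := fun w hw => by
      refine ⟨⟨w, hw.2⟩, odd_mem_core_of_central F' ((elemAb_isPGroup hFel).comap_subtype) hF'c
        (hcore (mem_map_of_mem _ (mem_subgroupOf.2 hw))) ?_, rfl⟩
      rw [Subgroup.orderOf_mk]
      exact hWYodd.of_dvd_nat (WY.orderOf_dvd_natCard hw)
    have hYN : ∀ n ∈ normalizer (F : Set G), ∀ y ∈ Y, n * y * n⁻¹ ∈ Y := fun n hn y hy => by
      refine mem_centralizer_iff.2 fun f hf => ?_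
      have h5 := mem_centralizer_iff.1 hy _ ((mem_normalizer_iff.1 (inv_mem hn) f).1 hf)
      rw [inv_inv] at h5
      calc f * (n * y * n⁻¹) = n * ((n⁻¹ * f * n) * y) * n⁻¹ := by group
        _ = n * (y * (n⁻¹ * f * n)) * n⁻¹ := by rw [h5]
        _ = _ := by group
    have hON : ∀ n ∈ normalizer (F : Set G), ∀ x ∈ OY, n * x * n⁻¹ ∈ OY := by
      rintro n hn _ ⟨x, hx, rfl⟩
      have hle : ((Cfsg.pPrimeCore 2 ↥Y).map Y.subtype).map (MulAut.conj n).toMonoidHom ≤ Y := by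
        rintro _ ⟨_, ⟨w, _, rfl⟩, rfl⟩; exact hYN n hn _ w.2
      have hsub : (((Cfsg.pPrimeCore 2 ↥Y).map Y.subtype).map (MulAut.conj n).toMonoidHom).subgroupOf Y ≤
          Cfsg.pPrimeCore 2 ↥Y := by
        refine le_pPrimeCore ⟨fun a ha y => ?_⟩ ?_
        · obtain ⟨_, ⟨w, hw, rfl⟩, hwa⟩ := mem_subgroupOf.1 ha
          refine mem_subgroupOf.2 ⟨_, ⟨⟨n⁻¹ * y * n, by simpa using hYN n⁻¹ (inv_mem hn) y y.2⟩ * w *
            (⟨n⁻¹ * y * n, by simpa using hYN n⁻¹ (inv_mem hn) y y.2⟩ : ↥Y)⁻¹,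
            pPrimeCore_isNormal.conj_mem w hw _, rfl⟩, ?_⟩
          show n * (n⁻¹ * (y : G) * n * w * (n⁻¹ * (y : G) * n)⁻¹) * n⁻¹ = (y : G) * a * (y : G)⁻¹
          rw [← hwa]
          show _ = (y : G) * (n * w * n⁻¹) * (y : G)⁻¹
          group
        · rw [Nat.card_congr (subgroupOfEquivOfLe hle).toEquiv, card_map_of_injective (MulAut.conj n).injective,
            card_map_of_injective Y.subtype_injective]
          exact pPrimeCore_coprime
      exact ⟨⟨_, hle ⟨_, ⟨x, hx, rfl⟩, rfl⟩⟩, hsub (mem_subgroupOf.2 ⟨_, ⟨x, hx, rfl⟩, rfl⟩), rfl⟩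
    have hOth : ∀ f ∈ F, f ≠ 1 → OY ≤ theta f := by
      intro f hf hf1
      have hOC : OY ≤ centralizer ({f} : Set G) := (map_subtype_le _).trans (hYf f hf)
      refine le_trans le_sup_right (le_centralizerPPrimeCore (N := theta f ⊔ OY) ?_ ?_ ?_)
      · exact fun y hy => mem_centralizer_singleton_iff.1 ((sup_le (theta_le f) hOC) hy)
      · intro c hc y hy
        suffices h5 : (theta f ⊔ OY).map (MulAut.conj c).toMonoidHom ≤ theta f ⊔ OY from h5 ⟨y, hy, rfl⟩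
        rw [Subgroup.map_sup]
        refine sup_le (le_trans ?_ le_sup_left) ?_
        · rintro _ ⟨w, hw, rfl⟩; exact centralizerPPrimeCore_conj hc hw
        · rintro _ ⟨x, hx, rfl⟩
          obtain ⟨o, ho, hon⟩ := hsplit f hf hf1 c (mem_centralizer_singleton_iff.2 hc)
          show c * x * c⁻¹ ∈ _
          rw [show c * x * c⁻¹ = o * (o⁻¹ * c * x * (o⁻¹ * c)⁻¹) * o⁻¹ by group]
          exact mul_mem (mul_mem (mem_sup_left ho) (mem_sup_right (hON _ hon x hx))) (inv_mem (mem_sup_left ho))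
      · have hn : OY ≤ normalizer (theta f : Set G) := fun x hx => mem_normalizer_fintype fun w hw =>
          centralizerPPrimeCore_conj (mem_centralizer_singleton_iff.1 (hOC hx)) hw
        rw [sup_comm]
        have h5 := card_sup_mul_card_inf (H := OY) (N := theta f) hn
        refine Nat.coprime_two_right.2 (Odd.of_dvd_nat ((Nat.odd_mul.2 ⟨?_, theta_odd f⟩)) (Dvd.intro _ h5))
        rw [hOY, card_map_of_injective Y.subtype_injective]
        exact Nat.coprime_two_right.1 pPrimeCore_coprime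
    have hWf : ∀ f ∈ F, f ≠ 1 → D.Wc ⊓ centralizer ({f} : Set G) ≤ theta f := by
      intro f hf hf1 w hw
      obtain ⟨o, ho, hon⟩ := hsplit f hf hf1 w hw.2
      obtain ⟨y, hy⟩ : ∃ y, y = o⁻¹ * w := ⟨_, rfl⟩
      rw [← hy] at hon
      have hyW : y ∈ D.Wc := hy ▸ mul_mem (inv_mem (htheta f hf hf1 ho)) hw.1
      have hyf : y * f = f * y := mem_centralizer_singleton_iff.1 (hy ▸ mul_mem (inv_mem (theta_le f ho)) hw.2)
      have hy2 : y * y ∈ Y := mem_centralizer_iff.2 fun x hx => by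
        by_cases hx1 : x = 1
        · rw [hx1, one_mul, mul_one]
        by_cases hxf : x = f
        · subst hxf
          calc x * (y * y) = (x * y) * y := (mul_assoc _ _ _).symm
            _ = _ := by rw [← hyf, mul_assoc, ← hyf, mul_assoc]
        have hx' := (mem_normalizer_iff.1 hon x).1 hx
        have hx'1 : y * x * y⁻¹ ≠ 1 := fun e2 => hx1 (conj_eq_one_iff.1 e2)
        have hx'f : y * x * y⁻¹ ≠ f := fun e2 => hxf (by
          rw [← mul_inv_eq_iff_eq_mul.2 hyf] at e2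
          exact mul_left_cancel (mul_right_cancel e2))
        have hx''1 := (mem_normalizer_iff.1 hon _).1 hx'
        -- at most two choices remain
        have hsq : y * (y * x * y⁻¹) * y⁻¹ = x := by
          by_contra hne
          have h3 : ({1, f, x, y * x * y⁻¹, y * (y * x * y⁻¹) * y⁻¹} : Finset G) ⊆
              (Finset.univ : Finset ↥F).map ⟨Subtype.val, Subtype.val_injective⟩ := by
            intro w' hw'
            simp only [Finset.mem_insert, Finset.mem_singleton] at hw'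
            refine Finset.mem_map.2 ⟨⟨w', ?_⟩, Finset.mem_univ _, rfl⟩
            rcases hw' with rfl | rfl | rfl | rfl | rfl
            exacts [one_mem _, hf, hx, hx', hx''1]
          have h4 : (Finset.univ : Finset ↥F).map ⟨Subtype.val, Subtype.val_injective⟩ ⊆ ({1, t, b, b * t} : Finset G) := by
            intro w' hw'
            obtain ⟨⟨w', hw''⟩, -, rfl⟩ := Finset.mem_map.1 hw'
            simp only [Finset.mem_insert, Finset.mem_singleton]
            exact hw''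
          have hA : y * x * y⁻¹ ≠ x := fun e2 => hne (by rw [e2, e2])
          have hB : y * (y * x * y⁻¹) * y⁻¹ ≠ y * x * y⁻¹ := fun e2 => hA (mul_left_cancel (mul_right_cancel e2))
          have hC : y * (y * x * y⁻¹) * y⁻¹ ≠ f := fun e2 => hx'f (by
            rw [← mul_inv_eq_iff_eq_mul.2 hyf] at e2
            exact mul_left_cancel (mul_right_cancel e2))
          have hD : y * (y * x * y⁻¹) * y⁻¹ ≠ 1 := fun e2 => hx'1 (conj_eq_one_iff.1 e2)
          have h5 := (Finset.card_le_card (h3.trans h4)).trans Finset.card_le_four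
          rw [Finset.card_insert_of_notMem (by simp [Ne.symm hf1, Ne.symm hx1, Ne.symm hx'1, Ne.symm hD]),
            Finset.card_insert_of_notMem (by simp [Ne.symm hxf, Ne.symm hx'f, Ne.symm hC]),
            Finset.card_insert_of_notMem (by simp [Ne.symm hA, Ne.symm hne]),
            Finset.card_pair (Ne.symm hB)] at h5
          omega
        calc x * (y * y) = y * (y * x * y⁻¹) * y⁻¹ * (y * y) := by rw [hsq]
          _ = _ := by group
      have hyY : y ∈ Y := by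
        obtain ⟨k, hk⟩ := D.W_odd.of_dvd_nat (D.Wc.orderOf_dvd_natCard hyW)
        have h5 : y = (y * y) ^ (k + 1) := by
          rw [← pow_two, ← pow_mul, show 2 * (k + 1) = orderOf y + 1 by omega, pow_succ, pow_orderOf_eq_one, one_mul]
        rw [h5]; exact pow_mem hy2 _
      have hwy : w = o * y := by rw [hy, mul_inv_cancel_left]
      rw [hwy]
      exact mul_mem ho (hOth f hf hf1 (hWO ⟨hyW, hyY⟩))
    intro y hy
    refine mem_normalizer_of_comap (le_of_four hFel hF4 D.W_odd (fun f hf => hFM hf) fun f hf hf1 => ?_)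
    refine (hWf f hf hf1).trans (theta_conj_le f y ?_)
    rw [show y * f * y⁻¹ = f from mul_inv_eq_iff_eq_mul.2 (mem_centralizer_iff.1 hy f hf).symm]
    exact htheta f hf hf1
  intro g hg
  obtain ⟨o, ho, hon⟩ := hsplit t htF (fun e1 => hu0 ((h.c.eq_one (by omega)).1 e1)) g hg
  obtain ⟨n, hn⟩ : ∃ n, n = o⁻¹ * g := ⟨_, rfl⟩
  rw [← hn] at hon
  -- `n` agrees with a normaliser of `E` up to `C(F)`
  obtain ⟨P, hP⟩ := (show IsPGroup 2 ↥(h.c.sE.subgroupOf Y) from (elemAb_isPGroup h.c.sE_elem).comap_subtype).exists_le_sylow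
  have hnE : h.c.sE.map (MulAut.conj n).toMonoidHom ≤ Y := by
    rintro _ ⟨a, ha, rfl⟩
    refine mem_centralizer_iff.2 fun f hf => ?_
    have h5 := mem_centralizer_iff.1 (hEY ha) _ ((mem_normalizer_iff.1 (inv_mem hon) f).1 hf)
    rw [inv_inv] at h5
    show f * (n * a * n⁻¹) = n * a * n⁻¹ * f
    calc f * (n * a * n⁻¹) = n * ((n⁻¹ * f * n) * a) * n⁻¹ := by group
      _ = n * (a * (n⁻¹ * f * n)) * n⁻¹ := by rw [h5]
      _ = _ := by group
  obtain ⟨c, hc⟩ := Fus.ClosedProduct.move P (show IsPGroup 2 ↥((h.c.sE.map (MulAut.conj n).toMonoidHom).subgroupOf Y) from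
    ((elemAb_isPGroup h.c.sE_elem).map _).comap_subtype)
  have hcn : (c : G) * n ∈ normalizer (h.c.sE : Set G) := by
    refine mem_normalizer_fintype (h.c.sE_unique _ (P.isPGroup'.map Y.subtype)
      (fun a ha => ⟨⟨a, hEY ha⟩, hP (mem_subgroupOf.2 ha), rfl⟩) _ fun a ha => ?_)
    refine ⟨c * ⟨n * a * n⁻¹, hnE ⟨a, ha, rfl⟩⟩ * c⁻¹, hc _ (mem_subgroupOf.2 ⟨a, ha, rfl⟩), ?_⟩
    show (c : G) * (n * a * n⁻¹) * (c : G)⁻¹ = _
    group
  have hnM : n ∈ M := by
    have h5 := mul_mem (inv_mem (hYM c.2)) (D.norm_E hcn)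
    rwa [inv_mul_cancel_left] at h5
  rw [show g = o * n by rw [hn, mul_inv_cancel_left]]
  exact mul_mem (le_normalizer (htheta t htF (fun e1 => hu0 ((h.c.eq_one (by omega)).1 e1)) ho)) hnM

/-- The core of `C(z)` is trivial. -/
theorem theta_bot : theta (e 15) = ⊥ := by
  have hW : D.Wc = ⊥ := h.finish hq D.W_odd D.norm_E D.cent_z fun m hm hm0 => by
    by_cases hO : h.IsO m
    · obtain ⟨n, hn, hne⟩ := h.O_transitive hm hO
      exact h.cent_le_of_conj (D.norm_E hn) hne D.cent_z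
    · obtain ⟨n, hn, hne⟩ := D.six_transitive hm ((D.six_iff hm).2 ⟨hm0, hO⟩)
      exact h.cent_le_of_conj (D.norm_E hn) hne D.cent_pair_le
  exact le_bot_iff.1 (hW ▸ D.theta_E (by norm_num) (by norm_num))

end SData

theorem Ctx.small_theta {G : Type u} [Group G] [Finite G] {S : Sylow 2 G} {e : ℕ → G} (h : Ctx G S e)
    {T : Sylow 2 h.Xq} (hq : LocalQ h.Xq T h.eX) (hs : hq.Small) :
    theta (e 15) = ⊥ ∧ ∃ v, vOk v ∧ h.IsO (uM v) := by
  obtain ⟨v0, a, b, hv0, hno, hall, hab, ha, hb⟩ := h.small_shapes hq hs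
  have ho : ∀ v, vOk v → h.oB (uM v) = !(v0 == v) := fun v hv => by
    by_cases e1 : v = v0
    · subst e1
      rw [h.oB_false.2 hno]; simp
    · rw [h.oB_iff.2 (hall v hv e1)]
      have : (v0 == v) = false := beq_eq_false_iff_ne.2 (Ne.symm e1)
      rw [this]; rfl
  have o1 : h.oB 3 = !(v0 == 1) := ho 1 ⟨le_rfl, by norm_num⟩
  have o2 : h.oB 5 = !(v0 == 2) := ho 2 ⟨by norm_num, by norm_num⟩
  have o3 : h.oB 9 = !(v0 == 3) := ho 3 ⟨by norm_num, by norm_num⟩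
  have hD : ∃ cl, SData h hq v0 cl := by
    rcases hab with ⟨rfl, rfl⟩ | ⟨rfl, rfl⟩
    · refine ⟨true, ⟨hs, hv0, fun m hm => ?_⟩⟩
      rw [h.orb_iff hm, o1, o2, o3, h.oB_iff.2 ha, h.oB_false.2 hb]; rfl
    · refine ⟨false, ⟨hs, hv0, fun m hm => ?_⟩⟩
      rw [h.orb_iff hm, o1, o2, o3, h.oB_iff.2 ha, h.oB_false.2 hb]; rfl
  obtain ⟨cl, D⟩ := hD
  exact ⟨D.theta_bot, _, D.col_ok.1, D.col_ok.2⟩

end Cfsg.Agent.Transfer.AEightSolv
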