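import Cfsg.Agent.Lib.Invol.PSp43Am.Table
import Cfsg.Agent.Lib.Transfer.SL23Recognition

/-!
# A table from two commuting copies of `SL(2, 3)` exchanged by an involution
-/

set_option autoImplicit false
set_option linter.unusedSectionVars false
set_option linter.style.haveILetI false

namespace Cfsg.Agent.Transfer.AEightSolv

open Cfsg.Agent.Invol
open Cfsg.Agent.Invol.PSp43 (mt ngs sa sb se mL mt_lt sa_lt sb_lt se_lt norm_spec mL_lt tI)
open Cfsg.Agent.Invol.PSp43Am (SL3 slE slN slN_mul slN_ngs slN_of_lt slE_surj slE_consts)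

/-- A homomorphism from `SL(2, 3)` given by generators. -/
theorem exists_hom {Y : Type*} [Group Y] {i j a : Y} (h : SL23.Rel i j a) :
    ∃ f : SL3 →* Y, f SL23.gI = i ∧ f SL23.gJ = j ∧ f SL23.gA = a ∧ f (-1) = i * i ∧
      ∀ s, ∃ k l n : ℕ, f s = i ^ k * j ^ l * a ^ n := by
  let E := Equiv.ofBijective (SL23.ev SL23.gI SL23.gJ SL23.gA) SL23.bijective_SL
  have hmul : ∀ x y, E.symm (x * y) = SL23.wmul (E.symm x) (E.symm y) := fun x y => by
    rw [Equiv.symm_apply_eq]
    show x * y = SL23.ev SL23.gI SL23.gJ SL23.gA _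
    rw [← SL23.rel_SL.ev_mul]
    exact congrArg₂ (· * ·) (E.apply_symm_apply x).symm (E.apply_symm_apply y).symm
  let f : SL3 →* Y := MonoidHom.mk' (fun s => SL23.ev i j a (E.symm s)) fun x y => by rw [hmul, h.ev_mul]
  have hv : ∀ w : SL23.Word, f (SL23.ev SL23.gI SL23.gJ SL23.gA w) = SL23.ev i j a w := fun w => by
    show SL23.ev i j a (E.symm (E w)) = _
    rw [E.symm_apply_apply]
  refine ⟨f, ?_, ?_, ?_, ?_, fun s => ⟨_, _, _, rfl⟩⟩
  · have := hv (1, 0, 0); simpa [SL23.ev] using this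
  · have := hv (0, 1, 0); simpa [SL23.ev] using this
  · have := hv (0, 0, 1); simpa [SL23.ev] using this
  · have h2 := hv (2, 0, 0)
    rw [show SL23.ev SL23.gI SL23.gJ SL23.gA (2, 0, 0) = -1 by decide +kernel] at h2
    rw [h2]
    show i ^ (2 : Fin 4).val * j ^ (0 : Fin 2).val * a ^ (0 : Fin 3).val = i * i
    simp [pow_two]

/-- The table of the generated group. -/
theorem exists_table {Y : Type*} [Group Y] [Finite Y] (ι : SL3 →* Y) {σ t : Y} (hσ : σ * σ = 1) (ht : ι (-1) = t)
    (ht2 : t * t = 1) (hσt : σ * t * σ⁻¹ = t) (hcom : ∀ a b : SL3, ι a * (σ * ι b * σ⁻¹) = σ * ι b * σ⁻¹ * ι a)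
    (hgen : ∀ H : Subgroup Y, (∀ s, ι s ∈ H) → σ ∈ H → H = ⊤) (hcard : Nat.card Y = 576) :
    ∃ f : ℕ → Y, (∀ i < 576, ∀ j < 576, f i = f j → i = j) ∧ (∀ i < 576, ∀ j < 576, f (mL i j) = f i * f j) ∧
      f tI = t ∧ ∀ y, ∃ i < 576, f i = y := by
  classical
  have hσi : σ⁻¹ = σ := inv_eq_of_mul_eq_one_right hσ
  obtain ⟨ι', hι'⟩ : ∃ ι' : SL3 →* Y, ∀ s, ι' s = σ * ι s * σ⁻¹ :=
    ⟨(MulAut.conj σ).toMonoidHom.comp ι, fun _ => rfl⟩
  have hc : ∀ a b, ι a * ι' b = ι' b * ι a := fun a b => by rw [hι']; exact hcom a b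
  have ht' : ι' (-1) = t := by rw [hι', ht, hσt]
  have sw1 : ∀ s, σ * ι s = ι' s * σ := fun s => by rw [hι', inv_mul_cancel_right]
  have sw2 : ∀ s, σ * ι' s = ι s * σ := fun s => by
    rw [hι', hσi, show σ * (σ * ι s * σ) = σ * σ * (ι s * σ) by group, hσ, one_mul]
  let f : ℕ → Y := fun i => ι (slN (sa i)) * ι' (slN (sb i)) * σ ^ se i
  have hnorm : ∀ {a b e : ℕ}, a < 24 → b < 24 → e < 2 →
      f (PSp43.norm a b e) = ι (slN a) * ι' (slN b) * σ ^ e := by
    intro a b e ha hb he
    have hble : Nat.ble a 11 = decide (a ≤ 11) := by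
      rw [Bool.eq_iff_iff, decide_eq_true_eq]; exact Nat.ble_eq.to_iff
    by_cases h : a ≤ 11
    · have e1 : PSp43.norm a b e = e * 288 + a * 24 + b := by rw [PSp43.norm, hble]; simp [h]
      have s1 : sa (PSp43.norm a b e) = a := by rw [e1, sa]; omega
      have s2 : sb (PSp43.norm a b e) = b := by rw [e1, sb]; omega
      simp only [f, s1, s2, (norm_spec ha hb he).2]
    · have e1 : PSp43.norm a b e = e * 288 + ngs a * 24 + ngs b := by rw [PSp43.norm, hble]; simp [h]
      have s1 : sa (PSp43.norm a b e) = ngs a := by rw [e1, sa]; simp only [ngs]; omega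
      have s2 : sb (PSp43.norm a b e) = ngs b := by rw [e1, sb]; simp only [ngs]; omega
      simp only [f, s1, s2, (norm_spec ha hb he).2, slN_ngs ha, slN_ngs hb, map_mul, ht, ht']
      congr 1
      have hct : Commute t (ι' (slN b)) := by rw [← ht]; exact hc _ _
      rw [mul_assoc (ι (slN a)) t, ← mul_assoc t, hct.eq, mul_assoc (ι' (slN b)) t, ht2, mul_one]
  have hmul : ∀ i j, f (mL i j) = f i * f j := by
    intro i j
    have h1 := se_lt i
    have h2 := se_lt j
    rw [mL]
    rcases (by omega : se i = 0 ∨ se i = 1) with e | e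
    · rw [show Nat.beq (se i) 0 = true by rw [e]; rfl, cond_true,
        hnorm (mt_lt (sa_lt i) (sa_lt j)) (mt_lt (sb_lt i) (sb_lt j)) h2, ← slN_mul (sa_lt i) (sa_lt j),
        ← slN_mul (sb_lt i) (sb_lt j)]
      simp only [f, e, pow_zero, mul_one, map_mul]
      have h3 := hc (slN (sa j)) (slN (sb i))
      calc ι (slN (sa i)) * ι (slN (sa j)) * (ι' (slN (sb i)) * ι' (slN (sb j))) * σ ^ se j
          = ι (slN (sa i)) * (ι (slN (sa j)) * ι' (slN (sb i))) * ι' (slN (sb j)) * σ ^ se j := by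
            simp only [mul_assoc]
        _ = _ := by rw [h3]; simp only [mul_assoc]
    · rw [show Nat.beq (se i) 0 = false by rw [e]; rfl, cond_false,
        hnorm (mt_lt (sa_lt i) (sb_lt j)) (mt_lt (sb_lt i) (sa_lt j)) (show 1 - se j < 2 by omega),
        ← slN_mul (sa_lt i) (sb_lt j), ← slN_mul (sb_lt i) (sa_lt j)]
      simp only [f, e, pow_one, map_mul]
      set A := ι (slN (sa i))
      set B := ι' (slN (sb i))
      set x := slN (sa j)
      set y := slN (sb j)
      have hσ' : σ ^ (1 - se j) = σ * σ ^ se j := by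
        rcases (by omega : se j = 0 ∨ se j = 1) with r | r <;> simp [r, hσ]
      have hc1 : ι y * B = B * ι y := hc _ _
      have hc2 : ι' x * ι y = ι y * ι' x := (hc _ _).symm
      symm
      calc A * B * σ * (ι x * ι' y * σ ^ se j)
          = A * B * ((σ * ι x) * ι' y) * σ ^ se j := by simp only [mul_assoc]
        _ = A * B * (ι' x * (σ * ι' y)) * σ ^ se j := by rw [sw1]; simp only [mul_assoc]
        _ = A * B * ((ι' x * ι y) * σ) * σ ^ se j := by rw [sw2]; simp only [mul_assoc]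
        _ = A * (B * ι y) * ι' x * (σ * σ ^ se j) := by rw [hc2]; simp only [mul_assoc]
        _ = A * ι y * (B * ι' x) * σ ^ (1 - se j) := by rw [← hc1, hσ']; simp only [mul_assoc]
  have htI : f tI = t := by
    simp only [f, show sa tI = 0 from rfl, show sb tI = 12 from rfl, show se tI = 0 from rfl]
    rw [slN_of_lt (by norm_num), slN_of_lt (by norm_num), slE_consts.1, slE_consts.2, map_one, one_mul, ht',
      pow_zero, mul_one]
  let M : Submonoid Y :=
    { carrier := {x | ∃ i < 576, f i = x}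
      mul_mem' := by
        rintro _ _ ⟨i, -, rfl⟩ ⟨j, -, rfl⟩
        exact ⟨mL i j, mL_lt i j, hmul i j⟩
      one_mem' := ⟨0, by norm_num, by
        simp only [f, show sa 0 = 0 from rfl, show sb 0 = 0 from rfl, show se 0 = 0 from rfl]
        rw [slN_of_lt (by norm_num), slE_consts.1, map_one, map_one, one_mul, pow_zero, mul_one]⟩ }
  let M' : Subgroup Y :=
    { M with
      inv_mem' := fun {x} hx => by
        have hp : x⁻¹ = x ^ (orderOf x - 1) := by
          refine inv_eq_of_mul_eq_one_left ?_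
          rw [← pow_succ, Nat.sub_add_cancel (orderOf_pos x), pow_orderOf_eq_one]
        show x⁻¹ ∈ M
        rw [hp]
        exact pow_mem hx _ }
  have hM : M' = ⊤ := by
    refine hgen M' (fun s => ?_) ?_
    · obtain ⟨a, rfl⟩ := slE_surj s
      refine ⟨PSp43.norm a 0 0, (norm_spec a.2 (by norm_num) (by norm_num)).1, ?_⟩
      rw [hnorm a.2 (by norm_num) (by norm_num), slN_of_lt a.2, slN_of_lt (by norm_num : 0 < 24), slE_consts.1,
        map_one, mul_one, pow_zero, mul_one]
    · refine ⟨PSp43.norm 0 0 1, (norm_spec (by norm_num) (by norm_num) (by norm_num)).1, ?_⟩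
      rw [hnorm (by norm_num) (by norm_num) (by norm_num), slN_of_lt (by norm_num : 0 < 24), slE_consts.1,
        map_one, map_one, one_mul, pow_one, one_mul]
  have hsurj : ∀ y, ∃ i < 576, f i = y := fun y => (hM ▸ Subgroup.mem_top y : y ∈ M')
  have hbij : Function.Bijective fun i : Fin 576 => f i :=
    (Nat.bijective_iff_surjective_and_card _).2 ⟨fun y => by
      obtain ⟨i, hi, e⟩ := hsurj y
      exact ⟨⟨i, hi⟩, e⟩, by rw [Nat.card_fin, hcard]⟩
  exact ⟨f, fun i hi j hj e => congrArg Fin.val (hbij.1 (a₁ := ⟨i, hi⟩) (a₂ := ⟨j, hj⟩) e),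
    fun i _ j _ => hmul i j, htI, hsurj⟩

end Cfsg.Agent.Transfer.AEightSolv
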