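import Cfsg.Agent.Lib.Transfer.AEightSolv.Sig
import Cfsg.Agent.Lib.Invol.Transport
import Cfsg.Agent.Lib.Grp.Frattini

/-!
# The centraliser of `z` once its core is trivial
-/

set_option autoImplicit false
set_option linter.style.haveILetI false
set_option linter.unusedSectionVars false
set_option maxRecDepth 100000

namespace Cfsg.Agent.Transfer.AEightSolv

open Subgroup Cfsg.Agent.Grp
open scoped commutatorElement

universe u

/-- A 2-group with centre of order two containing all squares is extraspecial, if it is not too small. -/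
theorem extraspecial_of_center_squares {Q : Type*} [Group Q] [Finite Q] (hcard : Nat.card Q = 32)
    (hZ : Nat.card (Subgroup.center Q) = 2) (hsq : ∀ x : Q, x ^ 2 ∈ Subgroup.center Q) :
    Cfsg.IsExtraspecial 2 Q := by
  haveI : Fact (Nat.Prime 2) := ⟨Nat.prime_two⟩
  have hp : IsPGroup 2 Q := IsPGroup.of_card (n := 5) (by rw [hcard]; norm_num)
  have h1 : commutator Q ≤ Subgroup.center Q := by
    rw [commutator_eq_closure, Subgroup.closure_le]
    rintro _ ⟨x, y, rfl⟩
    have e : ⁅x, y⁆ = x ^ 2 * (x⁻¹ * y) ^ 2 * (y ^ 2)⁻¹ := by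
      rw [commutatorElement_def]
      simp only [pow_two]
      group
    rw [e]
    exact mul_mem (mul_mem (hsq x) (hsq _)) (inv_mem (hsq y))
  have hne : commutator Q ≠ ⊥ := fun e => by
    have : Subgroup.center Q = ⊤ := eq_top_iff.2 fun x _ => Subgroup.mem_center_iff.2 fun g => by
      have h : ⁅g, x⁆ ∈ commutator Q :=
        Subgroup.commutator_mem_commutator (Subgroup.mem_top _) (Subgroup.mem_top _)
      rw [e, Subgroup.mem_bot] at h
      exact commutatorElement_eq_one_iff_mul_comm.1 h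
    rw [this, Subgroup.card_top, hcard] at hZ
    norm_num at hZ
  have hc : commutator Q = Subgroup.center Q := by
    refine Subgroup.eq_of_le_of_card_ge h1 ?_
    rw [hZ]
    have := (Subgroup.one_lt_card_iff_ne_bot _).2 hne
    omega
  refine ⟨⟨hp, le_antisymm ?_ ?_, hc⟩, hZ⟩
  · exact Grp.frattini_le_of_elementary Nat.prime_two h1 hsq
  · exact hc ▸ Grp.pGroup_commutator_le_frattini hp

theorem Q_sq : ∀ m : Fin 64, oddM m = false → mM m m = 0 ∨ mM m m = 15 := by decide +kernel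

namespace Ctx

variable {G : Type u} [Group G] [Finite G] {S : Sylow 2 G} {e : ℕ → G} (h : Ctx G S e)
include h

/-- Without a core, the centraliser is its quotient. -/
theorem exists_iso (hth : theta (e 15) = ⊥) :
    ∃ φ : ↥(centralizer ({e 15} : Set G)) ≃* h.Xq,
      ∀ {m : ℕ} (hm : m < 64), φ ⟨e m, h.e_cent hm⟩ = h.eX m := by
  haveI : (Cfsg.pPrimeCore 2 ↥(centralizer ({e 15} : Set G))).Normal := pPrimeCore_isNormal
  have hinj : Function.Injective (Fus.Gold.proj (e 15) : ↥(centralizer ({e 15} : Set G)) → h.Xq) := by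
    intro a b hab
    have h1 := h.pr_congr a.2 b.2 hab
    rw [hth, mem_bot, mul_inv_eq_one] at h1
    exact Subtype.ext h1
  exact ⟨MulEquiv.ofBijective (Fus.Gold.proj (e 15)) ⟨hinj, QuotientGroup.mk'_surjective _⟩,
    fun hm => (h.eX_eq hm).symm⟩

theorem sQ_le_cent : h.c.sQ ≤ centralizer ({e 15} : Set G) := h.c.sQ_le.trans h.S_le_cent

variable {T : Sylow 2 h.Xq} (hq : LocalQ h.Xq T h.eX)
include hq

theorem sQ_iff (φ : ↥(centralizer ({e 15} : Set G)) ≃* h.Xq)
    (hφ : ∀ {m : ℕ} (hm : m < 64), φ ⟨e m, h.e_cent hm⟩ = h.eX m) (l : ↥(centralizer ({e 15} : Set G))) :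
    φ l ∈ hq.c.sQ ↔ (l : G) ∈ h.c.sQ := by
  constructor
  · rintro ⟨m, hm, hm0, hme⟩
    rw [← hφ hm] at hme
    exact ⟨m, hm, hm0, congrArg Subtype.val (φ.injective hme)⟩
  · rintro ⟨m, hm, hm0, hme⟩
    refine ⟨m, hm, hm0, ?_⟩
    rw [← hφ hm]
    exact congrArg φ (Subtype.ext hme)

theorem sQ_pCore (φ : ↥(centralizer ({e 15} : Set G)) ≃* h.Xq)
    (hφ : ∀ {m : ℕ} (hm : m < 64), φ ⟨e m, h.e_cent hm⟩ = h.eX m) :
    Cfsg.pCore 2 ↥(centralizer ({e 15} : Set G)) = h.c.sQ.subgroupOf (centralizer ({e 15} : Set G)) := by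
  haveI : Fact (Nat.Prime 2) := ⟨Nat.prime_two⟩
  ext l
  rw [mem_subgroupOf, ← h.sQ_iff hq φ hφ, ← hq.rad, ← Invol.map_pCore_equiv φ]
  exact ⟨fun hl => mem_map_of_mem _ hl, fun ⟨x, hx, hxe⟩ => φ.injective hxe ▸ hx⟩

theorem sQ_extraspecial : Cfsg.IsExtraspecial 2 h.c.sQ := by
  have hzQ : e 15 ∈ h.c.sQ := (h.c.e_mem_sQ (by norm_num)).2 (by decide)
  have hcz : ∀ q : ↥h.c.sQ, q ∈ Subgroup.center ↥h.c.sQ ↔ (q : G) = 1 ∨ (q : G) = e 15 := by
    intro q
    rw [Subgroup.mem_center_iff]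
    constructor
    · intro hc
      obtain ⟨m, hm, hm0, hme⟩ := q.2
      rcases Q_center ⟨m, hm⟩ hm0 (fun n hn => (h.c.comm_iff hm n.2).1 (by
        rw [hme]; exact (congrArg Subtype.val (hc ⟨e n, (h.c.e_mem_sQ n.2).2 hn⟩)).symm)) with e1 | e1 <;>
        simp only at e1
      · exact Or.inl (by rw [← hme, e1, h.c.zero])
      · exact Or.inr (by rw [← hme, e1])
    · intro hq' r
      refine Subtype.ext ?_
      show (r : G) * q = q * r
      rcases hq' with e1 | e1
      · rw [e1, mul_one, one_mul]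
      · rw [e1]; exact h.c.z_central (h.c.sQ_le r.2)
  refine extraspecial_of_center_squares h.c.sQ_card ?_ fun x => (hcz _).2 ?_
  · refine Nat.card_eq_two_iff.2 ⟨⟨1, one_mem _⟩, ⟨⟨e 15, hzQ⟩, (hcz _).2 (Or.inr rfl)⟩, ?_, ?_⟩
    · exact fun e1 => h.c.z_ne (congrArg (fun y : Subgroup.center ↥h.c.sQ => ((y : ↥h.c.sQ) : G)) e1).symm
    · refine Set.eq_univ_of_forall fun y => ?_
      rcases (hcz y).1 y.2 with e1 | e1
      · exact Or.inl (Subtype.ext (Subtype.ext e1))
      · exact Or.inr (Subtype.ext (Subtype.ext e1))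
  · obtain ⟨m, hm, hm0, hme⟩ := x.2
    rw [SubmonoidClass.coe_pow, pow_two, ← hme, h.c.mul m hm m hm]
    rcases Q_sq ⟨m, hm⟩ hm0 with e1 | e1 <;> simp only at e1 <;> rw [e1]
    · exact Or.inl h.c.zero
    · exact Or.inr rfl

end Ctx

end Cfsg.Agent.Transfer.AEightSolv
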