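import Cfsg.Agent.Lib.Transfer.AEightSolv.Shape
import Cfsg.Agent.Lib.Transfer.AEightSolv.CenTable
import Cfsg.Agent.Lib.Fus.ClosedProduct.Disjoint

/-!
# The large shape is the centraliser of an involution of `PSp(4, 3)`
-/

set_option autoImplicit false
set_option linter.style.haveILetI false
set_option linter.unusedSectionVars false
set_option maxRecDepth 100000

namespace Cfsg.Agent.Transfer.AEightSolv

open Subgroup

theorem odd_sq : ∀ m : Fin 64, oddM m = true → mM m m ≠ 15 := by decide +kernel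

theorem Q_sq' : ∀ m : Fin 64, oddM m = false → mM m m = 0 ∨ mM m m = 15 := by decide +kernel

namespace LocalQ

variable {X : Type*} [Group X] [Finite X] {T : Sylow 2 X} {e : ℕ → X} (h : LocalQ X T e)
include h

theorem sq_of_fixed {d y : X} (hd : d ^ 3 = 1) (hd1 : d ≠ 1) (hy : y ∈ h.c.sQ) (hyd : d * y * d⁻¹ = y)
    (hyZ : y ∉ h.toLocal.Zset) : y * y = e 15 := by
  obtain ⟨m, hm, hm0, rfl⟩ := hy
  rw [h.c.mul m hm m hm]
  rcases Q_sq' ⟨m, hm⟩ hm0 with e1 | e1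
  · exfalso
    refine hd1 (h.no_fix hd hm (invQ_iff.2 ⟨hm0, e1, fun e2 => hyZ (h.toLocal.mem_Z_of_code (Or.inl e2)),
      fun e2 => hyZ (h.toLocal.mem_Z_of_code (Or.inr e2))⟩) hyd)
  · exact congrArg e e1

/-- The two quaternion groups and the two elements of order three. -/
theorem large_frame (hl : h.Large) : ∃ (σ a : X) (P : Subgroup X), σ * σ = 1 ∧ σ ∉ h.c.sQ ∧
    a ∈ P ∧ σ * a * σ⁻¹ ∈ P ∧ Nat.card P = 9 ∧ (∀ x ∈ P, x ^ 3 = 1) ∧ (∀ x ∈ P, ∀ y ∈ P, x * y = y * x) ∧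
    (∃ q ∈ h.c.sQ, q ∉ h.toLocal.Zset ∧ σ * a * σ⁻¹ * q * (σ * a * σ⁻¹)⁻¹ = q) ∧ σ * a * σ⁻¹ ≠ 1 ∧
    (∀ y ∈ h.c.sQ, a * y * a⁻¹ = y → σ * a * σ⁻¹ * y * (σ * a * σ⁻¹)⁻¹ = y → y ∈ h.toLocal.Zset) ∧
    (∀ H : Subgroup X, h.c.sQ ≤ H → P ≤ H → σ ∈ H → H = ⊤) := by
  classical
  haveI : Fact (Nat.Prime 2) := ⟨Nat.prime_two⟩
  haveI : Fact (Nat.Prime 3) := ⟨Nat.prime_three⟩
  obtain ⟨d, hd3, hd1, q, hqQ, hqZ, hdq⟩ := hl.fixed
  obtain ⟨k, D, hk, hcard, hQD, hσD, hcov, hsqD, hDn, hpow⟩ := h.exists_D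
  rw [hl.card] at hcard
  obtain rfl : k = 9 := by omega
  haveI := hDn
  haveI := h.Q_normal
  let π := QuotientGroup.mk' h.c.sQ
  have hidx : D.index = 2 := Subgroup.index_eq_two_iff'.2 ⟨e 1, fun b => by
    rcases hcov b with hb | hb
    · refine Or.inr ⟨hb, fun h1 => hσD ?_⟩
      have h2 := mul_mem h1 (inv_mem hb)
      rwa [mul_inv_cancel_right] at h2
    · by_cases hb' : b ∈ D
      · exfalso
        have := mul_mem hb (inv_mem hb')
        rw [mul_inv_cancel_right] at this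
        exact hσD this
      · exact Or.inl ⟨hb, hb'⟩⟩
  have h3D : ∀ x : X, x ^ 9 = 1 → x ∈ D := fun x hx => by
    have h1 : x = x ^ 5 * x ^ 5 := by rw [← pow_add, pow_succ, hx, one_mul]
    rw [h1]; exact hsqD _
  -- a Sylow 3-subgroup through `d`
  obtain ⟨P, hdP'⟩ := (IsPGroup.of_card (p := 3) (n := 1) (G := zpowers d)
    (by rw [Nat.card_zpowers, orderOf_eq_prime hd3 hd1, pow_one])).exists_le_sylow
  have hdP : d ∈ (P : Subgroup X) := hdP' (mem_zpowers d)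
  have hP9 : Nat.card (P : Subgroup X) = 9 := by
    rw [P.card_eq_multiplicity, hl.card]
    have h1 : (576 : ℕ).factorization 3 = 2 := by
      rw [show (576 : ℕ) = 3 ^ 2 * 64 by norm_num, Nat.factorization_mul (by norm_num) (by norm_num),
        Finsupp.add_apply, Nat.Prime.factorization_pow Nat.prime_three, Finsupp.single_eq_same,
        Nat.factorization_eq_zero_of_not_dvd (by norm_num : ¬ 3 ∣ 64)]
    rw [h1]; norm_num
  have hPx9 : ∀ x ∈ (P : Subgroup X), x ^ 9 = 1 := fun x hx =>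
    orderOf_dvd_iff_pow_eq_one.1 (hP9 ▸ (P : Subgroup X).orderOf_dvd_natCard hx)
  have hPD : (P : Subgroup X) ≤ D := fun x hx => h3D x (hPx9 x hx)
  have hPexp : ∀ x ∈ (P : Subgroup X), x ^ 3 = 1 := fun x hx => by
    have h1 : (x * x) ^ 3 ∈ h.c.sQ := hl.exp x
    have h2 : x ^ 6 = 1 := by
      refine h.eq_one_of_three (w := x ^ 6) ?_ ?_
      · rwa [← pow_two, ← pow_mul] at h1
      · rw [← pow_mul, show 6 * 3 = 9 * 2 by norm_num, pow_mul, hPx9 x hx, one_pow]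
    calc x ^ 3 = x ^ 6 * x ^ 3 := by rw [h2, one_mul]
      _ = x ^ 9 := (pow_add x 6 3).symm
      _ = 1 := hPx9 x hx
  haveI : IsMulCommutative ↥(P : Subgroup X) := IsPGroup.isMulCommutative_of_card_eq_prime_sq (p := 3) hP9
  have hPcomm : ∀ x ∈ (P : Subgroup X), ∀ y ∈ (P : Subgroup X), x * y = y * x := fun x hx y hy =>
    congrArg Subtype.val (IsMulCommutative.is_comm.comm (⟨x, hx⟩ : ↥(P : Subgroup X)) ⟨y, hy⟩)
  -- an involution outside `D` normalising it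
  obtain ⟨n, hnN, hnD⟩ : ∃ n ∈ normalizer ((P : Subgroup X) : Set X), n ∉ D := by
    by_contra hcon
    push Not at hcon
    have hsub : ((P.subtype hPD : Sylow 3 D) : Subgroup D).map D.subtype = (P : Subgroup X) := by
      rw [Sylow.coe_subtype, Subgroup.subgroupOf_map_subtype, inf_eq_left.2 hPD]
    have hF := Sylow.normalizer_sup_eq_top (P.subtype hPD)
    rw [hsub] at hF
    have : D = ⊤ := top_le_iff.1 (hF ▸ sup_le (fun x hx => hcon x hx) le_rfl)
    exact hσD (this ▸ mem_top _)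
  obtain ⟨k2, m, hm, hkm⟩ := Nat.exists_eq_pow_mul_and_not_dvd (orderOf_pos n).ne' 2 (by norm_num)
  obtain ⟨σ, hσdef⟩ : ∃ σ, σ = n ^ m := ⟨_, rfl⟩
  have hσN : σ ∈ normalizer ((P : Subgroup X) : Set X) := hσdef ▸ pow_mem hnN m
  have hσnD : σ ∉ D := by
    obtain ⟨j, hj⟩ : Odd m := Nat.not_even_iff_odd.1 fun hh => hm (even_iff_two_dvd.1 hh)
    rw [hσdef, hj, pow_succ, pow_mul, pow_two]
    intro hh
    refine hnD ?_
    have := mul_mem (inv_mem (pow_mem (hsqD n) j)) hh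
    rwa [inv_mul_cancel_left] at this
  have hσpow : σ ^ (2 ^ k2) = 1 := by rw [hσdef, ← pow_mul, mul_comm, ← hkm, pow_orderOf_eq_one]
  have hσQ : σ ∉ h.c.sQ := fun hh => hσnD (hQD hh)
  have hσ2Q : σ * σ ∈ h.c.sQ := by
    have h9 : (σ * σ) ^ 9 ∈ h.c.sQ := hpow _ (hsqD σ)
    have h1 : π (σ * σ) = 1 := by
      refine orderOf_eq_one_iff.1 (Nat.eq_one_of_dvd_coprimes (show Nat.Coprime (2 ^ k2) 9 from
        (by norm_num : Nat.Coprime 2 9).pow_left k2) ?_ ?_)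
      · exact orderOf_dvd_of_pow_eq_one (by
          rw [← map_pow, ← pow_two, ← pow_mul, mul_comm, pow_mul, hσpow, one_pow, map_one])
      · exact orderOf_dvd_of_pow_eq_one (by rw [← map_pow]; exact (QuotientGroup.eq_one_iff _).2 h9)
    exact (QuotientGroup.eq_one_iff _).1 h1
  have hσ2P : ∀ x ∈ (P : Subgroup X), σ * σ * x * (σ * σ)⁻¹ = x := by
    intro x hx
    have h1 : σ * σ * x * (σ * σ)⁻¹ * x⁻¹ ∈ (P : Subgroup X) :=
      mul_mem ((mem_normalizer_iff.1 (mul_mem hσN hσN) x).1 hx) (inv_mem hx)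
    have h2 : σ * σ * x * (σ * σ)⁻¹ * x⁻¹ ∈ h.c.sQ := by
      have := mul_mem hσ2Q (h.Q_normal.conj_mem _ (inv_mem hσ2Q) x)
      rwa [← mul_assoc, ← mul_assoc] at this
    exact mul_inv_eq_one.1 (h.eq_one_of_three h2 (hPexp _ h1))
  obtain ⟨d', hd'⟩ : ∃ d', d' = σ * d * σ⁻¹ := ⟨_, rfl⟩
  have hd'P : d' ∈ (P : Subgroup X) := hd' ▸ (mem_normalizer_iff.1 hσN d).1 hdP
  have hσd' : σ * d' * σ⁻¹ = d := by
    rw [hd', show σ * (σ * d * σ⁻¹) * σ⁻¹ = σ * σ * d * (σ * σ)⁻¹ by group, hσ2P d hdP]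
  -- `d` and `d'` together fix only `Z`
  have hab : ∀ x ∈ D, ∀ y ∈ D, π x * π y = π y * π x := by
    have hkerD : π.ker ≤ D := by rw [QuotientGroup.ker_mk']; exact hQD
    have hi2 : (D.map π).index = 2 := (index_map_eq D (QuotientGroup.mk'_surjective _) hkerD).trans hidx
    have h18 : Nat.card (X ⧸ h.c.sQ) = 18 := by
      have h1 := card_eq_card_quotient_mul_card_subgroup h.c.sQ
      rw [hl.card, h.c.sQ_card] at h1
      omega
    have h9 : Nat.card ↥(D.map π) = 3 ^ 2 := by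
      have h1 := (D.map π).card_mul_index
      rw [hi2, h18] at h1
      omega
    haveI := IsPGroup.isMulCommutative_of_card_eq_prime_sq h9
    intro x hx y hy
    exact congrArg Subtype.val (IsMulCommutative.is_comm.comm
      (⟨π x, mem_map_of_mem π hx⟩ : ↥(D.map π)) ⟨π y, mem_map_of_mem π hy⟩)
  have hσe : σ⁻¹ * e 1 ∈ D := (Subgroup.mul_mem_iff_of_index_two hidx).2
    (iff_of_false (fun hh => hσnD (inv_mem_iff.1 hh)) hσD)
  have hmodQ : ∀ x ∈ D, π (e 1 * x * (e 1)⁻¹) = π (σ * x * σ⁻¹) := by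
    intro x hx
    have h1 : e 1 * x * (e 1)⁻¹ = σ * (σ⁻¹ * e 1 * x * (σ⁻¹ * e 1)⁻¹) * σ⁻¹ := by group
    have h2 : π (σ⁻¹ * e 1 * x * (σ⁻¹ * e 1)⁻¹) = π x := by
      obtain ⟨y, hy⟩ : ∃ y, y = σ⁻¹ * e 1 := ⟨_, rfl⟩
      rw [← hy, map_mul, map_mul, map_inv, hab y (hy ▸ hσe) x hx, mul_inv_cancel_right]
    rw [h1, map_mul, map_mul (f := π) σ, h2, ← map_mul, ← map_mul]
  have hq1 : ∀ {x : X} {i : ℕ}, x ∈ D → σ * x * σ⁻¹ = x ^ i → (x ^ i)⁻¹ * (e 1 * x * (e 1)⁻¹) ∈ h.c.sQ := by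
    intro x i hx hxi
    refine (QuotientGroup.eq_one_iff _).1 ?_
    show π ((x ^ i)⁻¹ * (e 1 * x * (e 1)⁻¹)) = 1
    rw [map_mul, hmodQ x hx, hxi, map_inv, inv_mul_cancel]
  obtain ⟨c, hc⟩ : ∃ c, c = d * d' := ⟨_, rfl⟩
  have hcP : c ∈ (P : Subgroup X) := hc ▸ mul_mem hdP hd'P
  have hσc : σ * c * σ⁻¹ = c ^ 1 := by
    rw [pow_one, hc, show σ * (d * d') * σ⁻¹ = σ * d * σ⁻¹ * (σ * d' * σ⁻¹) by group, ← hd', hσd',
      hPcomm d' hd'P d hdP]
  have hc1 : c ≠ 1 := by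
    intro e1
    have h2 : d' = d ^ 2 := by
      calc d' = d ^ 3 * d' := by rw [hd3, one_mul]
        _ = d ^ 2 * (d * d') := by rw [← mul_assoc, ← pow_succ]
        _ = _ := by rw [← hc, e1, mul_one]
    exact hqZ (h.fpf hd3 hd1 (hq1 (hPD hdP) (hd'.symm.trans h2)) (Or.inr rfl) (mul_inv_cancel_left _ _).symm hqQ hdq)
  have hboth : ∀ y ∈ h.c.sQ, d * y * d⁻¹ = y → d' * y * d'⁻¹ = y → y ∈ h.toLocal.Zset := by
    intro y hy h1 h2
    refine h.fpf (hPexp c hcP) hc1 (hq1 (hPD hcP) hσc) (Or.inl rfl) (mul_inv_cancel_left _ _).symm hy ?_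
    rw [hc, show d * d' * y * (d * d')⁻¹ = d * (d' * y * d'⁻¹) * d⁻¹ by group, h2, h1]
  -- `σ` is an involution
  have hσσ : σ * σ = 1 := by
    have hZ : σ * σ ∈ h.toLocal.Zset := by
      have hcx : ∀ x ∈ (P : Subgroup X), x * (σ * σ) * x⁻¹ = σ * σ := fun x hx => by
        have h1 := hσ2P x hx
        rw [mul_inv_eq_iff_eq_mul] at h1
        rw [← h1, mul_inv_cancel_right]
      exact hboth _ hσ2Q (hcx d hdP) (hcx d' hd'P)
    rcases h.toLocal.mem_Z.1 hZ with e1 | e1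
    · exact e1
    exfalso
    obtain ⟨g, hg⟩ := Fus.ClosedProduct.move T (show IsPGroup 2 ↥(zpowers σ) from fun x => ⟨k2, by
      obtain ⟨i, hi⟩ := x.2
      refine Subtype.ext ?_
      rw [SubmonoidClass.coe_pow, ← hi, OneMemClass.coe_one]
      show (σ ^ i) ^ (2 ^ k2) = 1
      rw [← zpow_natCast, ← zpow_mul, mul_comm, zpow_mul, zpow_natCast, hσpow, one_zpow]⟩)
    obtain ⟨j, hj, hje⟩ := (h.c.mem _).1 (hg σ (mem_zpowers σ))
    cases hj0 : oddM j with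
    | false =>
      refine hσQ ?_
      have h1 := h.Q_normal.conj_mem _ (hje ▸ (h.c.e_mem_sQ hj).2 hj0) g⁻¹
      rwa [show g⁻¹ * (g * σ * g⁻¹) * g⁻¹⁻¹ = σ by group] at h1
    | true =>
      refine odd_sq ⟨j, hj⟩ hj0 ((h.c.eq_iff (mM_lt _ _) (by norm_num)).1 ?_)
      rw [← h.c.mul j hj j hj, hje, show g * σ * g⁻¹ * (g * σ * g⁻¹) = g * (σ * σ) * g⁻¹ by group, e1]
      exact h.fix_Z (h.toLocal.mem_Z_of_code (Or.inr rfl))
  refine ⟨σ, d', P, hσσ, hσQ, hd'P, by rw [hσd']; exact hdP, hP9, hPexp, hPcomm, ⟨q, hqQ, hqZ, ?_⟩,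
    by rw [hσd']; exact hd1, fun y hy h1 h2 => hboth y hy (by rwa [hσd'] at h2) h1, ?_⟩
  · rw [hσd']; exact hdq
  intro H hQH hPH hσH
  have hDH : D ≤ H := by
    have h1 : 32 ∣ Nat.card ↥(H ⊓ D) := h.c.sQ_card ▸ Subgroup.card_dvd_of_le (le_inf hQH hQD)
    have h2 : 9 ∣ Nat.card ↥(H ⊓ D) := hP9 ▸ Subgroup.card_dvd_of_le (le_inf hPH hPD)
    have h3 : 288 ∣ Nat.card ↥(H ⊓ D) := (show Nat.Coprime 32 9 by norm_num).mul_dvd_of_dvd_of_dvd h1 h2
    have h4 : Nat.card D = 288 := by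
      have := D.card_mul_index
      rw [hidx, hl.card] at this
      omega
    refine (Subgroup.eq_of_le_of_card_ge (inf_le_right : H ⊓ D ≤ D) ?_).ge.trans inf_le_left
    rw [h4]
    exact Nat.le_of_dvd Nat.card_pos h3
  rw [eq_top_iff]
  intro x _
  by_cases hx : x ∈ D
  · exact hDH hx
  · have h1 : σ⁻¹ * x ∈ D := (Subgroup.mul_mem_iff_of_index_two hidx).2
      (iff_of_false (fun hh => hσnD (inv_mem_iff.1 hh)) hx)
    have := mul_mem hσH (hDH h1)
    rwa [mul_inv_cancel_left] at this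

/-- The table of the large shape. -/
theorem large_table (hl : h.Large) : ∃ f : ℕ → X, (∀ i < 576, ∀ j < 576, f i = f j → i = j) ∧
    (∀ i < 576, ∀ j < 576, f (Cfsg.Agent.Invol.PSp43.mL i j) = f i * f j) ∧
    f Cfsg.Agent.Invol.PSp43.tI = e 15 ∧ ∀ y, ∃ i < 576, f i = y := by
  classical
  obtain ⟨σ, a, P, hσσ, -, haP, hbP, hP9, hPexp, hPcomm, ⟨q, hqQ, hqZ, hbq⟩, hb1, hboth, htop⟩ := h.large_frame hl
  obtain ⟨b, hb⟩ : ∃ b, b = σ * a * σ⁻¹ := ⟨_, rfl⟩
  rw [← hb] at hbP hbq hb1 hboth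
  have hb3 : b ^ 3 = 1 := hPexp b hbP
  have ha3 : a ^ 3 = 1 := hPexp a haP
  have hbe : a * b = b * a := hPcomm a haP b hbP
  have hσi : σ⁻¹ = σ := inv_eq_of_mul_eq_one_right hσσ
  have hzc : ∀ x : X, x * e 15 = e 15 * x := fun x => mul_inv_eq_iff_eq_mul.1 (h.fix_Z (d := x) (h.toLocal.mem_Z_of_code (Or.inr rfl)))
  have hz2 : e 15 * e 15 = 1 := h.c.z_sq
  set F := h.c.sQ ⊓ centralizer ({b} : Set X) with hFdef
  have hmemF : ∀ {y : X}, y ∈ F ↔ y ∈ h.c.sQ ∧ b * y * b⁻¹ = y := fun {y} => by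
    rw [hFdef, mem_inf, mem_centralizer_singleton_iff, mul_inv_eq_iff_eq_mul]
    exact and_congr_right fun _ => eq_comm
  have hFa : ∀ y ∈ F, a * y * a⁻¹ ∈ F := fun y hy => by
    obtain ⟨h1, h2⟩ := hmemF.1 hy
    refine hmemF.2 ⟨h.Q_normal.conj_mem y h1 a, ?_⟩
    rw [show b * (a * y * a⁻¹) * b⁻¹ = (b * a) * y * (b * a)⁻¹ by group, ← hbe,
      show a * b * y * (a * b)⁻¹ = a * (b * y * b⁻¹) * a⁻¹ by group, h2]
  -- the quaternion relations at a point of `F`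
  have hquat : ∀ u ∈ F, u ∉ h.toLocal.Zset → u * u = e 15 ∧ a * u * a⁻¹ * (a * u * a⁻¹) = e 15 ∧
      u ^ 4 = 1 ∧ u⁻¹ = e 15 * u ∧ a * u * a⁻¹ * u = u⁻¹ * (a * u * a⁻¹) ∧
      u * (a * u * a⁻¹) ≠ a * u * a⁻¹ * u := by
    intro u hu huZ
    obtain ⟨huQ, hub⟩ := hmemF.1 hu
    obtain ⟨w, hw⟩ : ∃ w, w = a * u * a⁻¹ := ⟨_, rfl⟩
    rw [← hw]
    obtain ⟨hwQ, hwb⟩ := hmemF.1 (hw ▸ hFa u hu)
    have hwZ : w ∉ h.toLocal.Zset := fun hh => huZ (by
      have h1 := h.fix_Z (d := a⁻¹) hh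
      rw [hw, show a⁻¹ * (a * u * a⁻¹) * a⁻¹⁻¹ = u by group, ← hw] at h1
      rwa [h1])
    have huu := h.sq_of_fixed hb3 hb1 huQ hub huZ
    have hww := h.sq_of_fixed hb3 hb1 hwQ hwb hwZ
    have hui : u⁻¹ = e 15 * u := inv_eq_of_mul_eq_one_right (by rw [← hzc u, ← mul_assoc, huu, hz2])
    have hnc : u * w ≠ w * u := by
      intro hcm
      have hsq : u * w * (u * w) = 1 := by
        rw [show u * w * (u * w) = u * (w * u) * w by group, ← hcm, show u * (u * w) * w = u * u * (w * w) by group,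
          huu, hww, hz2]
      have huwZ : u * w ∈ h.toLocal.Zset := by
        by_contra hn
        have := h.sq_of_fixed hb3 hb1 (mul_mem huQ hwQ) (by
          rw [show b * (u * w) * b⁻¹ = b * u * b⁻¹ * (b * w * b⁻¹) by group, hub, hwb]) hn
        rw [hsq] at this
        exact h.c.z_ne this.symm
      obtain ⟨w0, hw0⟩ : ∃ w0, w0 = u⁻¹ * w := ⟨_, rfl⟩
      have hw0Z : w0 ∈ h.toLocal.Zset := by
        have h1 := mul_mem (h.toLocal.mem_Z_of_code (m := 15) (Or.inr rfl)) huwZ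
        rwa [← mul_assoc, ← hui, ← hw0] at h1
      have hshift : a * u * a⁻¹ = w0 * u := by
        rw [← hw, hw0, mul_assoc, ← hcm, inv_mul_cancel_left]
      exact huZ (hboth u huQ (h.fix_of_shift ha3 (h.Z_le_Q hw0Z) (h.fix_Z hw0Z) hshift) hub)
    refine ⟨huu, hww, ?_, hui, ?_, hnc⟩
    · rw [show u ^ 4 = u * u * (u * u) by simp [pow_succ, mul_assoc], huu, hz2]
    · rcases h.toLocal.mem_Z.1 (h.Q_mod hwQ huQ) with e1 | e1
      · refine absurd ?_ hnc
        rw [mul_inv_eq_one, mul_inv_eq_iff_eq_mul] at e1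
        exact e1.symm
      · rw [mul_inv_eq_iff_eq_mul, mul_inv_eq_iff_eq_mul] at e1
        rw [e1, hui]
  -- `F` has order eight
  set F' := F.map (MulAut.conj σ).toMonoidHom with hF'
  have hF'Q : F' ≤ h.c.sQ := by
    rintro _ ⟨y, hy, rfl⟩; exact h.Q_normal.conj_mem y (hmemF.1 hy).1 σ
  have hF'a : ∀ y ∈ F', a * y * a⁻¹ = y := by
    rintro _ ⟨y, hy, rfl⟩
    show a * (σ * y * σ⁻¹) * a⁻¹ = σ * y * σ⁻¹
    have h1 : a = σ * b * σ⁻¹ := by
      rw [hb, show σ * (σ * a * σ⁻¹) * σ⁻¹ = σ * σ * a * (σ * σ)⁻¹ by group, hσσ, inv_one, one_mul, mul_one]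
    conv_lhs => rw [h1]
    rw [show σ * b * σ⁻¹ * (σ * y * σ⁻¹) * (σ * b * σ⁻¹)⁻¹ = σ * (b * y * b⁻¹) * σ⁻¹ by group, (hmemF.1 hy).2]
  have hinf : F' ⊓ F ≤ h.toLocal.Zset := fun y hy =>
    hboth y (hF'Q hy.1) (hF'a y hy.1) (hmemF.1 hy.2).2
  have hF8 : Nat.card F ≤ 8 := by
    have hcF' : Nat.card F' = Nat.card F := card_map_of_injective (MulAut.conj σ).injective
    have h1 : F'.relIndex F ≤ F'.relIndex h.c.sQ := Subgroup.relIndex_le_of_le_right inf_le_left (fun e1 => by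
      have h0 := card_mul_relIndex hF'Q
      rw [e1, mul_zero, h.c.sQ_card] at h0
      omega)
    have h2 := card_mul_relIndex hF'Q
    rw [h.c.sQ_card, hcF'] at h2
    have h3 : Nat.card ↥(F' ⊓ F) ≤ 2 := by
      refine (Nat.le_of_dvd Nat.card_pos (Subgroup.card_dvd_of_le hinf)).trans ?_
      rw [Local.Zset, Nat.card_zpowers, h.c.z_order]
    have h4 := card_mul_relIndex (inf_le_right : F' ⊓ F ≤ F)
    rw [inf_relIndex_right] at h4
    by_contra h5
    push Not at h5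
    have h6 : 2 * F'.relIndex F ≥ Nat.card F := by
      calc Nat.card F = Nat.card ↥(F' ⊓ F) * F'.relIndex F := h4.symm
        _ ≤ 2 * F'.relIndex F := Nat.mul_le_mul_right _ h3
    nlinarith
  have hFset : ∀ u ∈ F, u ∉ h.toLocal.Zset → ∀ y ∈ F, ∃ s < 4, ∃ t < 2, y = u ^ s * (a * u * a⁻¹) ^ t := by
    intro u hu huZ y hy
    obtain ⟨huu, -, hu4, -, -, hnc⟩ := hquat u hu huZ
    set w := a * u * a⁻¹ with hw
    have hwF : w ∈ F := hFa u hu
    have hord : orderOf u = 4 := by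
      refine orderOf_eq_prime_pow (p := 2) (n := 1) ?_ hu4
      rw [pow_one, pow_two, huu]; exact h.c.z_ne
    let g : Fin 4 × Fin 2 → ↥F := fun p => ⟨u ^ (p.1 : ℕ) * w ^ (p.2 : ℕ), mul_mem (pow_mem hu _) (pow_mem hwF _)⟩
    have hg : Function.Bijective g := by
      rw [Nat.bijective_iff_injective_and_card]
      have hgi : Function.Injective g := fun p p' he => by
        have he' : u ^ (p.1 : ℕ) * w ^ (p.2 : ℕ) = u ^ (p'.1 : ℕ) * w ^ (p'.2 : ℕ) := congrArg Subtype.val he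
        have h01 : ∀ t : Fin 2, t = 0 ∨ t = 1 := by decide
        have hbad : ∀ {i j : ℕ}, u ^ i = u ^ j * w → False := fun {i j} hh => hnc (by
          have h1 : w = (u ^ j)⁻¹ * u ^ i := by rw [hh, inv_mul_cancel_left]
          rw [h1]
          exact ((((Commute.refl u).pow_right j).inv_right).mul_right ((Commute.refl u).pow_right i)).eq)
        obtain ⟨s, t⟩ := p
        obtain ⟨s', t'⟩ := p'
        simp only at he'
        rcases h01 t with rfl | rfl <;> rcases h01 t' with rfl | rfl <;>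
          simp only [Fin.val_zero, Fin.val_one, pow_zero, pow_one, mul_one] at he'
        · exact Prod.ext (Fin.ext (pow_injOn_Iio_orderOf (by rw [hord]; exact s.2) (by rw [hord]; exact s'.2) he')) rfl
        · exact (hbad he').elim
        · exact (hbad he'.symm).elim
        · exact Prod.ext (Fin.ext (pow_injOn_Iio_orderOf (by rw [hord]; exact s.2) (by rw [hord]; exact s'.2)
            (mul_right_cancel he'))) rfl
      refine ⟨hgi, le_antisymm (Nat.card_le_card_of_injective g hgi) ?_⟩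
      rw [Nat.card_prod, Nat.card_fin, Nat.card_fin]
      exact hF8
    obtain ⟨⟨s, t⟩, hst⟩ := hg.2 ⟨y, hy⟩
    exact ⟨s, s.2, t, t.2, (congrArg Subtype.val hst).symm⟩
  -- orient the generator
  obtain ⟨u, hu, huZ, hrel⟩ : ∃ u ∈ F, u ∉ h.toLocal.Zset ∧
      a * (a * u * a⁻¹) * a⁻¹ = u * (a * u * a⁻¹) := by
    have hqF : q ∈ F := hmemF.2 ⟨hqQ, hbq⟩
    obtain ⟨hqq, hww, hq4, hqi, hwq, hnc⟩ := hquat q hqF hqZ
    obtain ⟨w, hw⟩ : ∃ w, w = a * q * a⁻¹ := ⟨_, rfl⟩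
    rw [← hw] at hww hwq hnc
    obtain ⟨k, hk⟩ : ∃ k, k = a * w * a⁻¹ := ⟨_, rfl⟩
    have hkq : a * k * a⁻¹ = q := by
      rw [hk, hw, show a * (a * (a * q * a⁻¹) * a⁻¹) * a⁻¹ = a * a * a * q * (a * a * a)⁻¹ by group,
        show a * a * a = a ^ 3 by simp [pow_succ], ha3, one_mul, inv_one, mul_one]
    obtain ⟨s, hs, t, ht, hst⟩ := hFset q hqF hqZ k (hk ▸ hFa w (hw ▸ hFa q hqF))
    rw [← hw] at hst
    have hqz : ∀ i : ℕ, i = 0 ∨ i = 2 → q ^ i = 1 ∨ q ^ i = e 15 := by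
      rintro i (rfl | rfl)
      · exact Or.inl (pow_zero q)
      · exact Or.inr (by rw [pow_two, hqq])
    have hcase : t = 1 ∧ (s = 1 ∨ s = 3) := by
      interval_cases t
      · exfalso
        rw [pow_zero, mul_one] at hst
        have hcm : k * q = q * k := by rw [hst]; exact ((Commute.refl q).pow_left s).eq
        refine hnc ?_
        have h1 : a * (k * q) * a⁻¹ = a * (q * k) * a⁻¹ := by rw [hcm]
        rw [show a * (k * q) * a⁻¹ = a * k * a⁻¹ * (a * q * a⁻¹) by group,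
          show a * (q * k) * a⁻¹ = a * q * a⁻¹ * (a * k * a⁻¹) by group, hkq, ← hw] at h1
        exact h1
      · refine ⟨rfl, ?_⟩
        rw [pow_one] at hst
        by_contra hcon
        have hs' : s = 0 ∨ s = 2 := by omega
        -- then `q` is a central multiple of `w`
        have hz : ∀ z' : X, (z' = 1 ∨ z' = e 15) → k = z' * w → False := by
          intro z' hz' hkz
          have hz'c : ∀ x : X, x * z' = z' * x := fun x => by
            rcases hz' with rfl | rfl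
            · rw [mul_one, one_mul]
            · exact hzc x
          have h1 : q = z' * k := by
            conv_lhs => rw [← hkq, hkz]
            rw [show a * (z' * w) * a⁻¹ = a * z' * w * a⁻¹ by group, hz'c a,
              show z' * a * w * a⁻¹ = z' * (a * w * a⁻¹) by group, ← hk]
          refine hnc ?_
          rw [h1, hkz, ← mul_assoc z' z' w]
          rw [mul_assoc (z' * z') w w]
          rw [← mul_assoc w (z' * z') w, ← mul_assoc w z' z', hz'c w, mul_assoc z' w z', hz'c w]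
          simp only [mul_assoc]
        exact hz _ (hqz s hs') hst
    obtain ⟨rfl, hs13⟩ := hcase
    rw [pow_one] at hst
    rcases hs13 with rfl | rfl
    · refine ⟨q, hqF, hqZ, ?_⟩
      rw [← hw, ← hk, hst, pow_one]
    · refine ⟨q⁻¹, inv_mem hqF, fun hh => hqZ (inv_mem_iff.1 hh), ?_⟩
      have hq3 : q ^ 3 = q⁻¹ := eq_inv_of_mul_eq_one_left (by rw [← pow_succ]; exact hq4)
      rw [hq3] at hst
      have h1 : a * q⁻¹ * a⁻¹ = w⁻¹ := by rw [hw]; group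
      rw [h1, show a * w⁻¹ * a⁻¹ = (a * w * a⁻¹)⁻¹ by group, ← hk, hst, ← hwq, mul_inv_rev]
  obtain ⟨huu, hww, hu4, hui, hwu, hnc⟩ := hquat u hu huZ
  obtain ⟨w, hw⟩ : ∃ w, w = a * u * a⁻¹ := ⟨_, rfl⟩
  rw [← hw] at hww hwu hnc hrel
  have hwF : w ∈ F := hw ▸ hFa u hu
  have hR : SL23.Rel u w a := ⟨hu4, hww.trans huu.symm, hwu, ha3, hw.symm, hrel⟩
  obtain ⟨ι, hιi, hιj, hιa, hιn, hform⟩ := exists_hom hR
  -- the two copies commute
  have hcb : ∀ y ∈ F, Commute y b := fun y hy => ((mul_inv_eq_iff_eq_mul.1 (hmemF.1 hy).2)).symm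
  have hbF' : ∀ {y : X}, y ∈ F' → Commute y a := fun hy => (mul_inv_eq_iff_eq_mul.1 (hF'a _ hy)).symm
  have hmv : ∀ y : X, b * (σ * y * σ⁻¹) * b⁻¹ = σ * (a * y * a⁻¹) * σ⁻¹ := fun y => by rw [hb]; group
  have hcross : ∀ x ∈ F, Commute x (σ * u * σ⁻¹) ∧ Commute x (σ * w * σ⁻¹) := by
    intro x hx
    obtain ⟨hxQ, hxb⟩ := hmemF.1 hx
    obtain ⟨u', hu'⟩ : ∃ u', u' = σ * u * σ⁻¹ := ⟨_, rfl⟩
    obtain ⟨w', hw'⟩ : ∃ w', w' = σ * w * σ⁻¹ := ⟨_, rfl⟩
    rw [← hu', ← hw']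
    have e1 : b * u' * b⁻¹ = w' := by rw [hu', hmv, ← hw, hw']
    have e2 : b * w' * b⁻¹ = u' * w' := by rw [hw', hmv, hrel, hu']; group
    obtain ⟨c, hcZ, hc⟩ : ∃ c ∈ h.toLocal.Zset, x * u' = c * (u' * x) :=
      ⟨x * u' * x⁻¹ * u'⁻¹, h.Q_mod hxQ (hu' ▸ h.Q_normal.conj_mem u (hmemF.1 hu).1 σ), by group⟩
    have hcc : ∀ y : X, y * c = c * y := fun y => mul_inv_eq_iff_eq_mul.1 (h.fix_Z hcZ)
    have h2 : x * w' = c * (w' * x) := by
      have h3 := congrArg (fun y => b * y * b⁻¹) hc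
      rwa [show b * (x * u') * b⁻¹ = b * x * b⁻¹ * (b * u' * b⁻¹) by group,
        show b * (c * (u' * x)) * b⁻¹ = b * c * b⁻¹ * (b * u' * b⁻¹ * (b * x * b⁻¹)) by group, hxb, e1,
        h.fix_Z hcZ] at h3
    have h4 : x * (u' * w') = c * (u' * w' * x) := by
      have h3 := congrArg (fun y => b * y * b⁻¹) h2
      rwa [show b * (x * w') * b⁻¹ = b * x * b⁻¹ * (b * w' * b⁻¹) by group,
        show b * (c * (w' * x)) * b⁻¹ = b * c * b⁻¹ * (b * w' * b⁻¹ * (b * x * b⁻¹)) by group, hxb, e2,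
        h.fix_Z hcZ] at h3
    have h5 : c * (u' * w' * x) = c * (c * (u' * w' * x)) := by
      calc c * (u' * w' * x) = x * u' * w' := by rw [← h4, mul_assoc]
        _ = c * (u' * x) * w' := by rw [hc]
        _ = c * (u' * (x * w')) := by group
        _ = c * (u' * c * (w' * x)) := by rw [h2]; group
        _ = _ := by rw [hcc u']; group
    have hc1 : c = 1 := by
      have := mul_left_cancel h5
      exact (mul_eq_right.1 this.symm)
    rw [hc1, one_mul] at hc h2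
    exact ⟨hc, h2⟩
  have hF'mem : ∀ y ∈ F, σ * y * σ⁻¹ ∈ F' := fun y hy => mem_map_of_mem _ hy
  have hcom : ∀ p r, ι p * (σ * ι r * σ⁻¹) = σ * ι r * σ⁻¹ * ι p := by
    intro p r
    obtain ⟨k, l, n, hp⟩ := hform p
    obtain ⟨k', l', n', hr⟩ := hform r
    have hr' : σ * ι r * σ⁻¹ = (σ * u * σ⁻¹) ^ k' * (σ * w * σ⁻¹) ^ l' * b ^ n' := by
      rw [hr, hb, conj_pow, conj_pow, conj_pow]; group
    rw [hp, hr']
    obtain ⟨cu, cw⟩ := hcross u hu
    obtain ⟨du, dw⟩ := hcross w hwF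
    exact ((((cu.pow_pow k k').mul_right (cw.pow_pow k l')).mul_right ((hcb u hu).pow_pow k n')).mul_left
      (((du.pow_pow l k').mul_right (dw.pow_pow l l')).mul_right ((hcb w hwF).pow_pow l n'))).mul_left
      ((((hbF' (hF'mem u hu)).symm.pow_pow n k').mul_right ((hbF' (hF'mem w hwF)).symm.pow_pow n l')).mul_right
        ((show Commute a b from hbe).pow_pow n n')) |>.eq
  refine exists_table ι hσσ (hιn.trans huu) hz2 (h.fix_Z (h.toLocal.mem_Z_of_code (Or.inr rfl))) hcom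
    (fun H hH hσH => ?_) hl.card
  have hconjH : ∀ y : X, y ∈ H → σ * y * σ⁻¹ ∈ H := fun y hy => mul_mem (mul_mem hσH hy) (inv_mem hσH)
  have huH : u ∈ H := hιi ▸ hH _
  have hwH : w ∈ H := hιj ▸ hH _
  have haH : a ∈ H := hιa ▸ hH _
  have hbH : b ∈ H := hb ▸ hconjH a haH
  have hFH : F ≤ H := fun y hy => by
    obtain ⟨s, -, t, -, hst⟩ := hFset u hu huZ y hy
    rw [hst, ← hw]
    exact mul_mem (pow_mem huH _) (pow_mem hwH _)
  have hF'H : F' ≤ H := by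
    rintro _ ⟨y, hy, rfl⟩; exact hconjH y (hFH hy)
  refine htop H ?_ ?_ hσH
  · have hFc : Nat.card F = 8 := by
      refine le_antisymm hF8 ?_
      have hord : orderOf u = 4 := by
        refine orderOf_eq_prime_pow (p := 2) (n := 1) ?_ hu4
        rw [pow_one, pow_two, huu]; exact h.c.z_ne
      have h4 : 4 ∣ Nat.card F := hord ▸ F.orderOf_dvd_natCard hu
      obtain ⟨j, hj⟩ := h4
      have hne : ¬ F ≤ zpowers u := fun hh => by
        obtain ⟨i, hi⟩ := hh hwF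
        simp only at hi
        refine hnc ?_
        rw [← hi]
        exact ((Commute.refl u).zpow_right i).eq
      have hlt : Nat.card ↥(zpowers u) < Nat.card F := by
        refine lt_of_le_of_ne (Nat.le_of_dvd Nat.card_pos (Subgroup.card_dvd_of_le (zpowers_le.2 hu))) fun hh => hne ?_
        exact (Subgroup.eq_of_le_of_card_ge (zpowers_le.2 hu) hh.ge).ge
      rw [Nat.card_zpowers, hord] at hlt
      omega
    have hnorm : F ≤ normalizer (F' : Set X) := fun x hx => mem_normalizer_fintype fun y hy => by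
      obtain ⟨y, hy, rfl⟩ := hy
      obtain ⟨s, -, t, -, hst⟩ := hFset u hu huZ y hy
      show x * (σ * y * σ⁻¹) * x⁻¹ ∈ F'
      rw [hst, ← hw, show σ * (u ^ s * w ^ t) * σ⁻¹ = σ * u ^ s * σ⁻¹ * (σ * w ^ t * σ⁻¹) by group, ← conj_pow,
        ← conj_pow, ((((hcross x hx).1.pow_right s).mul_right ((hcross x hx).2.pow_right t))).eq,
        mul_inv_cancel_right]
      exact mul_mem (pow_mem (hF'mem u hu) _) (pow_mem (hF'mem w hwF) _)
    have hsup := Grp.card_sup_mul_card_inf (H := F) (N := F') hnorm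
    have hle : F ⊔ F' ≤ h.c.sQ := sup_le inf_le_left hF'Q
    have hcF' : Nat.card F' = Nat.card F := card_map_of_injective (MulAut.conj σ).injective
    have h3 : Nat.card ↥(F ⊓ F') ≤ 2 := by
      refine (Nat.le_of_dvd Nat.card_pos (Subgroup.card_dvd_of_le (inf_comm F F' ▸ hinf))).trans ?_
      rw [Local.Zset, Nat.card_zpowers, h.c.z_order]
    rw [hcF', hFc] at hsup
    have h32 : 32 ≤ Nat.card ↥(F ⊔ F') := by
      have := Nat.mul_le_mul_left (Nat.card ↥(F ⊔ F')) h3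
      omega
    rw [← Subgroup.eq_of_le_of_card_ge hle (h.c.sQ_card ▸ h32)]
    exact sup_le hFH hF'H
  · have hab9 : zpowers a ⊔ zpowers b ≤ P := sup_le (zpowers_le.2 haP) (zpowers_le.2 hbP)
    have hd := Subgroup.card_dvd_of_le hab9
    rw [hP9] at hd
    have ha1 : a ≠ 1 := fun e1 => hb1 (by rw [hb, e1, mul_one, mul_inv_cancel])
    have hnot : b ∉ zpowers a := by
      intro hh
      obtain ⟨i, hi⟩ := hh
      refine huZ (hboth u (hmemF.1 hu).1 ?_ (hmemF.1 hu).2)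
      have hb_gen : zpowers b = zpowers a := Subgroup.eq_of_le_of_card_ge (zpowers_le.2 ⟨i, hi⟩) (by
        rw [Nat.card_zpowers, Nat.card_zpowers, orderOf_eq_prime hb3 hb1, orderOf_eq_prime ha3 ha1])
      obtain ⟨j, hj⟩ := hb_gen.ge (mem_zpowers a)
      simp only at hj
      exact mul_inv_eq_iff_eq_mul.2 (by rw [← hj]; exact ((hcb u hu).zpow_right j).symm.eq)
    have h3 : 3 < Nat.card ↥(zpowers a ⊔ zpowers b) := by
      by_contra h3
      push Not at h3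
      refine hnot ((Subgroup.eq_of_le_of_card_ge (le_sup_left : zpowers a ≤ zpowers a ⊔ zpowers b) ?_).ge
        (mem_sup_right (mem_zpowers b)))
      rw [Nat.card_zpowers, orderOf_eq_prime ha3 ha1]; exact h3
    have h9 : Nat.card ↥(zpowers a ⊔ zpowers b) = 9 := by
      have h4 := Nat.le_of_dvd (by norm_num) hd
      interval_cases hh : Nat.card ↥(zpowers a ⊔ zpowers b) <;> omega
    rw [← Subgroup.eq_of_le_of_card_ge hab9 (by rw [h9, hP9])]
    exact sup_le (zpowers_le.2 haH) (zpowers_le.2 hbH)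

end LocalQ

end Cfsg.Agent.Transfer.AEightSolv
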