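import Cfsg.Agent.Lib.Transfer.AEightSolv.EndCommon
import Cfsg.Agent.Lib.Transfer.AEightSolv.LargeX
import Cfsg.Agent.Lib.Invol.PSp43.Model
import Cfsg.Agent.Lib.Invol.PSp43.Iso
import Cfsg.Agent.Lib.Classical.SympSimple

/-!
# The large shape: the group is `PSp(4, 3)`
-/

set_option autoImplicit false
set_option linter.style.haveILetI false
set_option linter.unusedSectionVars false
set_option maxRecDepth 100000

namespace Cfsg.Agent.Transfer.AEightSolv

open Subgroup Cfsg.Agent.Grp

universe u

namespace Ctx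

variable {G : Type u} [Group G] [Finite G] {S : Sylow 2 G} {e : ℕ → G} (h : Ctx G S e)
variable {T : Sylow 2 h.Xq} (hq : LocalQ h.Xq T h.eX)
include h hq

/-- The large shape with trivial core gives `PSp(4, 3)`. -/
theorem large_end (hl : hq.Large) (hth : theta (e 15) = ⊥) :
    ∃ (F : Type) (_ : Field F) (_ : Fintype F), Fintype.card F = 3 ∧ Nonempty (G ≃* Cfsg.PSp 2 F) := by
  classical
  haveI : Fact (Nat.Prime 3) := ⟨Nat.prime_three⟩
  obtain ⟨φ, hφ⟩ := h.exists_iso hth
  obtain ⟨f, finj, fmul, ft, fsurj⟩ := hq.large_table hl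
  have htI : ((φ.symm (f Cfsg.Agent.Invol.PSp43.tI) : ↥(centralizer ({e 15} : Set G))) : G) = e 15 := by
    rw [ft, ← hφ (show 15 < 64 by norm_num), φ.symm_apply_apply]
  let hGs : Cfsg.Agent.Invol.PSp43.Setting G :=
    { e := fun i => ((φ.symm (f i) : ↥(centralizer ({e 15} : Set G))) : G)
      inj := fun i hi j hj he => finj i hi j hj (φ.symm.injective (Subtype.ext he))
      mul := fun i hi j hj => by rw [fmul i hi j hj, map_mul]; rfl
      cen := fun x => by
        rw [htI]
        constructor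
        · intro hx
          obtain ⟨i, hi, hie⟩ := fsurj (φ ⟨x, mem_centralizer_singleton_iff.2 hx⟩)
          exact ⟨i, hi, by rw [hie, φ.symm_apply_apply]⟩
        · rintro ⟨i, -, rfl⟩
          exact mem_centralizer_singleton_iff.1 (φ.symm (f i)).2 }
  let hP := Cfsg.Agent.Invol.PSp43.setting (RingHom.id (ZMod 3)) Function.bijective_id
  refine ⟨ZMod 3, inferInstance, inferInstance, ZMod.card 3, ?_⟩
  haveI : IsSimpleGroup (Cfsg.PSp 2 (ZMod 3)) := by
    refine Cfsg.Agent.Classical.PSp_isSimpleGroup (by norm_num) ?_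
    exact Cfsg.Agent.Classical.symp_perfect_of_card (Or.inr (Or.inl ⟨rfl, (ZMod.card 3).ge⟩))
  refine Cfsg.Agent.Invol.PSp43.iso hGs (index_two_false h.res) hP fun H hH => ?_
  have hle : 576 ≤ Nat.card (Cfsg.PSp 2 (ZMod 3)) := hP.card_cent ▸ Subgroup.card_le_card_group _
  rcases (Subgroup.normal_of_index_eq_two hH).eq_bot_or_eq_top with r | r
  · rw [r, Subgroup.index_bot] at hH
    omega
  · rw [r, Subgroup.index_top] at hH
    omega

end Ctx

end Cfsg.Agent.Transfer.AEightSolv
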