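import Cfsg.Agent.Lib.Transfer.AEightSolv.EndCommon
import Cfsg.Agent.Lib.Invol.Cen192.MPlus
import Cfsg.Agent.Lib.Invol.Cen192.APlus
import Cfsg.Agent.Lib.Invol.Cen192.Minus

/-!
# The small shape: the group is alternating of degree 8 or 9
-/

set_option autoImplicit false
set_option linter.style.haveILetI false
set_option linter.unusedSectionVars false
set_option maxRecDepth 100000

namespace Cfsg.Agent.Transfer.AEightSolv

open Subgroup Cfsg.Agent.Grp

universe u

open Cfsg.Agent.Invol.Cen192 in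
theorem false_model : ∀ i : Fin 192, (i : ℕ) % 6 ≠ 0 → fmul false 0 i i = 0 →
    (Finset.univ.filter fun j : Fin 192 => (j : ℕ) % 6 = 0 ∧ fmul false 0 j j = 0 ∧
      fmul false 0 i j = fmul false 0 j i).card ≤ 4 := by
  decide +kernel

open Cfsg.Agent.Invol.Cen192 in
theorem fmul_lt (sw : Bool) (sq n m : ℕ) : fmul sw sq n m < 192 := by
  have key : ∀ (p : ℕ × ℕ × ℕ) (i j : ℕ), p.1 < 4 → p.2.1 < 4 → p.2.2 < 2 → i < 3 → j < 2 → Invol.Cen192.enc p i j < 192 := by
    intro p i j a b c d e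
    simp only [Invol.Cen192.enc]
    omega
  have hn : (qOf n).1 < 4 ∧ (qOf n).2.1 < 4 := by simp only [qOf]; omega
  have hr : ∀ q : ℕ × ℕ × ℕ, q.1 < 4 → q.2.1 < 4 → (phy sw q).1 < 4 ∧ (phy sw q).2.1 < 4 := by
    intro q a b
    unfold phy
    split <;> exact ⟨neg_lt _ (by first | exact a | exact b), neg_lt _ (by first | exact a | exact b)⟩
  have hm : ∀ b : Prop, ∀ [Decidable b], (if b then phy sw (qOf m) else qOf m).1 < 4 ∧
      (if b then phy sw (qOf m) else qOf m).2.1 < 4 := by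
    intro b _
    have h1 : (qOf m).1 < 4 ∧ (qOf m).2.1 < 4 := by simp only [qOf]; omega
    split
    exacts [hr _ h1.1 h1.2, h1]
  have hi : iOf n < 3 := by simp only [iOf]; omega
  refine key _ _ _ (q8_lt _ hn.1 _ (rot_lt _ (hm _).1 _ hi).1) (q8_lt _ hn.2 _ (rot_lt _ (hm _).2 _ hi).1)
    (Nat.mod_lt _ (by norm_num)) (Nat.mod_lt _ (by norm_num)) (Nat.mod_lt _ (by norm_num))

theorem E_even_card : (Finset.univ.filter fun m : Fin 16 => oddM m = false).card = 8 := by decide +kernel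

namespace Ctx

variable {G : Type u} [Group G] [Finite G] {S : Sylow 2 G} {e : ℕ → G} (h : Ctx G S e)
variable {T : Sylow 2 h.Xq} (hq : LocalQ h.Xq T h.eX)
include h hq

/-- The small shape with trivial core gives `A₈` or `A₉`. -/
theorem small_end (hs : hq.Small) (hth : theta (e 15) = ⊥) {v : ℕ} (hv : vOk v) (hvO : h.IsO (uM v)) :
    Nonempty (G ≃* ↥(alternatingGroup (Fin 8))) ∨ Nonempty (G ≃* ↥(alternatingGroup (Fin 9))) := by
  classical
  haveI : Fact (Nat.Prime 2) := ⟨Nat.prime_two⟩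
  haveI : Fact (Nat.Prime 3) := ⟨Nat.prime_three⟩
  obtain ⟨φ, hφ⟩ := h.exists_iso hth
  obtain ⟨L, hL⟩ : ∃ L, L = centralizer ({e 15} : Set G) := ⟨_, rfl⟩
  subst hL
  set L := centralizer ({e 15} : Set G) with hL
  have hcore : Cfsg.pCore 2 ↥L = h.c.sQ.subgroupOf L := h.sQ_pCore hq φ hφ
  have hQ : h.c.sQ = (Cfsg.pCore 2 ↥L).map L.subtype := by
    rw [hcore, Subgroup.subgroupOf_map_subtype, inf_eq_left.2 h.sQ_le_cent]
  -- the permutation representation on the three Sylow subgroups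
  have h3 : Nat.card (h.Xq ⧸ (T : Subgroup h.Xq)) = 3 := by
    have h1 := (T : Subgroup h.Xq).card_mul_index
    rw [hq.c.card, hs.card] at h1
    rw [← Subgroup.index_eq_card]
    omega
  have hcr : (T : Subgroup h.Xq).normalCore = hq.c.sQ := by
    haveI := hq.Q_normal
    refine le_antisymm ?_ (Subgroup.normal_le_normalCore.2 hq.c.sQ_le)
    rw [← hq.rad]
    exact Grp.le_pCore inferInstance (T.isPGroup'.to_le (Subgroup.normalCore_le _))
  let p0 : Equiv.Perm (h.Xq ⧸ (T : Subgroup h.Xq)) ≃* Equiv.Perm (Fin 3) :=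
    (Finite.equivFinOfCardEq h3).permCongrHom
  let f : ↥L →* Equiv.Perm (Fin 3) :=
    (p0.toMonoidHom.comp (MulAction.toPermHom h.Xq (h.Xq ⧸ (T : Subgroup h.Xq)))).comp φ.toMonoidHom
  have hfk : f.ker = Cfsg.pCore 2 ↥L := by
    ext l
    rw [hcore, mem_subgroupOf, ← h.sQ_iff hq φ hφ, ← hcr, Subgroup.normalCore_eq_ker, MonoidHom.mem_ker,
      MonoidHom.mem_ker]
    exact EmbeddingLike.map_eq_one_iff (f := p0)
  have hL192 : Nat.card ↥L = 192 := (Nat.card_congr φ.toEquiv).trans hs.card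
  have hker32 : Nat.card f.ker = 32 := by
    rw [hfk, hcore, Nat.card_congr (subgroupOfEquivOfLe h.sQ_le_cent).toEquiv, h.c.sQ_card]
  have hfs : Function.Surjective f := by
    rw [← MonoidHom.range_eq_top]
    refine Subgroup.eq_top_of_card_eq _ ?_
    have h1 := f.ker.card_mul_index
    rw [hker32, hL192, Subgroup.index_ker] at h1
    rw [Nat.card_perm, Nat.card_fin]
    show Nat.card f.range = 6
    omega
  obtain ⟨X3⟩ : Nonempty (Sylow 3 ↥L) := inferInstance
  have hX3 : Nat.card (X3 : Subgroup ↥L) = 3 := by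
    obtain ⟨n, hn⟩ := IsPGroup.iff_card.1 X3.isPGroup'
    have h1 := (X3 : Subgroup ↥L).card_mul_index
    have h2 := X3.not_dvd_index
    rw [hn, hL192] at h1
    rw [hn]
    rcases n with _ | _ | n
    · rw [pow_zero, one_mul] at h1
      exact absurd (h1 ▸ (by norm_num : 3 ∣ 192)) h2
    · rfl
    · rw [pow_succ, pow_succ] at h1
      have h9 : 9 ∣ 192 := ⟨3 ^ n * (X3 : Subgroup ↥L).index, by rw [← h1]; ring⟩
      omega
  have hCQX : h.c.sQ ⊓ centralizer (((X3 : Subgroup ↥L).map L.subtype : Subgroup G) : Set G) = zpowers (e 15) := by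
    refine le_antisymm (fun q hq' => ?_) (zpowers_le.2 ⟨(h.c.e_mem_sQ (by norm_num)).2 (by decide), ?_⟩)
    · obtain ⟨hqQ, hqC⟩ := hq'
      obtain ⟨x, hx, hx1⟩ : ∃ x ∈ (X3 : Subgroup ↥L), x ≠ 1 := by
        rcases (X3 : Subgroup ↥L).bot_or_exists_ne_one with e1 | e1
        · rw [e1, Subgroup.card_bot] at hX3; omega
        · exact e1
      have hx3 : x ^ 3 = 1 := orderOf_dvd_iff_pow_eq_one.1 (hX3 ▸ (X3 : Subgroup ↥L).orderOf_dvd_natCard hx)
      have hqL : q ∈ L := h.sQ_le_cent hqQ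
      have hcomm : x * ⟨q, hqL⟩ * x⁻¹ = (⟨q, hqL⟩ : ↥L) := Subtype.ext (by
        show (x : G) * q * (x : G)⁻¹ = q
        exact mul_inv_eq_iff_eq_mul.2 (mem_centralizer_iff.1 hqC _ (mem_map_of_mem _ hx)))
      have h1 := hs.fpf (φ x) (by rw [← map_pow, hx3, map_one]) (fun e1 => hx1 (φ.injective (e1.trans (map_one φ).symm)))
        (φ ⟨q, hqL⟩) ((h.sQ_iff hq φ hφ _).2 hqQ) (by rw [← map_inv, ← map_mul, ← map_mul, hcomm])
      rcases hq.toLocal.mem_Z.1 h1 with e1 | e1
      · have : q = 1 := congrArg Subtype.val (φ.injective (e1.trans (map_one φ).symm))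
        rw [this]; exact one_mem _
      · rw [← hφ (show 15 < 64 by norm_num)] at e1
        have : q = e 15 := congrArg Subtype.val (φ.injective e1)
        rw [this]; exact mem_zpowers _
    · refine mem_centralizer_iff.2 ?_
      rintro _ ⟨l, -, rfl⟩
      exact mem_centralizer_singleton_iff.1 l.2
  obtain ⟨sw, sq, x, y, A, B, hsq, r, inj, cen, hQ', hder⟩ :=
    Invol.Cen192.exists_el (e 15) h.c.z_order L hL h.c.sQ hQ (h.sQ_extraspecial hq) h.c.sQ_card f hfs hfk X3 hCQX
  obtain ⟨g, hg⟩ := hvO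
  obtain ⟨hu, hu0, -, hu15⟩ := vOk_uM hv
  have hgQ : g * e 15 * g⁻¹ ∈ h.c.sQ := by rw [hg]; exact (h.c.e_mem_sQ (by omega)).2 hu0
  have hne : g * e 15 * g⁻¹ ≠ e 15 := by
    rw [hg]
    exact fun e1 => hu15 ((h.c.eq_iff (by omega) (by norm_num)).1 e1)
  interval_cases sq
  · cases sw
    · -- that group has no elementary abelian subgroup of order sixteen outside `Q`
      exfalso
      obtain ⟨i, hi, hie⟩ := (cen _).1 (h.c.z_central (h.c.e_mem (show 1 < 64 by norm_num)))
      have he0 : Invol.Cen192.el (e 15) x y A B 0 = 1 := by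
        simp [Invol.Cen192.el, Invol.Cen192.qel, Invol.Cen192.qOf, Invol.Cen192.iOf, Invol.Cen192.jOf, r.A0, r.B0,
          Invol.Cen192.bit]
      have hsq' : ∀ {n : ℕ}, Invol.Cen192.el (e 15) x y A B n * Invol.Cen192.el (e 15) x y A B n = 1 →
          Invol.Cen192.fmul false 0 n n = 0 := fun he => by
        rw [r.el_mul, ← he0] at he
        exact inj _ (fmul_lt _ _ _ _) 0 (by norm_num) he
      have hiQ : i % 6 ≠ 0 := fun e1 => by
        have := (hQ' (e 1)).2 ⟨i, hi, e1, hie⟩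
        rw [h.c.e_mem_sQ (by norm_num)] at this
        exact Bool.noConfusion ((show oddM 1 = true by decide).symm.trans this)
      have hi2 : Invol.Cen192.fmul false 0 i i = 0 := hsq' (by rw [hie]; exact h.c.E_sq (by norm_num))
      have hj : ∀ m : {m // m ∈ Finset.univ.filter fun m : Fin 16 => oddM m = false}, ∃ j : Fin 192,
          Invol.Cen192.el (e 15) x y A B j = e m.1 ∧ (j : ℕ) % 6 = 0 ∧ Invol.Cen192.fmul false 0 j j = 0 ∧
            Invol.Cen192.fmul false 0 i j = Invol.Cen192.fmul false 0 j i := by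
        rintro ⟨m, hm⟩
        obtain ⟨j, hj, hj6, hje⟩ := (hQ' (e m)).1 ((h.c.e_mem_sQ (by omega)).2 (Finset.mem_filter.1 hm).2)
        refine ⟨⟨j, hj⟩, hje, hj6, hsq' (by rw [hje]; exact h.c.E_sq m.2), inj _ (fmul_lt _ _ _ _) _ (fmul_lt _ _ _ _) ?_⟩
        rw [← r.el_mul, ← r.el_mul, hie, hje]
        exact h.c.sE_comm ⟨1, by norm_num, rfl⟩ ⟨m, m.2, rfl⟩
      choose F hF using hj
      have h8 : (Finset.univ.filter fun j : Fin 192 => (j : ℕ) % 6 = 0 ∧ Invol.Cen192.fmul false 0 j j = 0 ∧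
          Invol.Cen192.fmul false 0 i j = Invol.Cen192.fmul false 0 j i).card ≥ 8 := by
        rw [ge_iff_le, ← E_even_card, ← Fintype.card_coe]
        refine (Finset.card_le_card_of_injOn F (fun m _ => Finset.mem_filter.2 ⟨Finset.mem_univ _, (hF m).2⟩)
          fun a _ b _ hab => Subtype.ext (Fin.ext (h.c.inj _ (by omega) _ (by omega)
            ((hF a).1.symm.trans ((congrArg (fun j : Fin 192 => Invol.Cen192.el (e 15) x y A B j) hab).trans (hF b).1)))))
      exact absurd (h8.le.trans (false_model ⟨i, hi⟩ hiQ hi2)) (by norm_num)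
    · rcases Invol.Cen192.aplus_case r inj cen hQ' hgQ hne with ⟨N, hN, -, hsq2, h8, -⟩ | e1 | e1
      · exfalso
        have hle : N ≤ Cfsg.pCore 2 G := Grp.le_pCore hN (IsPGroup.of_card (n := 3) (by rw [h8]; norm_num))
        rw [h.two, le_bot_iff] at hle
        rw [hle, Subgroup.card_bot] at h8
        omega
      · exact Or.inl e1
      · exact Or.inr e1
  · exact (Invol.Cen192.minus_false r h.c.z_ne inj cen hQ' hder hgQ hne).elim

end Ctx

end Cfsg.Agent.Transfer.AEightSolv
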