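import Cfsg.Agent.Lib.Transfer.AEightSolv.Model
import Cfsg.Agent.Lib.Grp.Signalizer

/-!
# The elementary abelian group of order 16 and the extraspecial group in coordinates
-/

set_option autoImplicit false
set_option linter.style.haveILetI false
set_option linter.unusedSectionVars false
set_option maxRecDepth 100000

namespace Cfsg.Agent.Transfer.AEightSolv

open Subgroup

/-- the code of the central involution -/
abbrev zI : ℕ := 15

/-- the code of `1 + v` -/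
def uM (v : ℕ) : ℕ := 1 + 2 ^ v

/-- `v` is one of the three involutions of `V` -/
def vOk (v : ℕ) : Prop := 1 ≤ v ∧ v < 4

theorem vOk_uM {v : ℕ} (h : vOk v) : uM v < 16 ∧ oddM (uM v) = false ∧ uM v ≠ 0 ∧ uM v ≠ 15 := by
  obtain ⟨h1, h2⟩ := h
  interval_cases v <;> decide

theorem unique_ok : ∀ a : Fin 64, 16 ≤ (a : ℕ) → mM a a = 0 →
    ((List.range 64).filter fun n => mM n n == 0 && comM n a).length < 16 := by
  decide +kernel

theorem sq_E : ∀ m : Fin 16, mM m m = 0 := by decide +kernel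

theorem comm_E : ∀ m n : Fin 16, comM m n = true := by decide +kernel

theorem z_comm : ∀ m : Fin 64, comM 15 m = true := by decide +kernel

theorem Q_comm : ∀ m n : Fin 64, oddM m = false → oddM n = false →
    mM (cM m n) (iM n) = 0 ∨ mM (cM m n) (iM n) = 15 := by
  decide +kernel

namespace Coords

variable {G : Type*} [Group G] {S : Subgroup G} {e : ℕ → G} (c : Coords S e)
include c

theorem mem_sE {x : G} : x ∈ c.sE ↔ ∃ m < 16, e m = x := Iff.rfl

theorem mem_sQ {x : G} : x ∈ c.sQ ↔ ∃ m < 64, oddM m = false ∧ e m = x := Iff.rfl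

theorem e_mem_sE {m : ℕ} (hm : m < 64) : e m ∈ c.sE ↔ m < 16 :=
  ⟨fun ⟨n, hn, h⟩ => c.inj n (by omega) m hm h ▸ hn, fun h => ⟨m, h, rfl⟩⟩

theorem e_mem_sQ {m : ℕ} (hm : m < 64) : e m ∈ c.sQ ↔ oddM m = false :=
  ⟨fun ⟨n, hn, h1, h⟩ => c.inj n hn m hm h ▸ h1, fun h => ⟨m, hm, h, rfl⟩⟩

theorem sE_le : c.sE ≤ S := fun x ⟨m, hm, h⟩ => h ▸ c.e_mem (by omega)

theorem sQ_le : c.sQ ≤ S := fun x ⟨m, hm, _, h⟩ => h ▸ c.e_mem hm

theorem z_sq : e 15 * e 15 = 1 := (c.sq_iff (by norm_num)).2 (by decide)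

theorem z_ne : e 15 ≠ 1 := fun h => by
  have := (c.eq_one (show 15 < 64 by norm_num)).1 h
  omega

theorem z_order : orderOf (e 15) = 2 := Cfsg.Agent.Invol.orderOf_two_iff.2 ⟨c.z_sq, c.z_ne⟩

theorem z_central {x : G} (hx : x ∈ S) : x * e 15 = e 15 * x := by
  obtain ⟨m, hm, rfl⟩ := (c.mem x).1 hx
  exact ((c.comm_iff (by norm_num) hm).2 (z_comm ⟨m, hm⟩)).symm

theorem E_sq {m : ℕ} (hm : m < 16) : e m * e m = 1 := (c.sq_iff (by omega)).2 (sq_E ⟨m, hm⟩)

theorem sE_elem : Cfsg.IsElementaryAbelian 2 c.sE := by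
  refine ⟨⟨⟨fun x y => Subtype.ext ?_⟩⟩, fun x hx => ?_⟩
  · obtain ⟨m, hm, hx⟩ := x.2
    obtain ⟨n, hn, hy⟩ := y.2
    show (x : G) * y = y * x
    rw [← hx, ← hy]
    exact (c.comm_iff (by omega) (by omega)).2 (comm_E ⟨m, hm⟩ ⟨n, hn⟩)
  · obtain ⟨m, hm, rfl⟩ := hx
    rw [pow_two]; exact c.E_sq hm

theorem sE_comm {x y : G} (hx : x ∈ c.sE) (hy : y ∈ c.sE) : x * y = y * x := by
  obtain ⟨m, hm, rfl⟩ := hx
  obtain ⟨n, hn, rfl⟩ := hy
  exact (c.comm_iff (by omega) (by omega)).2 (comm_E ⟨m, hm⟩ ⟨n, hn⟩)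

theorem sE_card : Nat.card ↥c.sE = 16 := by
  rw [← Nat.card_fin 16]
  refine (Nat.card_eq_of_bijective (fun m : Fin 16 => (⟨e m, m, m.2, rfl⟩ : ↥c.sE))
    ⟨fun m n h => Fin.ext (c.inj m (by omega) n (by omega) (congrArg Subtype.val h)), ?_⟩).symm
  rintro ⟨x, m, hm, rfl⟩
  exact ⟨⟨m, hm⟩, rfl⟩

theorem sQ_card : Nat.card ↥c.sQ = 32 := by
  have h : (Finset.univ.filter fun m : Fin 64 => oddM m = false).card = 32 := by decide +kernel
  rw [← h, ← Nat.card_eq_finsetCard]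
  refine (Nat.card_eq_of_bijective (fun m : {m // m ∈ Finset.univ.filter fun m : Fin 64 => oddM m = false} =>
      (⟨e m.1, m.1, m.1.2, (Finset.mem_filter.1 m.2).2, rfl⟩ : ↥c.sQ))
    ⟨fun m n h => Subtype.ext (Fin.ext (c.inj _ m.1.2 _ n.1.2 (congrArg Subtype.val h))), ?_⟩).symm
  rintro ⟨x, m, hm, hp, rfl⟩
  exact ⟨⟨⟨m, hm⟩, Finset.mem_filter.2 ⟨Finset.mem_univ _, hp⟩⟩, rfl⟩

/-- The elementary abelian subgroup of order 16 is unique. -/
theorem eq_sE {A : Subgroup G} (hA : Cfsg.IsElementaryAbelian 2 A) (h16 : 16 ≤ Nat.card A) (hAS : A ≤ S) :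
    A = c.sE := by
  classical
  have hle : A ≤ c.sE := by
    intro x hx
    by_contra hxE
    obtain ⟨a, ha, rfl⟩ := (c.mem x).1 (hAS hx)
    have ha16 : 16 ≤ a := Nat.le_of_not_lt fun h => hxE ⟨a, h, rfl⟩
    set L := (List.range 64).filter fun n => mM n n == 0 && comM n a with hL
    have hlen : L.length < 16 := unique_ok ⟨a, ha⟩ ha16 ((c.sq_iff ha).1 (by rw [← pow_two]; exact hA.2 _ hx))
    have hsub : (A : Set G) ⊆ ((L.toFinset.image e : Finset G) : Set G) := fun y hy => by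
      obtain ⟨n, hn, rfl⟩ := (c.mem y).1 (hAS hy)
      simp only [Finset.coe_image, Set.mem_image, SetLike.mem_coe, List.mem_toFinset]
      refine ⟨n, ?_, rfl⟩
      simp only [hL, List.mem_filter, List.mem_range, Bool.and_eq_true, beq_iff_eq]
      exact ⟨hn, (c.sq_iff hn).1 (by rw [← pow_two]; exact hA.2 _ hy),
        (c.comm_iff hn ha).1 (Grp.elemAb_comm hA _ hy _ hx)⟩
    have h1 := Set.ncard_le_ncard hsub (Finset.finite_toSet _)
    rw [Set.ncard_coe_finset, ← Nat.card_coe_set_eq] at h1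
    have h2 := Finset.card_image_le (s := L.toFinset) (f := e)
    have h3 := List.toFinset_card_le L
    have h4 : Nat.card ↥A = Nat.card (A : Set G) := rfl
    omega
  haveI : Finite ↥c.sE := Nat.finite_of_card_ne_zero (by rw [c.sE_card]; norm_num)
  exact Subgroup.eq_of_le_of_card_ge hle (by rw [c.sE_card]; exact h16)

end Coords

/-- Conjugation carries the unique subgroup of order 16 of one Sylow subgroup to that of another. -/
theorem Coords.sE_unique {G : Type*} [Group G] [Finite G] {S : Sylow 2 G} {e : ℕ → G}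
    (c : Coords (S : Subgroup G) e) (P : Subgroup G) (hP : IsPGroup 2 P) (hEP : c.sE ≤ P) (g : G)
    (hg : ∀ a ∈ c.sE, g * a * g⁻¹ ∈ P) : ∀ a ∈ c.sE, g * a * g⁻¹ ∈ c.sE := by
  haveI : Fact (Nat.Prime 2) := ⟨Nat.prime_two⟩
  obtain ⟨T, hT⟩ := hP.exists_le_sylow
  obtain ⟨k, hk⟩ := MulAction.exists_smul_eq G T S
  have hkmem : ∀ x ∈ (T : Subgroup G), k * x * k⁻¹ ∈ (S : Subgroup G) := fun x hx => by
    rw [← hk]; exact ⟨x, hx, rfl⟩
  have key : ∀ h : G, (∀ a ∈ c.sE, h * a * h⁻¹ ∈ (S : Subgroup G)) → ∀ a ∈ c.sE, h * a * h⁻¹ ∈ c.sE := by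
    intro h hh a ha
    have hAS : c.sE.map (MulAut.conj h).toMonoidHom ≤ (S : Subgroup G) := by
      rintro _ ⟨b, hb, rfl⟩; exact hh b hb
    have he := c.eq_sE (A := c.sE.map (MulAut.conj h).toMonoidHom)
      ⟨⟨⟨fun x y => Subtype.ext (by
          obtain ⟨a, ha, hx⟩ := x.2
          obtain ⟨b, hb, hy⟩ := y.2
          show (x : G) * y = y * x
          rw [← hx, ← hy, ← map_mul, ← map_mul, c.sE_comm ha hb])⟩⟩,
        fun x ⟨b, hb, hx⟩ => by rw [← hx, ← map_pow, c.sE_elem.2 b hb, map_one]⟩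
      (by rw [card_map_of_injective (MulAut.conj h).injective, c.sE_card]) hAS
    exact he.le ⟨a, ha, rfl⟩
  intro a ha
  have h1 := key (k * g) (fun b hb => by
    rw [show k * g * b * (k * g)⁻¹ = k * (g * b * g⁻¹) * k⁻¹ by group]
    exact hkmem _ (hT (hg b hb))) a ha
  have hkN : k ∈ normalizer (c.sE : Set G) :=
    mem_normalizer_fintype fun b hb => key k (fun b' hb' => hkmem _ (hT (hEP hb'))) b hb
  rw [show k * g * a * (k * g)⁻¹ = k * (g * a * g⁻¹) * k⁻¹ by group] at h1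
  exact (mem_normalizer_iff.1 hkN _).2 h1

end Cfsg.Agent.Transfer.AEightSolv
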