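import Cfsg.Agent.Lib.Transfer.AEightSolv.Radical

/-!
# Elements of order three acting on the radical `Q`

No such element fixes a non-central involution; one normalised by the outer involution fixes only `z`, and then
permutes each column of the three.
-/

set_option autoImplicit false
set_option linter.style.haveILetI false
set_option linter.unusedSectionVars false
set_option maxRecDepth 100000

namespace Cfsg.Agent.Transfer.AEightSolv

open Subgroup

/-- a non-central involution of `Q` -/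
def invQ (m : ℕ) : Bool := !oddM m && mM m m == 0 && !(m == 0) && !(m == 15)

/-- the four elements `⟨z, w⟩` -/
def inZw (m n : ℕ) : Bool := n == 0 || n == 15 || n == m || n == mM m 15

/-- the group of order eight fixed first -/
def inY (m q n : ℕ) : Bool := inZw m n || inZw m (mM n (iM q))

/-- the conditions on the first fixed element of order four -/
def fixB (m q : ℕ) : Bool :=
  !oddM q && mM q q == 15 && comM q m &&
    ((List.range 64).all fun n => oddM n || !comM n m || !(mM n n == 15) || inZw m (mM n (iM q))) &&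
    ((List.range 64).all fun n => oddM n || !comM n m || inY m q n ||
      (List.range 64).all fun n' => oddM n' || !comM n' m || inY m q n' || inY m q (mM n (iM n')))

theorem fixB_ok : ((List.range 64).all fun m => !invQ m || (List.range 64).any fun q => fixB m q) = true := by
  decide +kernel

theorem fix_ok {m : ℕ} (hm : m < 64) (h : invQ m = true) : ∃ q : Fin 64, oddM q = false ∧ mM q q = 15 ∧
    comM q m = true ∧
    (∀ n : Fin 64, oddM n = false → comM n m = true → mM n n = 15 → inZw m (mM n (iM q)) = true) ∧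
    ∀ n n' : Fin 64, oddM n = false → comM n m = true → inY m q n = false → oddM n' = false → comM n' m = true →
      inY m q n' = false → inY m q (mM n (iM n')) = true := by
  have h0 := fixB_ok
  simp only [List.all_eq_true, List.mem_range, Bool.or_eq_true, Bool.not_eq_true', List.any_eq_true] at h0
  obtain ⟨q, hq, hb⟩ := (h0 m hm).resolve_left (by rw [h]; exact Bool.noConfusion)
  simp only [fixB, Bool.and_eq_true, Bool.not_eq_true', beq_iff_eq, List.all_eq_true, List.mem_range,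
    Bool.or_eq_true] at hb
  obtain ⟨⟨⟨⟨h1, h2⟩, h3⟩, h4⟩, h5⟩ := hb
  refine ⟨⟨q, hq⟩, h1, h2, h3, fun n hn hc hs => ?_, fun n n' hn hc hy hn' hc' hy' => ?_⟩
  · simpa [hn, hc, hs] using h4 n n.2
  · have h6 := h5 n n.2
    simp [hn, hc, hy] at h6
    simpa [hn', hc', hy'] using h6 n' n'.2

theorem coset_ok_list : ((List.range 64).all fun m => !invQ m || (List.range 64).all fun n => oddM n || comM n m ||
    (List.range 64).all fun n' => oddM n' || comM n' m || comM (mM n (iM n')) m) = true := by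
  decide +kernel

theorem coset_ok : ∀ m n n' : Fin 64, invQ m = true → oddM n = false → oddM n' = false → comM n m = false →
    comM n' m = false → comM (mM n (iM n')) m = true := by
  intro m n n' hm hn hn' hc hc'
  have h := coset_ok_list
  simp only [List.all_eq_true, List.mem_range, Bool.or_eq_true, Bool.not_eq_true'] at h
  have h1 := h m m.2
  simp [hm] at h1
  have h2 := h1 n n.2
  simp [hn, hc] at h2
  have h3 := h2 n' n'.2
  simpa [hn', hc'] using h3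

theorem Q_exp : ∀ m : Fin 64, oddM m = false → mM (mM m m) (mM m m) = 0 := by decide +kernel

theorem sigma_fix : ∀ m : Fin 64, oddM m = false → (mM (cM 1 m) (iM m) = 0 ∨ mM (cM 1 m) (iM m) = 15) →
    (m : ℕ) < 16 := by
  decide +kernel

theorem sigma_comm : ∀ m : Fin 64, oddM m = false → mM (cM 1 m) (iM m) < 16 ∧
    oddM (mM (cM 1 m) (iM m)) = false := by
  decide +kernel

theorem uM_comm : ∀ v : Fin 4, 1 ≤ (v : ℕ) → ∀ k : Fin 64, 16 ≤ (k : ℕ) → oddM k = false → mM k k = 0 →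
    comM (uM v) k = true → vP k = v := by
  decide +kernel

theorem coset_conj : ∀ k m : Fin 64, 16 ≤ (k : ℕ) → 16 ≤ (m : ℕ) → mM k k = 0 → mM m m = 0 → vP k = vP m →
    ∃ t : Fin 64, cM t k = m := by
  decide +kernel

/-- the elementary group of order eight in column `v` -/
def inL (v m : ℕ) : Bool :=
  mM m m == 0 && (m == 0 || m == 15 || m == uM v || m == mM (uM v) 15 || (Nat.ble 16 m && vP m == v))

theorem L_ok : ∀ v : Fin 4, 1 ≤ (v : ℕ) → ∀ m n : Fin 64, inL v m = true → inL v n = true →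
    inL v (mM m n) = true ∧ iM m = m ∧ oddM m = false := by
  decide +kernel

theorem L_gen_list : ([1, 2, 3].all fun v => (List.range 64).all fun k => !(Nat.ble 16 k && inL v k) ||
    (List.range 64).all fun n => !inL v n || inZw (uM v) n || inZw (uM v) (mM n (iM k))) = true := by
  decide +kernel

theorem L_gen : ∀ v : Fin 4, 1 ≤ (v : ℕ) → ∀ k n : Fin 64, 16 ≤ (k : ℕ) → inL v k = true → inL v n = true →
    inZw (uM v) n = true ∨ inZw (uM v) (mM n (iM k)) = true := by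
  intro v hv k n hk hkL hnL
  have h := L_gen_list
  simp only [List.all_eq_true, List.mem_range, Bool.or_eq_true] at h
  have h1 := h v (by have := v.2; simp; omega) k k.2
  have hb : Nat.ble 16 (k : ℕ) = true := by rw [Nat.ble_eq]; exact hk
  simp [hb, hkL] at h1
  simpa [hnL] using h1 n n.2

theorem L_normal : ∀ v : Fin 4, 1 ≤ (v : ℕ) → ∀ g m : Fin 64, inL v m = true → inL v (cM g m) = true := by
  decide +kernel

/-- The hypotheses with the radical equal to `Q`. -/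
structure LocalQ (X : Type*) [Group X] [Finite X] (T : Sylow 2 X) (e : ℕ → X) : Prop extends Local X T e where
  rad : Cfsg.pCore 2 X = c.sQ

namespace LocalQ

variable {X : Type*} [Group X] [Finite X] {T : Sylow 2 X} {e : ℕ → X} (h : LocalQ X T e)
include h

theorem Q_normal : h.c.sQ.Normal := by rw [← h.rad]; exact Grp.pCore_isNormal

theorem conj_code (x : X) {n : ℕ} (hn : n < 64) (hn0 : oddM n = false) :
    ∃ k < 64, oddM k = false ∧ e k = x * e n * x⁻¹ :=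
  h.Q_normal.conj_mem (e n) ((h.c.e_mem_sQ hn).2 hn0) x

theorem sq_conj {x : X} {n k : ℕ} (hn : n < 64) (hk : k < 64) (hke : e k = x * e n * x⁻¹) {s : ℕ} (hs : s = 0 ∨ s = 15)
    (hsq : mM n n = s) : mM k k = s := by
  have h1 : e k * e k = e s := by
    rw [hke, show x * e n * x⁻¹ * (x * e n * x⁻¹) = x * (e n * e n) * x⁻¹ by group, h.c.mul n hn n hn, hsq,
      h.toLocal.Z_conj x (h.toLocal.mem_Z_of_code hs)]
  rw [h.c.mul k hk k hk] at h1
  exact (h.c.eq_iff (mM_lt _ _) (by rcases hs with rfl | rfl <;> norm_num)).1 h1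

theorem Q_mod {a b : X} (ha : a ∈ h.c.sQ) (hb : b ∈ h.c.sQ) : a * b * a⁻¹ * b⁻¹ ∈ h.toLocal.Zset := by
  obtain ⟨m, hm, hm0, rfl⟩ := ha
  obtain ⟨n, hn, hn0, rfl⟩ := hb
  rw [h.toLocal.comm_code hm hn]
  exact h.toLocal.mem_Z_of_code (Q_comm ⟨m, hm⟩ ⟨n, hn⟩ hm0 hn0)

theorem pow_four {x : X} (hx : x ∈ h.c.sQ) : x ^ 4 = 1 := by
  obtain ⟨m, hm, hm0, rfl⟩ := hx
  rw [show (4 : ℕ) = 2 * 2 by norm_num, pow_mul, pow_two, pow_two, h.c.mul m hm m hm,
    h.c.mul _ (mM_lt _ _) _ (mM_lt _ _), show mM (mM m m) (mM m m) = 0 from Q_exp ⟨m, hm⟩ hm0, h.c.zero]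

theorem eq_one_of_three {w : X} (hw : w ∈ h.c.sQ) (h3 : w ^ 3 = 1) : w = 1 := by
  have h4 := h.pow_four hw
  rwa [pow_succ, h3, one_mul] at h4

/-- An element of order three shifting `r` by an element it fixes fixes `r`. -/
theorem fix_of_shift {d r w : X} (hd : d ^ 3 = 1) (hw : w ∈ h.c.sQ) (hdw : d * w * d⁻¹ = w)
    (hr : d * r * d⁻¹ = w * r) : d * r * d⁻¹ = r := by
  have c : ∀ x y : X, d * (x * y) * d⁻¹ = d * x * d⁻¹ * (d * y * d⁻¹) := fun x y => by group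
  have e1 : d * (d * r * d⁻¹) * d⁻¹ = w * (w * r) := by rw [hr, c, hdw, hr]
  have e2 : d * (d * (d * r * d⁻¹) * d⁻¹) * d⁻¹ = w * (w * (w * r)) := by rw [e1, c, hdw, c, hdw, hr]
  have e3 : d * (d * (d * r * d⁻¹) * d⁻¹) * d⁻¹ = d ^ 3 * r * (d ^ 3)⁻¹ := by
    simp only [pow_succ, pow_zero, one_mul, mul_inv_rev, mul_assoc]
  have h3 : r = w ^ 3 * r := by
    rw [e3, hd, one_mul, inv_one, mul_one] at e2
    simpa only [pow_succ, pow_zero, one_mul, mul_assoc] using e2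
  rw [hr, h.eq_one_of_three hw (mul_right_cancel (h3.symm.trans (one_mul r).symm)), one_mul]

theorem fix_Z {d : X} {w : X} (hw : w ∈ h.toLocal.Zset) : d * w * d⁻¹ = w := h.toLocal.Z_conj d hw

theorem Z_le_Q : h.toLocal.Zset ≤ h.c.sQ := fun w hw => by
  rcases h.toLocal.mem_Z.1 hw with rfl | rfl
  · exact one_mem _
  · exact (h.c.e_mem_sQ (by norm_num)).2 (by decide)

/-- No element of order three fixes a non-central involution of `Q`. -/
theorem no_fix {d : X} (hd : d ^ 3 = 1) {m : ℕ} (hm : m < 64) (hmq : invQ m = true) (hdm : d * e m * d⁻¹ = e m) :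
    d = 1 := by
  have hm0 : oddM m = false := by
    simp only [invQ, Bool.and_eq_true, Bool.not_eq_true'] at hmq
    exact hmq.1.1.1
  obtain ⟨q, hq0, hqq, hqm, hqu, hY⟩ := fix_ok hm hmq
  have hZw : ∀ n < 64, inZw m n = true → d * e n * d⁻¹ = e n := by
    intro n hn hn'
    simp only [inZw, Bool.or_eq_true, beq_iff_eq] at hn'
    rcases hn' with ((rfl | rfl) | rfl) | rfl
    · exact h.fix_Z (h.toLocal.mem_Z_of_code (Or.inl rfl))
    · exact h.fix_Z (h.toLocal.mem_Z_of_code (Or.inr rfl))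
    · exact hdm
    · rw [← h.c.mul m hm 15 (by norm_num), show d * (e m * e 15) * d⁻¹ = d * e m * d⁻¹ * (d * e 15 * d⁻¹) by group,
        hdm, h.fix_Z (h.toLocal.mem_Z_of_code (Or.inr rfl))]
  have hcomm : ∀ n < 64, ∀ k < 64, e k = d * e n * d⁻¹ → comM k m = comM n m := by
    intro n hn k hk hke
    rw [Bool.eq_iff_iff, ← h.c.comm_iff hk hm, ← h.c.comm_iff hn hm, hke]
    conv_lhs => rw [← hdm]
    constructor
    · intro e1
      have e2 : d * (e n * e m) * d⁻¹ = d * (e m * e n) * d⁻¹ := by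
        calc _ = d * e n * d⁻¹ * (d * e m * d⁻¹) := by group
          _ = _ := by rw [e1]; group
      exact mul_left_cancel (mul_right_cancel e2)
    · intro e1
      calc d * e n * d⁻¹ * (d * e m * d⁻¹) = d * (e n * e m) * d⁻¹ := by group
        _ = _ := by rw [e1]; group
  have step : ∀ n < 64, ∀ k < 64, e k = d * e n * d⁻¹ → oddM k = false → oddM n = false →
      d * e (mM k (iM n)) * d⁻¹ = e (mM k (iM n)) → d * e n * d⁻¹ = e n := by
    intro n hn k hk hke hk0 hn0 hfix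
    refine h.fix_of_shift hd ?_ hfix ?_
    · rw [← h.c.mul k hk _ (iM_lt n), ← h.c.inv hn]
      exact mul_mem ((h.c.e_mem_sQ hk).2 hk0) (inv_mem ((h.c.e_mem_sQ hn).2 hn0))
    · rw [← h.c.mul k hk _ (iM_lt n), ← h.c.inv hn, hke]
      group
  have hq64 := q.2
  have hfq : d * e q * d⁻¹ = e q := by
    obtain ⟨k, hk, hk0, hke⟩ := h.conj_code d hq64 hq0
    refine step q hq64 k hk hke hk0 hq0 (hZw _ (mM_lt _ _) ?_)
    exact hqu ⟨k, hk⟩ hk0 ((hcomm q hq64 k hk hke).trans hqm) (h.sq_conj hq64 hk hke (Or.inr rfl) hqq)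
  have hYf : ∀ n < 64, inY m q n = true → d * e n * d⁻¹ = e n := by
    intro n hn hn'
    simp only [inY, Bool.or_eq_true] at hn'
    rcases hn' with e1 | e1
    · exact hZw n hn e1
    · have h1 := hZw _ (mM_lt n (iM q)) e1
      rw [← h.c.mul n hn _ (iM_lt _), ← h.c.inv hq64] at h1
      calc d * e n * d⁻¹ = d * (e n * (e q)⁻¹) * d⁻¹ * (d * e q * d⁻¹) := by group
        _ = _ := by rw [h1, hfq, inv_mul_cancel_right]
  have hC : ∀ n < 64, oddM n = false → comM n m = true → d * e n * d⁻¹ = e n := by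
    intro n hn hn0 hnm
    cases hY' : inY m q n with
    | true => exact hYf n hn hY'
    | false =>
      obtain ⟨k, hk, hk0, hke⟩ := h.conj_code d hn hn0
      have hkY : inY m q k = false := by
        by_contra hcon
        rw [Bool.not_eq_false] at hcon
        have h1 := hYf k hk hcon
        have h2 : e k = e n := mul_left_cancel (mul_right_cancel (h1.trans hke))
        rw [(h.c.eq_iff hk hn).1 h2] at hcon
        rw [hcon] at hY'
        exact Bool.noConfusion hY'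
      exact step n hn k hk hke hk0 hn0 (hYf _ (mM_lt _ _)
        (hY ⟨k, hk⟩ ⟨n, hn⟩ hk0 ((hcomm n hn k hk hke).trans hnm) hkY hn0 hnm hY'))
  have hall : ∀ x ∈ h.c.sQ, d * x * d⁻¹ = x := by
    rintro _ ⟨n, hn, hn0, rfl⟩
    cases hnm : comM n m with
    | true => exact hC n hn hn0 hnm
    | false =>
      obtain ⟨k, hk, hk0, hke⟩ := h.conj_code d hn hn0
      refine step n hn k hk hke hk0 hn0 (hC _ (mM_lt _ _) ?_ ?_)
      · have := h.c.sQ.mul_mem ((h.c.e_mem_sQ hk).2 hk0) (h.c.sQ.inv_mem ((h.c.e_mem_sQ hn).2 hn0))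
        rwa [h.c.inv hn, h.c.mul k hk _ (iM_lt n), h.c.e_mem_sQ (mM_lt _ _)] at this
      · exact coset_ok ⟨m, hm⟩ ⟨k, hk⟩ ⟨n, hn⟩ hmq hk0 hn0 ((hcomm n hn k hk hke).trans hnm) hnm
  haveI := h.sol
  haveI : Fact (Nat.Prime 2) := ⟨Nat.prime_two⟩
  refine h.eq_one_of_three (h.rad ▸ Grp.centralizer_pCore_le h.odd ?_) hd
  rw [mem_centralizer_iff]
  intro x hx
  exact (mul_inv_eq_iff_eq_mul.1 (hall x (h.rad ▸ hx))).symm

/-- The outer involution. -/
theorem sigma_mod {q : X} (hq : q ∈ h.c.sQ) : ∃ n < 16, oddM n = false ∧ e 1 * q * (e 1)⁻¹ * q⁻¹ = e n := by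
  obtain ⟨m, hm, hm0, rfl⟩ := hq
  obtain ⟨h1, h2⟩ := sigma_comm ⟨m, hm⟩ hm0
  exact ⟨_, h1, h2, h.toLocal.comm_code (by norm_num) hm⟩

theorem invQ_of_E {n : ℕ} (hn : n < 16) (h0 : oddM n = false) (hZ : e n ∉ h.toLocal.Zset) : invQ n = true := by
  have h1 : n ≠ 0 := fun e1 => hZ (h.toLocal.mem_Z_of_code (Or.inl e1))
  have h2 : n ≠ 15 := fun e1 => hZ (h.toLocal.mem_Z_of_code (Or.inr e1))
  simp only [invQ, Bool.and_eq_true, Bool.not_eq_true', beq_iff_eq, beq_eq_false_iff_ne]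
  exact ⟨⟨⟨h0, sq_E ⟨n, hn⟩⟩, h1⟩, h2⟩

/-- If the outer involution normalises `⟨d⟩ Q` then `d` fixes only `z`. -/
theorem fpf {d : X} (hd : d ^ 3 = 1) (hd1 : d ≠ 1) {q1 : X} (hq1 : q1 ∈ h.c.sQ) {i : ℕ}
    (hi : i = 1 ∨ i = 2) (hσ : e 1 * d * (e 1)⁻¹ = d ^ i * q1) {q : X} (hq : q ∈ h.c.sQ)
    (hdq : d * q * d⁻¹ = q) : q ∈ h.toLocal.Zset := by
  by_contra hqZ
  obtain ⟨x, hx⟩ : ∃ x, x = e 1 * q * (e 1)⁻¹ := ⟨_, rfl⟩
  obtain ⟨n, hn, hn0, hne⟩ := h.sigma_mod hq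
  have hnQ : e n ∈ h.c.sQ := (h.c.e_mem_sQ (by omega)).2 hn0
  have hxn : x = e n * q := by rw [hx, ← hne, inv_mul_cancel_right]
  have hxQ : x ∈ h.c.sQ := hxn ▸ mul_mem hnQ hq
  have h1 : d ^ i * q1 * x * (d ^ i * q1)⁻¹ = x := by
    rw [← hσ, hx]
    calc _ = e 1 * (d * q * d⁻¹) * (e 1)⁻¹ := by group
      _ = _ := by rw [hdq]
  obtain ⟨w, hw⟩ : ∃ w, w = q1 * x * q1⁻¹ * x⁻¹ := ⟨_, rfl⟩
  have hwZ : w ∈ h.toLocal.Zset := hw ▸ h.Q_mod hq1 hxQ
  have hdi : (d ^ i) ^ 3 = 1 := by rw [← pow_mul, mul_comm, pow_mul, hd, one_pow]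
  have h2 : d ^ i * x * (d ^ i)⁻¹ = x := by
    refine h.fix_of_shift hdi (inv_mem (h.Z_le_Q hwZ)) (h.fix_Z (inv_mem hwZ)) ?_
    have h3 : w * (d ^ i * x * (d ^ i)⁻¹) = x := by
      calc w * (d ^ i * x * (d ^ i)⁻¹) = d ^ i * w * (d ^ i)⁻¹ * (d ^ i * x * (d ^ i)⁻¹) := by rw [h.fix_Z hwZ]
        _ = d ^ i * q1 * x * (d ^ i * q1)⁻¹ := by rw [hw]; group
        _ = x := h1
    calc _ = w⁻¹ * (w * (d ^ i * x * (d ^ i)⁻¹)) := by group
      _ = _ := by rw [h3]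
  have hdx : d * x * d⁻¹ = x := by
    rcases hi with rfl | rfl
    · simpa using h2
    · have h4 : d = d ^ 2 * d ^ 2 := by rw [← pow_add, pow_succ, hd, one_mul]
      conv_lhs => rw [h4]
      calc _ = d ^ 2 * (d ^ 2 * x * (d ^ 2)⁻¹) * (d ^ 2)⁻¹ := by group
        _ = _ := by rw [h2, h2]
  have hdn : d * e n * d⁻¹ = e n := by
    rw [show e n = x * q⁻¹ by rw [hxn, mul_inv_cancel_right]]
    calc d * (x * q⁻¹) * d⁻¹ = d * x * d⁻¹ * (d * q * d⁻¹)⁻¹ := by group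
      _ = _ := by rw [hdx, hdq]
  by_cases hnZ : e n ∈ h.toLocal.Zset
  · obtain ⟨m, hm, hm0, rfl⟩ := hq
    have h5 : mM (cM 1 m) (iM m) = 0 ∨ mM (cM 1 m) (iM m) = 15 := by
      have := h.toLocal.comm_code (m := 1) (by norm_num) hm
      rw [hne] at this
      exact h.toLocal.code_of_mem_Z (mM_lt _ _) (this ▸ hnZ)
    exact hd1 (h.no_fix hd hm (h.invQ_of_E (sigma_fix ⟨m, hm⟩ hm0 h5) hm0 hqZ) hdq)
  · exact hd1 (h.no_fix hd (by omega) (h.invQ_of_E hn hn0 hnZ) hdn)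

/-- An inverted element of order three moves `ω`. -/
theorem inv_moves {d : X} (hd : d ^ 3 = 1) (hd1 : d ≠ 1) {q1 : X} (hq1 : q1 ∈ h.c.sQ)
    (hσ : e 1 * d * (e 1)⁻¹ = d ^ 2 * q1) {m k : ℕ} (hm : m < 16) (hm0 : oddM m = false)
    (hmZ : e m ∉ h.toLocal.Zset) (hke : e k = d * e m * d⁻¹) : 16 ≤ k := by
  by_contra hk
  push Not at hk
  have hmQ : e m ∈ h.c.sQ := (h.c.e_mem_sQ (by omega)).2 hm0
  obtain ⟨w, hw⟩ : ∃ w, w = e 1 * e m * (e 1)⁻¹ * (e m)⁻¹ := ⟨_, rfl⟩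
  obtain ⟨w', hw'⟩ : ∃ w', w' = e 1 * e k * (e 1)⁻¹ * (e k)⁻¹ := ⟨_, rfl⟩
  have hone : ∀ n < 16, e 1 * e n * (e 1)⁻¹ * (e n)⁻¹ = 1 := fun n hn => by
    rw [(h.c.comm_iff (by norm_num) (by omega)).2 (comm_E ⟨1, by norm_num⟩ ⟨n, hn⟩)]
    group
  obtain ⟨x, hx⟩ : ∃ x, x = q1 * e m * q1⁻¹ * (e m)⁻¹ := ⟨_, rfl⟩
  have hxZ : x ∈ h.toLocal.Zset := hx ▸ h.Q_mod hq1 hmQ
  have hσm : e 1 * e m * (e 1)⁻¹ = e m := mul_inv_eq_one.1 (hone m hm)
  have hσk : e 1 * e k * (e 1)⁻¹ = e k := mul_inv_eq_one.1 (hone k hk)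
  have h1 : d * e m * d⁻¹ = x * (d ^ 2 * e m * (d ^ 2)⁻¹) := by
    calc d * e m * d⁻¹ = e 1 * (d * e m * d⁻¹) * (e 1)⁻¹ := by rw [← hke, hσk]
      _ = e 1 * d * (e 1)⁻¹ * (e 1 * e m * (e 1)⁻¹) * (e 1 * d * (e 1)⁻¹)⁻¹ := by group
      _ = d ^ 2 * (q1 * e m * q1⁻¹) * (d ^ 2)⁻¹ := by rw [hσ, hσm]; group
      _ = d ^ 2 * x * (d ^ 2)⁻¹ * (d ^ 2 * e m * (d ^ 2)⁻¹) := by rw [hx]; group
      _ = _ := by rw [h.fix_Z hxZ]
  refine hd1 (h.no_fix hd (by omega) (h.invQ_of_E hm hm0 hmZ) ?_)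
  refine h.fix_of_shift hd (inv_mem (h.Z_le_Q hxZ)) (h.fix_Z (inv_mem hxZ)) ?_
  calc d * e m * d⁻¹ = x⁻¹ * (d⁻¹ * (x * (d ^ 2 * e m * (d ^ 2)⁻¹)) * d) := by
        rw [show d⁻¹ * (x * (d ^ 2 * e m * (d ^ 2)⁻¹)) * d = d⁻¹ * x * d * (d * e m * d⁻¹) by
              simp only [pow_two, mul_inv_rev, mul_assoc, mul_inv_cancel_left, inv_mul_cancel_left, inv_mul_cancel, mul_one],
          show d⁻¹ * x * d = d⁻¹ * x * (d⁻¹)⁻¹ by group, h.fix_Z hxZ]
        group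
    _ = x⁻¹ * e m := by rw [← h1]; group

/-- The column of a pair: an inverted element of order three carries `u_v` out of `ω` within the column. -/
theorem col {d : X} (hd : d ^ 3 = 1) (hd1 : d ≠ 1) {q1 : X} (hq1 : q1 ∈ h.c.sQ)
    (hσ : e 1 * d * (e 1)⁻¹ = d ^ 2 * q1) {v : ℕ} (hv : vOk v) :
    ∃ k < 64, 16 ≤ k ∧ inL v k = true ∧ vP k = v ∧ mM k k = 0 ∧ e k = d * e (uM v) * d⁻¹ ∧
      ∃ j < 64, inL v j = true ∧ e j = d * e k * d⁻¹ := by
  obtain ⟨hu, hu0, hu1, hu15⟩ := vOk_uM hv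
  have huZ : e (uM v) ∉ h.toLocal.Zset := fun hh =>
    (h.toLocal.code_of_mem_Z (by omega) hh).elim hu1 hu15
  have husq : mM (uM v) (uM v) = 0 := sq_E ⟨_, hu⟩
  obtain ⟨k, hk, hk0, hke⟩ := h.conj_code d (show uM v < 64 by omega) hu0
  obtain ⟨j, hj, hj0, hje⟩ := h.conj_code d hk hk0
  have hkk := h.sq_conj (by omega) hk hke (Or.inl rfl) husq
  have hjj := h.sq_conj hk hj hje (Or.inl rfl) hkk
  have hk16 := h.inv_moves hd hd1 hq1 hσ hu hu0 huZ hke
  set u := e (uM v)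
  have huQ : u ∈ h.c.sQ := (h.c.e_mem_sQ (by omega)).2 hu0
  have hkQ : e k ∈ h.c.sQ := (h.c.e_mem_sQ hk).2 hk0
  have hjQ : e j ∈ h.c.sQ := (h.c.e_mem_sQ hj).2 hj0
  obtain ⟨p, hp⟩ : ∃ p, p = u * e k * e j := ⟨_, rfl⟩
  have hpQ : p ∈ h.c.sQ := hp ▸ mul_mem (mul_mem huQ hkQ) hjQ
  have hju : d * e j * d⁻¹ = u := by
    rw [hje, hke, show d * (d * (d * u * d⁻¹) * d⁻¹) * d⁻¹ = d ^ 3 * u * (d ^ 3)⁻¹ by
      simp only [pow_succ, pow_zero, one_mul, mul_inv_rev, mul_assoc], hd]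
    group
  obtain ⟨w, hw⟩ : ∃ w, w = e k * e j * u * (e k * e j)⁻¹ * u⁻¹ := ⟨_, rfl⟩
  have hwZ : w ∈ h.toLocal.Zset := hw ▸ h.Q_mod (mul_mem hkQ hjQ) huQ
  have hdp : d * p * d⁻¹ = w * p := by
    rw [hp, show d * (u * e k * e j) * d⁻¹ = d * u * d⁻¹ * (d * e k * d⁻¹) * (d * e j * d⁻¹) by group,
      ← hke, ← hje, hju, hw]
    group
  have hpZ := h.fpf hd hd1 hq1 (Or.inr rfl) hσ hpQ
    (h.fix_of_shift hd (h.Z_le_Q hwZ) (h.fix_Z hwZ) hdp)
  have hp2 : p * p = 1 := by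
    rcases h.toLocal.mem_Z.1 hpZ with e1 | e1 <;> rw [e1]
    · exact one_mul 1
    · exact h.c.z_sq
  have hu2 : u * u = 1 := h.c.E_sq hu
  have hk2 : e k * e k = 1 := (h.c.sq_iff hk).2 hkk
  have hj2 : e j * e j = 1 := (h.c.sq_iff hj).2 hjj
  have hjp : e j = e k * u * p := by
    calc e j = (e k * e k) * e j := by rw [hk2, one_mul]
      _ = e k * (u * u) * (e k * e j) := by rw [hu2]; group
      _ = _ := by rw [hp]; group
  have hcm : u * e k = e k * u := by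
    have h1 : e k * u * (e k * u) = 1 := by
      have hpc : Commute p (e k * u) := by
        show p * (e k * u) = e k * u * p
        have := h.toLocal.Z_conj (e k * u) hpZ
        exact (mul_inv_eq_iff_eq_mul.1 this).symm
      have h2 : e k * u * p * (e k * u * p) = 1 := by rw [← hjp]; exact hj2
      calc e k * u * (e k * u) = e k * u * (e k * u) * (p * p) := by rw [hp2, mul_one]
        _ = e k * u * ((e k * u) * p) * p := by group
        _ = e k * u * (p * (e k * u)) * p := by rw [hpc.eq]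
        _ = 1 := by rw [← h2]; group
    calc u * e k = (e k * e k) * (u * e k) * (u * u) := by rw [hk2, hu2, one_mul, mul_one]
      _ = e k * (e k * u * (e k * u)) * u := by group
      _ = _ := by rw [h1, mul_one]
  have hvk := uM_comm ⟨v, hv.2⟩ hv.1 ⟨k, hk⟩ hk16 hk0 hkk ((h.c.comm_iff (m := uM v) (by omega) hk).1 hcm)
  have hkL : inL v k = true := by
    have hb : Nat.ble 16 k = true := Nat.ble_eq ▸ hk16
    simp only [inL, hkk, hvk, hb, beq_self_eq_true, Bool.and_true, Bool.or_true]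
  have huL : inL v (uM v) = true := by
    simp only [inL, husq, beq_self_eq_true, Bool.true_and, Bool.or_true, Bool.true_or]
  refine ⟨k, hk, hk16, hkL, hvk, hkk, hke, j, hj, ?_, hje⟩
  obtain ⟨pc, hpc, hpc', hpe⟩ : ∃ pc, pc < 64 ∧ inL v pc = true ∧ e pc = p := by
    rcases h.toLocal.mem_Z.1 hpZ with e1 | e1
    · exact ⟨0, by norm_num, by simp [inL, show mM 0 0 = 0 by decide], by rw [h.c.zero, e1]⟩
    · exact ⟨15, by norm_num, by simp [inL, show mM 15 15 = 0 by decide], e1.symm⟩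
  rw [← hpe, h.c.mul k hk _ (by omega), h.c.mul _ (mM_lt _ _) pc hpc] at hjp
  rw [(h.c.eq_iff hj (mM_lt _ _)).1 hjp]
  exact (L_ok ⟨v, hv.2⟩ hv.1 ⟨_, mM_lt _ _⟩ ⟨pc, hpc⟩ (L_ok ⟨v, hv.2⟩ hv.1 ⟨k, hk⟩ ⟨uM v, (by omega : uM v < 64)⟩ hkL huL).1 hpc').1

/-- Such an element preserves the column. -/
theorem col_inv {d : X} (hd : d ^ 3 = 1) (hd1 : d ≠ 1) {q1 : X} (hq1 : q1 ∈ h.c.sQ)
    (hσ : e 1 * d * (e 1)⁻¹ = d ^ 2 * q1) {v : ℕ} (hv : vOk v) {n : ℕ} (hn : n < 64) (hnL : inL v n = true) :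
    ∃ n' < 64, inL v n' = true ∧ e n' = d * e n * d⁻¹ := by
  obtain ⟨k, hk, hk16, hkL, -, -, hke, j, hj, hjL, hje⟩ := h.col hd hd1 hq1 hσ hv
  obtain ⟨hu, -, -, -⟩ := vOk_uM hv
  have hL15 : inL v 15 = true := by simp [inL, show mM 15 15 = 0 by decide]
  have hL0 : inL v 0 = true := by simp [inL, show mM 0 0 = 0 by decide]
  have hzw : ∀ a < 64, inZw (uM v) a = true → ∃ a' < 64, inL v a' = true ∧ e a' = d * e a * d⁻¹ := by
    intro a ha ha'
    simp only [inZw, Bool.or_eq_true, beq_iff_eq] at ha'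
    rcases ha' with ((rfl | rfl) | rfl) | rfl
    · exact ⟨0, ha, hL0, (h.fix_Z (h.toLocal.mem_Z_of_code (Or.inl rfl))).symm⟩
    · exact ⟨15, ha, hL15, (h.fix_Z (h.toLocal.mem_Z_of_code (Or.inr rfl))).symm⟩
    · exact ⟨k, hk, hkL, hke⟩
    · refine ⟨mM k 15, mM_lt _ _, (L_ok ⟨v, hv.2⟩ hv.1 ⟨k, hk⟩ ⟨15, by norm_num⟩ hkL hL15).1, ?_⟩
      rw [← h.c.mul k hk 15 (by norm_num), ← h.c.mul (uM v) (by omega) 15 (by norm_num), hke,
        show d * (e (uM v) * e 15) * d⁻¹ = d * e (uM v) * d⁻¹ * (d * e 15 * d⁻¹) by group,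
        h.fix_Z (h.toLocal.mem_Z_of_code (Or.inr rfl))]
  rcases L_gen ⟨v, hv.2⟩ hv.1 ⟨k, hk⟩ ⟨n, hn⟩ hk16 hkL hnL with e1 | e1
  · exact hzw n hn e1
  · obtain ⟨a', ha', haL, hae⟩ := hzw _ (mM_lt _ _) e1
    refine ⟨mM a' j, mM_lt _ _, (L_ok ⟨v, hv.2⟩ hv.1 ⟨a', ha'⟩ ⟨j, hj⟩ haL hjL).1, ?_⟩
    rw [← h.c.mul a' ha' j hj, hae, hje, ← h.c.mul n hn _ (iM_lt k), ← h.c.inv hk]
    group

/-- All four involutions of a coset are conjugates of `u_v`. -/
theorem conj_coset {d : X} (hd : d ^ 3 = 1) (hd1 : d ≠ 1) {q1 : X} (hq1 : q1 ∈ h.c.sQ)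
    (hσ : e 1 * d * (e 1)⁻¹ = d ^ 2 * q1) {v : ℕ} (hv : vOk v) {m : ℕ} (hm : m < 64) (hm16 : 16 ≤ m)
    (hmm : mM m m = 0) (hmv : vP m = v) : ∃ x : X, x * e (uM v) * x⁻¹ = e m := by
  obtain ⟨k, hk, hk16, -, hkv, hkk, hke, -⟩ := h.col hd hd1 hq1 hσ hv
  obtain ⟨t, ht⟩ := coset_conj ⟨k, hk⟩ ⟨m, hm⟩ hk16 hm16 hkk hmm (hkv.trans hmv.symm)
  refine ⟨e t * d, ?_⟩
  rw [show e t * d * e (uM v) * (e t * d)⁻¹ = e t * (d * e (uM v) * d⁻¹) * (e t)⁻¹ by group, ← hke,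
    h.c.conj t.2 hk]
  exact congrArg e ht

end LocalQ

end Cfsg.Agent.Transfer.AEightSolv
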