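import Cfsg.Agent.Lib.Transfer.AEightSolv.Global
import Cfsg.Agent.Lib.Transfer.AEightSolv.Gold
import Cfsg.Agent.S0215
import Mathlib.GroupTheory.Transfer

/-!
# Fusion of involutions when the radical is `Q`: the orbit of `z` in `E`
-/

set_option autoImplicit false
set_option linter.style.haveILetI false
set_option linter.unusedSectionVars false
set_option maxRecDepth 100000

namespace Cfsg.Agent.Transfer.AEightSolv

open Subgroup Cfsg.Agent.Grp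

universe u

theorem vP_range : ∀ n : Fin 64, 16 ≤ (n : ℕ) → 1 ≤ vP n ∧ vP n < 4 := by decide +kernel

theorem E_cases : ∀ m : Fin 16, (m : ℕ) ≠ 0 → (m : ℕ) = 15 ∨
    (∃ v : Fin 4, 1 ≤ (v : ℕ) ∧ ((m : ℕ) = uM v ∨ (m : ℕ) = mM (uM v) 15)) ∨
    (∃ s : Fin 64, cM s 1 = m) ∨ ∃ s : Fin 64, cM s 7 = m := by
  decide +kernel

theorem cM_E : ∀ s : Fin 64, ∀ m : Fin 16, cM s m < 16 := by decide +kernel

theorem fixed_common : ∀ m : Fin 16, (∀ s : Fin 64, comM s m = true) → (m : ℕ) = 0 ∨ (m : ℕ) = 15 := by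
  decide +kernel

/-- The three possible shapes of the orbit. -/
def orbM (p1 p2 p3 a b : Bool) (m : ℕ) : Bool :=
  m == 15 || (p1 && (m == 3 || m == 12)) || (p2 && (m == 5 || m == 10)) || (p3 && (m == 9 || m == 6)) ||
    (a && (m == 1 || m == 2 || m == 4 || m == 8)) || (b && (m == 7 || m == 11 || m == 13 || m == 14))

/-- the size of the orbit -/
def orbN (p1 p2 p3 a b : Bool) : ℕ := (Finset.univ.filter fun m : Fin 16 => orbM p1 p2 p3 a b m = true).card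

/-- A self-normalising abelian Sylow 2-subgroup has a normal odd complement. -/
theorem exists_complement {H : Type*} [Group H] [Finite H] (V : Subgroup H) (hV : IsPGroup 2 V)
    (hidx : ¬ 2 ∣ V.index) (hab : ∀ a ∈ V, ∀ b ∈ V, a * b = b * a) (hN : ∀ n ∈ normalizer (V : Set H), n ∈ V) :
    ∃ D : Subgroup H, D.Normal ∧ Odd (Nat.card D) ∧ Nat.card D * Nat.card V = Nat.card H := by
  haveI : Fact (Nat.Prime 2) := ⟨Nat.prime_two⟩
  let P : Sylow 2 H := hV.toSylow hidx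
  have hP : normalizer ((P : Subgroup H) : Set H) ≤ centralizer ((P : Subgroup H) : Set H) := fun n hn =>
    mem_centralizer_iff.2 fun a ha => hab a ha n (hN n hn)
  have hc : IsComplement' (MonoidHom.transferSylow P hP).ker V := MonoidHom.ker_transferSylow_isComplement' P hP
  refine ⟨_, inferInstance, ?_, hc.card_mul_card⟩
  rw [← hc.index_eq_card]
  exact Nat.not_even_iff_odd.1 fun h => hidx (even_iff_two_dvd.1 h)

namespace Ctx

variable {G : Type u} [Group G] [Finite G] {S : Sylow 2 G} {e : ℕ → G} (h : Ctx G S e)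
include h

/-- the code of a conjugate of `z` -/
def IsO (_h : Ctx G S e) (m : ℕ) : Prop := ∃ g : G, g * e 15 * g⁻¹ = e m

theorem O_self : h.IsO 15 := ⟨1, by group⟩

theorem O_ne {m : ℕ} (hm : h.IsO m) : e m ≠ 1 := by
  obtain ⟨g, hg⟩ := hm
  rw [← hg]
  exact fun e => h.c.z_ne (conj_eq_one_iff.1 e)

theorem O_conj {s m : ℕ} (hs : s < 64) (hm : m < 64) (hmO : h.IsO m) : h.IsO (cM s m) := by
  obtain ⟨g, hg⟩ := hmO
  refine ⟨e s * g, ?_⟩
  rw [show e s * g * e 15 * (e s * g)⁻¹ = e s * (g * e 15 * g⁻¹) * (e s)⁻¹ by group, hg, h.c.conj hs hm]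

theorem O_conj_iff {s m : ℕ} (hs : s < 64) (hm : m < 64) : h.IsO (cM s m) ↔ h.IsO m := by
  refine ⟨fun ⟨g, hg⟩ => ⟨(e s)⁻¹ * g, ?_⟩, h.O_conj hs hm⟩
  rw [show (e s)⁻¹ * g * e 15 * ((e s)⁻¹ * g)⁻¹ = (e s)⁻¹ * (g * e 15 * g⁻¹) * e s by group, hg, ← h.c.conj hs hm]
  group

/-- whether the code is in the orbit -/
noncomputable def oB (hctx : Ctx G S e) (m : ℕ) : Bool := @decide (hctx.IsO m) (Classical.propDecidable _)

theorem oB_iff {m : ℕ} : h.oB m = true ↔ h.IsO m := by simp [oB]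

theorem orb_iff {m : ℕ} (hm : m < 16) :
    h.IsO m ↔ orbM (h.oB 3) (h.oB 5) (h.oB 9) (h.oB 1) (h.oB 7) m = true := by
  have hpair : ∀ v : Fin 4, 1 ≤ (v : ℕ) → (h.IsO (mM (uM v) 15) ↔ h.IsO (uM v)) := by
    intro v hv
    obtain ⟨t, ht, -⟩ := pair_swap v hv
    rw [← ht]
    exact h.O_conj_iff t.2 (by obtain ⟨hu, -⟩ := vOk_uM (v := (v : ℕ)) ⟨hv, v.2⟩; omega)
  by_cases hm0 : m = 0
  · subst hm0
    refine ⟨fun h0 => absurd h.c.zero (h.O_ne h0), fun h0 => ?_⟩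
    simp [orbM] at h0
  rcases E_cases ⟨m, hm⟩ hm0 with e | ⟨v, hv, e⟩ | ⟨s, e⟩ | ⟨s, e⟩
  · simp only at e
    subst e
    exact ⟨fun _ => by simp [orbM], fun _ => h.O_self⟩
  · simp only at e
    have h1 : h.IsO m ↔ h.oB (uM v) = true := by
      rw [oB_iff]
      rcases e with e | e <;> rw [e]
      exact hpair v hv
    rw [h1]
    have key : ∀ v : Fin 4, 1 ≤ (v : ℕ) → ∀ p1 p2 p3 a b : Bool,
        (orbM p1 p2 p3 a b (uM v) = if (v : ℕ) = 1 then p1 else if (v : ℕ) = 2 then p2 else p3) ∧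
        orbM p1 p2 p3 a b (mM (uM v) 15) = if (v : ℕ) = 1 then p1 else if (v : ℕ) = 2 then p2 else p3 := by
      decide +kernel
    obtain ⟨k1, k2⟩ := key v hv (h.oB 3) (h.oB 5) (h.oB 9) (h.oB 1) (h.oB 7)
    have h2 : h.oB (uM v) = if (v : ℕ) = 1 then h.oB 3 else if (v : ℕ) = 2 then h.oB 5 else h.oB 9 := by
      have hv4 := v.2
      interval_cases hvv : (v : ℕ) <;> simp [uM]
    rcases e with e | e <;> subst e <;> simp only [k1, k2, h2]
  · simp only at e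
    have h1 : h.IsO m ↔ h.oB 1 = true := by rw [oB_iff, ← e, h.O_conj_iff s.2 (by norm_num)]
    rw [h1]
    have key : ∀ s : Fin 64, ∀ p1 p2 p3 a b : Bool, orbM p1 p2 p3 a b (cM s 1) = a := by decide +kernel
    rw [← e, key]
  · simp only at e
    have h1 : h.IsO m ↔ h.oB 7 = true := by rw [oB_iff, ← e, h.O_conj_iff s.2 (by norm_num)]
    rw [h1]
    have key : ∀ s : Fin 64, ∀ p1 p2 p3 a b : Bool, orbM p1 p2 p3 a b (cM s 7) = b := by decide +kernel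
    rw [← e, key]

theorem norm_code {n : G} (hn : n ∈ normalizer (h.c.sE : Set G)) {m : ℕ} (hm : m < 16) :
    ∃ k < 16, e k = n * e m * n⁻¹ :=
  (mem_normalizer_iff.1 hn (e m)).1 ⟨m, hm, rfl⟩

theorem O_norm {n : G} {m k : ℕ} (hk : e k = n * e m * n⁻¹) (hm : h.IsO m) : h.IsO k := by
  obtain ⟨g, hg⟩ := hm
  exact ⟨n * g, by rw [hk, ← hg]; group⟩

theorem O_transitive {m : ℕ} (hm : m < 16) (hmO : h.IsO m) :
    ∃ n ∈ normalizer (h.c.sE : Set G), n * e 15 * n⁻¹ = e m := by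
  obtain ⟨g, hg⟩ := hmO
  obtain ⟨n, -, hn, hne⟩ := h.fusion_E le_top (mem_top g) (show e 15 ∈ h.c.sE from ⟨15, by norm_num, rfl⟩)
    (by rw [hg]; exact ⟨m, hm, rfl⟩)
  exact ⟨n, hn, hne.trans hg⟩

/-- the automorphisms of `E` induced by its normaliser -/
def autE (_h : Ctx G S e) : Subgroup (MulAut ↥_h.c.sE) := (_h.c.sE.normalizerMonoidHom).range

/-- the automorphisms induced by `S` -/
def autS (_h : Ctx G S e) : Subgroup (MulAut ↥_h.c.sE) :=
  (((S : Subgroup G).subgroupOf (normalizer (_h.c.sE : Set G))).map _h.c.sE.normalizerMonoidHom)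

theorem autS_le : h.autS ≤ h.autE := fun _ ⟨y, _, hy⟩ => ⟨y, hy⟩

theorem hom_eq_one {n : ↥(normalizer (h.c.sE : Set G))} :
    h.c.sE.normalizerMonoidHom n = 1 ↔ ∀ a ∈ h.c.sE, (n : G) * a = a * n := by
  rw [← MonoidHom.mem_ker, normalizerMonoidHom_ker, mem_subgroupOf, mem_centralizer_iff]
  exact ⟨fun h1 a ha => (h1 a ha).symm, fun h1 a ha => (h1 a ha).symm⟩

theorem autS_card : Nat.card ↥h.autS = 4 := by
  rw [autS, ← relIndex_ker _ h.c.sE.normalizerMonoidHom, ← inf_relIndex_right,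
    show h.c.sE.normalizerMonoidHom.ker ⊓ (S : Subgroup G).subgroupOf (normalizer (h.c.sE : Set G)) =
      h.c.sE.subgroupOf (normalizer (h.c.sE : Set G)) ⊓ (S : Subgroup G).subgroupOf (normalizer (h.c.sE : Set G)) from by
    ext b
    simp only [mem_inf, MonoidHom.mem_ker, mem_subgroupOf]
    refine ⟨fun h1 => ⟨?_, h1.2⟩, fun h1 => ⟨h.hom_eq_one.2 fun a ha => h.c.sE_comm h1.1 ha, h1.2⟩⟩
    obtain ⟨n, hn, hne⟩ := (h.c.mem (b : G)).1 h1.2
    by_contra hE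
    obtain ⟨m, -, hmc⟩ := cent_om ⟨n, hn⟩ (Nat.le_of_not_lt fun hlt => hE (hne ▸ ⟨n, hlt, rfl⟩))
    have h2 := (h.c.comm_iff hn (show (m : ℕ) < 64 by omega)).1 (by rw [hne]; exact h.hom_eq_one.1 h1.1 _ ⟨m, m.2, rfl⟩)
    rw [h2] at hmc
    exact Bool.noConfusion hmc,
    inf_relIndex_right, relIndex_subgroupOf h.S_le_norm]
  have h1 := card_mul_relIndex h.c.sE_le
  rw [h.c.sE_card, h.c.card] at h1
  omega

theorem autS_mem {v : MulAut ↥h.c.sE} (hv : v ∈ h.autS) : ∃ s < 64, ∀ m, ∀ hm : m < 16,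
    ((v ⟨e m, m, hm, rfl⟩ : ↥h.c.sE) : G) = e (cM s m) := by
  obtain ⟨b, hb, rfl⟩ := hv
  obtain ⟨s, hs, hse⟩ := (h.c.mem _).1 (mem_subgroupOf.1 hb)
  refine ⟨s, hs, fun m hm => ?_⟩
  show (b : G) * e m * (b : G)⁻¹ = _
  rw [← hse, h.c.conj hs (show m < 64 by omega)]

theorem autS_sq {v : MulAut ↥h.c.sE} (hv : v ∈ h.autS) : v * v = 1 := by
  obtain ⟨b, hb, rfl⟩ := hv
  obtain ⟨s, hs, hse⟩ := (h.c.mem _).1 (mem_subgroupOf.1 hb)
  rw [← map_mul, h.hom_eq_one]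
  intro a ha
  refine h.c.sE_comm ?_ ha
  show (b : G) * b ∈ h.c.sE
  rw [← hse, h.c.mul s hs s hs]
  exact ⟨_, sq_ok ⟨s, hs⟩, rfl⟩

theorem autS_comm {v w : MulAut ↥h.c.sE} (hv : v ∈ h.autS) (hw : w ∈ h.autS) : v * w = w * v := by
  calc v * w = (v * w)⁻¹ := (inv_eq_of_mul_eq_one_right (h.autS_sq (mul_mem hv hw))).symm
    _ = _ := by rw [mul_inv_rev, inv_eq_of_mul_eq_one_right (h.autS_sq hv), inv_eq_of_mul_eq_one_right (h.autS_sq hw)]

/-- `z` as an element of `E` -/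
def zE (_h : Ctx G S e) : ↥_h.c.sE := ⟨e 15, 15, by norm_num, rfl⟩

theorem autS_fix {v : MulAut ↥h.c.sE} (hv : v ∈ h.autS) : v h.zE = h.zE := by
  obtain ⟨b, hb, rfl⟩ := hv
  exact Subtype.ext (mul_inv_eq_iff_eq_mul.2 (h.c.z_central (mem_subgroupOf.1 hb)))

theorem autS_fixed {v : MulAut ↥h.c.sE} (hv : v ∈ h.autS) (hv1 : v ≠ 1) :
    ∃ f : Finset ↥h.c.sE, f.card ≤ 4 ∧ ∀ y, v y = y → y ∈ f := by
  classical
  obtain ⟨b, hb, rfl⟩ := hv
  obtain ⟨n, hn, hne⟩ := (h.c.mem _).1 (mem_subgroupOf.1 hb)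
  have hn16 : 16 ≤ n := by
    by_contra hlt
    refine hv1 (h.hom_eq_one.2 fun a ha => h.c.sE_comm ?_ ha)
    exact hne ▸ ⟨n, Nat.lt_of_not_le hlt, rfl⟩
  have hout : ∀ n : Fin 64, 16 ≤ (n : ℕ) → (Finset.univ.filter fun m : Fin 16 => comM n m = true).card ≤ 4 := by
    decide +kernel
  refine ⟨(Finset.univ.filter fun m : Fin 16 => comM n m = true).image fun m : Fin 16 => (⟨e m, m, m.2, rfl⟩ : ↥h.c.sE),
    Finset.card_image_le.trans (hout ⟨n, hn⟩ hn16), fun y hy => ?_⟩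
  obtain ⟨m, hm, hme⟩ := y.2
  refine Finset.mem_image.2 ⟨⟨m, hm⟩, Finset.mem_filter.2 ⟨Finset.mem_univ _,
    (h.c.comm_iff hn (show m < 64 by omega)).1 ?_⟩, Subtype.ext hme⟩
  rw [hne, hme]
  exact mul_inv_eq_iff_eq_mul.1 (congrArg Subtype.val hy)

theorem autE_dvd : Nat.card ↥h.autE ∣ 20160 := by
  have h1 := card_mulAut_elementary (M := ↥h.c.sE) (fun a => Subtype.ext (by
    show (a : G) * a = 1
    rw [← pow_two]; exact h.c.sE_elem.2 _ a.2)) (k := 4) h.c.sE_card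
  rw [show (∏ i : Fin 4, (2 ^ 4 - 2 ^ (i : ℕ))) = 20160 by decide] at h1
  exact h1 ▸ card_subgroup_dvd_card _

theorem autS_odd_index : ¬ 2 ∣ h.autS.relIndex h.autE := by
  haveI : Fact (Nat.Prime 2) := ⟨Nat.prime_two⟩
  intro hd
  have h1 : h.autS.relIndex h.autE ∣ ((S : Subgroup G).subgroupOf (normalizer (h.c.sE : Set G))).index := by
    rw [autS, autE, MonoidHom.range_eq_map, ← relIndex_comap, comap_map_eq]
    exact (relIndex_top_right _).dvd.trans (index_dvd_of_le le_sup_left)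
  exact (S.subtype h.S_le_norm).not_dvd_index (hd.trans h1)

/-- The orbit of `z` has the computed size. -/
theorem orbit_card : Nat.card (MulAction.orbit ↥h.autE h.zE) = orbN (h.oB 3) (h.oB 5) (h.oB 9) (h.oB 1) (h.oB 7) := by
  classical
  rw [orbN, ← Nat.card_eq_finsetCard]
  refine (Nat.card_eq_of_bijective (fun m : {m // m ∈ Finset.univ.filter fun m : Fin 16 =>
    orbM (h.oB 3) (h.oB 5) (h.oB 9) (h.oB 1) (h.oB 7) m = true} =>
    (⟨⟨e m.1, m.1, m.1.2, rfl⟩, ?_⟩ : MulAction.orbit ↥h.autE h.zE)) ⟨fun a b he => ?_, ?_⟩).symm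
  · obtain ⟨n, hn, hne⟩ := h.O_transitive m.1.2 ((h.orb_iff m.1.2).2 (Finset.mem_filter.1 m.2).2)
    exact ⟨⟨_, ⟨n, hn⟩, rfl⟩, Subtype.ext hne⟩
  · have h1 : e a.1 = e b.1 := congrArg (fun y : MulAction.orbit ↥h.autE h.zE => ((y.1 : ↥h.c.sE) : G)) he
    exact Subtype.ext (Fin.ext (h.c.inj _ (by omega) _ (by omega) h1))
  · rintro ⟨⟨_, m, hm, rfl⟩, ⟨⟨_, n, rfl⟩, hy⟩⟩
    refine ⟨⟨⟨m, hm⟩, Finset.mem_filter.2 ⟨Finset.mem_univ _, (h.orb_iff hm).1 ⟨n, ?_⟩⟩⟩, rfl⟩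
    exact congrArg Subtype.val hy

theorem orbit_dvd : orbN (h.oB 3) (h.oB 5) (h.oB 9) (h.oB 1) (h.oB 7) ∣ 20160 := by
  rw [← h.orbit_card]
  refine dvd_trans ?_ h.autE_dvd
  exact ⟨_, (Nat.card_congr (MulAction.orbitProdStabilizerEquivGroup ↥h.autE h.zE).symm).trans (Nat.card_prod _ _)⟩

end Ctx

end Cfsg.Agent.Transfer.AEightSolv
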