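import Cfsg.Agent.Lib.Invol.StronglyEmbedded
import Cfsg.Agent.Lib.Grp.BalanceReduction
import Cfsg.Agent.Lib.Grp.Signalizer
import Cfsg.Agent.Lib.Grp.SchurZassenhaus
import Cfsg.Agent.Lib.Transfer.SFT.Main
import Cfsg.Agent.S0205
import Cfsg.Agent.S1221
import Cfsg.Agent.Lib.Grp.SignalizerTransitive
import Mathlib.LinearAlgebra.Matrix.GeneralLinearGroup.Card
import Mathlib.Algebra.Module.ZMod

/-!
# General tools: balance, Frattini, fusion, strong embedding, a prime orbit
-/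

set_option autoImplicit false
set_option linter.style.haveILetI false
set_option linter.unusedSectionVars false

namespace Cfsg.Agent.Transfer.AEightSolv

open Subgroup Cfsg.Agent.Grp
open scoped Pointwise

universe u

variable {G : Type u} [Group G] [Finite G]

/-- The core of the centraliser. -/
abbrev theta (x : G) : Subgroup G := Cfsg.centralizerPPrimeCore 2 x

theorem theta_odd (x : G) : Odd (Nat.card ↥(theta x)) :=
  Nat.coprime_two_right.1 (centralizerPPrimeCore_coprime (p := 2) x)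

theorem theta_le (x : G) : theta x ≤ centralizer ({x} : Set G) := map_subtype_le _

theorem conj_mem_theta {x g y : G} (hy : y ∈ theta x) : g * y * g⁻¹ ∈ theta (g * x * g⁻¹) := by
  suffices h : (theta x).map (MulAut.conj g).toMonoidHom ≤ theta (g * x * g⁻¹) from h ⟨y, hy, rfl⟩
  refine le_centralizerPPrimeCore ?_ ?_ ?_
  · rintro _ ⟨w, hw, rfl⟩
    have h := centralizerPPrimeCore_commute hw
    show g * w * g⁻¹ * (g * x * g⁻¹) = g * x * g⁻¹ * (g * w * g⁻¹)
    calc _ = g * (w * x) * g⁻¹ := by group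
      _ = g * (x * w) * g⁻¹ := by rw [h]
      _ = _ := by group
  · rintro c hc _ ⟨w, hw, rfl⟩
    refine ⟨g⁻¹ * c * g * w * (g⁻¹ * c * g)⁻¹, centralizerPPrimeCore_conj ?_ hw, ?_⟩
    · calc g⁻¹ * c * g * x = g⁻¹ * (c * (g * x * g⁻¹)) * g := by group
        _ = g⁻¹ * (g * x * g⁻¹ * c) * g := by rw [hc]
        _ = _ := by group
    · show g * (g⁻¹ * c * g * w * (g⁻¹ * c * g)⁻¹) * g⁻¹ = c * (g * w * g⁻¹) * c⁻¹
      group
  · rw [card_map_of_injective (MulAut.conj g).injective]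
    exact centralizerPPrimeCore_coprime x

/-- Balance, when the second centraliser is solvable. -/
theorem balance {a b : G} (ha : orderOf a = 2) (hab : a * b = b * a)
    (hsol : Group.IsSolvable ↥(centralizer ({b} : Set G))) :
    theta a ⊓ centralizer ({b} : Set G) ≤ theta b := by
  haveI : Fact (Nat.Prime 2) := ⟨Nat.prime_two⟩
  rintro x ⟨⟨y, hy, rfl⟩, hyb⟩
  haveI := hsol
  set Cb := centralizer ({b} : Set G)
  let a' : Cb := ⟨a, mem_centralizer_singleton_iff.2 hab⟩
  have hp' : IsPGroup 2 (zpowers a') := by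
    refine IsPGroup.of_card (n := 1) ?_
    rw [Nat.card_zpowers, pow_one, ← Subgroup.orderOf_coe]
    exact ha
  let f : ↥(centralizer ({a'} : Set Cb)) →* ↥(centralizer ({a} : Set G)) :=
    { toFun := fun z => ⟨((z : Cb) : G), mem_centralizer_singleton_iff.2
        (congrArg Subtype.val (mem_centralizer_singleton_iff.1 z.2) :)⟩
      map_one' := rfl
      map_mul' := fun _ _ => rfl }
  have hf : Function.Injective f := fun z w e =>
    Subtype.ext (Subtype.ext (congrArg (fun t : ↥(centralizer ({a} : Set G)) => (t : G)) e))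
  let z : ↥(centralizer ({a'} : Set Cb)) :=
    ⟨⟨y, hyb⟩, mem_centralizer_singleton_iff.2 (Subtype.ext (mem_centralizer_singleton_iff.1 y.2))⟩
  have hz : z ∈ Cfsg.pPrimeCore 2 ↥(centralizer ({a'} : Set Cb)) := by
    refine le_pPrimeCore ((pPrimeCore_isNormal (p := 2)).comap f) ?_ (show f z ∈ _ from hy)
    exact (pPrimeCore_coprime (p := 2)).coprime_dvd_left (card_comap_dvd_of_injective _ f hf)
  exact ⟨⟨y, hyb⟩, Grp.centralizerPPrimeCore_le hp' ⟨z, hz, rfl⟩, rfl⟩

/-- An odd subgroup normalised by a four-group of operators is generated by the fixed points. -/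
theorem le_of_four {F K W : Subgroup G} (hF : Cfsg.IsElementaryAbelian 2 F) (h4 : 4 ≤ Nat.card F)
    (hK : Odd (Nat.card K)) (hFK : F ≤ normalizer (K : Set G))
    (h : ∀ f ∈ F, f ≠ 1 → K ⊓ centralizer ({f} : Set G) ≤ W) : K ≤ W := by
  haveI : Fact (Nat.Prime 2) := ⟨Nat.prime_two⟩
  have hF1 : F ≠ ⊥ := fun e => by rw [e, card_bot] at h4; omega
  refine le_of_hyperplanes hF hF1 K (Nat.two_dvd_ne_zero.2 (Nat.odd_iff.1 hK)) hFK fun D hD hi => ?_
  obtain ⟨a, ha, ha1⟩ : ∃ a ∈ D, a ≠ 1 := by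
    by_contra h0
    push Not at h0
    rw [(Subgroup.eq_bot_iff_forall D).mpr h0, relIndex_bot_left] at hi
    omega
  exact (inf_le_inf_left K (centralizer_le (Set.singleton_subset_iff.2 ha))).trans (h a (hD ha) ha1)

/-- Frattini: an element normalising `O P` is adjusted by `O` to normalise the 2-group `P`. -/
theorem exists_frattini {O P : Subgroup G} (hO : Odd (Nat.card O)) (hP : IsPGroup 2 P)
    (hPO : P ≤ normalizer (O : Set G)) {h : G} (hconj : ∀ p ∈ P, h * p * h⁻¹ ∈ O ⊔ P) :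
    ∃ o ∈ O, o⁻¹ * h ∈ normalizer (P : Set G) := by
  haveI : Fact (Nat.Prime 2) := ⟨Nat.prime_two⟩
  obtain ⟨k, hk⟩ := IsPGroup.iff_card.1 hP
  obtain ⟨o, ho, he⟩ := exists_conj_of_le_sup (K := MulAut.conj h • P) hPO
    (by
      rw [← map_conj_eq_smul]
      rintro _ ⟨p, hp, rfl⟩
      exact hconj p hp)
    (card_conj_smul _ _) (by rw [hk]; exact (Nat.coprime_two_right.2 hO).pow_right k)
    (Or.inr (by haveI := hP.isNilpotent; infer_instance))
  refine ⟨o, ho, ?_⟩
  rw [← SetLike.mem_coe, SetLike.mem_coe, mem_normalizer_iff_smul, ← conj_smul_conj_smul, ← he,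
    conj_smul_conj_smul, inv_mul_cancel, map_one, one_smul]

/-- Two elements of a 2-group congruent modulo an odd group are equal. -/
theorem eq_of_congr {O P : Subgroup G} (hO : Odd (Nat.card O)) (hP : IsPGroup 2 P) {x y : G} (hx : x ∈ P)
    (hy : y ∈ P) (h : x * y⁻¹ ∈ O) : x = y := by
  haveI : Fact (Nat.Prime 2) := ⟨Nat.prime_two⟩
  obtain ⟨k, hk⟩ := IsPGroup.iff_card.1 hP
  have hb : O ⊓ P = ⊥ := Grp.inf_eq_bot_of_coprime (by rw [hk]; exact (Nat.coprime_two_right.2 hO).pow_right k)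
  exact mul_inv_eq_one.1 ((Subgroup.eq_bot_iff_forall _).1 hb _ ⟨h, P.mul_mem hx (P.inv_mem hy)⟩)

/-- An involution congruent to an involution modulo an odd subgroup is a conjugate by that subgroup. -/
theorem exists_conj_congr {O : Subgroup G} (hO : Odd (Nat.card O)) {o v : G} (ho : o ∈ O) (hv : v * v = 1)
    (hov : o * v * (o * v) = 1) : ∃ s ∈ O, s * v * s⁻¹ = o * v := by
  obtain ⟨k, hk⟩ := hO
  have hok : o ^ (2 * k + 1) = 1 := hk ▸ orderOf_dvd_iff_pow_eq_one.1 (O.orderOf_dvd_natCard ho)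
  have hvi : v⁻¹ = v := inv_eq_of_mul_eq_one_right hv
  have hinv : v * o * v⁻¹ = o⁻¹ := by
    rw [hvi]
    refine eq_inv_of_mul_eq_one_left (mul_eq_one_comm.1 ?_)
    rw [← hov]; group
  refine ⟨o ^ (k + 1), pow_mem ho _, ?_⟩
  have hss : o ^ (k + 1) * o ^ (k + 1) = o := by
    rw [← pow_add, show k + 1 + (k + 1) = 2 * k + 1 + 1 by omega, pow_succ, hok, one_mul]
  have hs : v * o ^ (k + 1) * v⁻¹ = (o ^ (k + 1))⁻¹ := by rw [← conj_pow, hinv, inv_pow]
  calc o ^ (k + 1) * v * (o ^ (k + 1))⁻¹ = o ^ (k + 1) * v * (v * o ^ (k + 1) * v⁻¹) := by rw [hs]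
    _ = o ^ (k + 1) * (v * v) * o ^ (k + 1) * v⁻¹ := by group
    _ = _ := by rw [hv, hvi, mul_one, hss]

/-- An involution of `M` is conjugate in `M` into a Sylow subgroup of `G` inside `M`. -/
theorem exists_conj_into {S : Sylow 2 G} {M : Subgroup G} (hSM : (S : Subgroup G) ≤ M) {x : G} (hx : x ∈ M)
    (hx2 : orderOf x = 2) : ∃ m ∈ M, m * x * m⁻¹ ∈ (S : Subgroup G) := by
  haveI : Fact (Nat.Prime 2) := ⟨Nat.prime_two⟩
  obtain ⟨g, hg⟩ := Invol.exists_conj_mem_sylow (p := 2) (n := 1) (x := (⟨x, hx⟩ : M))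
    (by rw [Subgroup.orderOf_mk, hx2, pow_one]) (S.subtype hSM)
  exact ⟨_, g.2, hg⟩

/-- A subgroup containing a Sylow subgroup and controlling its involutions is strongly embedded or everything. -/
theorem se_or_top (S : Sylow 2 G) {M : Subgroup G} (hSM : (S : Subgroup G) ≤ M) (heven : Even (Nat.card M))
    (h : ∀ x ∈ (S : Subgroup G), orderOf x = 2 → ∀ g : G, g * x * g⁻¹ ∈ (S : Subgroup G) → g ∈ M) :
    M = ⊤ ∨ Cfsg.IsStronglyEmbedded M := by
  refine or_iff_not_imp_left.2 fun hM => (Invol.isStronglyEmbedded_iff hM heven).2 fun t ht ht2 g hg => ?_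
  obtain ⟨m, hm, hmS⟩ := exists_conj_into hSM ht ht2
  obtain ⟨m', hm', hm'S⟩ := exists_conj_into hSM hg (by
    rw [show g⁻¹ * t * g = g⁻¹ * t * (g⁻¹)⁻¹ by group, Invol.orderOf_conj_eq, ht2])
  have key := h _ hmS (by rw [Invol.orderOf_conj_eq, ht2]) (m' * g⁻¹ * m⁻¹)
    (by
      rw [show m' * g⁻¹ * m⁻¹ * (m * t * m⁻¹) * (m' * g⁻¹ * m⁻¹)⁻¹ = m' * (g⁻¹ * t * g) * m'⁻¹ by group]
      exact hm'S)
  have h2 := mul_mem (mul_mem (inv_mem hm') key) hm
  rw [show m'⁻¹ * (m' * g⁻¹ * m⁻¹) * m = g⁻¹ by group] at h2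
  exact inv_mem_iff.1 h2

/-- A strongly embedded subgroup has no odd normal subgroup outside the core. -/
theorem le_oddCore_of_se {M W : Subgroup G} (hM : Cfsg.IsStronglyEmbedded M) (hWM : W ≤ M)
    (hn : (W.subgroupOf M).Normal) (hW : Odd (Nat.card W)) : W ≤ Cfsg.oddCore G := by
  refine le_trans (fun w hw => Subgroup.mem_map.2 ⟨⟨w, hWM hw⟩, ?_, rfl⟩) (Cfsg.Agent.S1221.result M hM)
  exact le_pPrimeCore hn
    (by rw [Nat.card_congr (subgroupOfEquivOfLe hWM).toEquiv]; exact Nat.coprime_two_right.2 hW)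
    (mem_subgroupOf.2 hw)

/-- Fusion inside a weakly closed abelian subgroup is controlled by its normaliser. -/
theorem fusion_abelian {A : Subgroup G} (hA2 : IsPGroup 2 A) (hA : ∀ a ∈ A, ∀ b ∈ A, a * b = b * a)
    (huniq : ∀ P : Subgroup G, IsPGroup 2 P → A ≤ P → ∀ g : G, (∀ a ∈ A, g * a * g⁻¹ ∈ P) →
      ∀ a ∈ A, g * a * g⁻¹ ∈ A)
    {H : Subgroup G} (hAH : A ≤ H) {x g : G} (hg : g ∈ H) (hx : x ∈ A) (hgx : g * x * g⁻¹ ∈ A) :
    ∃ n ∈ H, n ∈ normalizer (A : Set G) ∧ n * x * n⁻¹ = g * x * g⁻¹ := by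
  haveI : Fact (Nat.Prime 2) := ⟨Nat.prime_two⟩
  set C := H ⊓ centralizer ({g * x * g⁻¹} : Set G) with hC
  have hAC : A ≤ C := le_inf hAH fun a ha => mem_centralizer_singleton_iff.2 (hA a ha _ hgx)
  have hgAC : ∀ a ∈ A, g * a * g⁻¹ ∈ C := fun a ha => ⟨H.mul_mem (H.mul_mem hg (hAH ha)) (H.inv_mem hg),
    mem_centralizer_singleton_iff.2 (by
      calc g * a * g⁻¹ * (g * x * g⁻¹) = g * (a * x) * g⁻¹ := by group
        _ = g * (x * a) * g⁻¹ := by rw [hA a ha x hx]
        _ = _ := by group)⟩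
  obtain ⟨P, hP⟩ := (show IsPGroup 2 ↥(A.subgroupOf C) from
    hA2.of_equiv (subgroupOfEquivOfLe hAC).symm).exists_le_sylow
  have hgA : A.map (MulAut.conj g).toMonoidHom ≤ C := by rintro _ ⟨a, ha, rfl⟩; exact hgAC a ha
  obtain ⟨P', hP'⟩ := (show IsPGroup 2 ↥((A.map (MulAut.conj g).toMonoidHom).subgroupOf C) from
    (hA2.map _).of_equiv (subgroupOfEquivOfLe hgA).symm).exists_le_sylow
  obtain ⟨c, hc⟩ := MulAction.exists_smul_eq C P' P
  have hmem : ∀ a ∈ A, (c : G) * g * a * ((c : G) * g)⁻¹ ∈ (P : Subgroup C).map C.subtype := by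
    intro a ha
    refine ⟨c * ⟨g * a * g⁻¹, hgAC a ha⟩ * c⁻¹, ?_, ?_⟩
    · rw [← hc]
      exact ⟨_, hP' (mem_subgroupOf.2 ⟨a, ha, rfl⟩), rfl⟩
    · show (c : G) * (g * a * g⁻¹) * (c : G)⁻¹ = _
      group
  have hn := huniq _ (P.isPGroup'.map _) (fun a ha => ⟨⟨a, hAC ha⟩, hP (mem_subgroupOf.2 ha), rfl⟩) _ hmem
  refine ⟨(c : G) * g, mul_mem c.2.1 hg, mem_normalizer_fintype hn, ?_⟩
  have hcc := mem_centralizer_singleton_iff.1 c.2.2
  rw [show (c : G) * g * x * ((c : G) * g)⁻¹ = (c : G) * (g * x * g⁻¹) * (c : G)⁻¹ by group, hcc,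
    mul_inv_cancel_right]

theorem card_mulAut_elementary {M : Type*} [Group M] [Finite M] (h2 : ∀ a : M, a * a = 1) {k : ℕ}
    (hk : Nat.card M = 2 ^ k) : Nat.card (MulAut M) = ∏ i : Fin k, (2 ^ k - 2 ^ (i : ℕ)) := by
  classical
  haveI : Fact (Nat.Prime 2) := ⟨Nat.prime_two⟩
  have hc : ∀ a b : M, a * b = b * a := fun a b => by
    calc a * b = (a * b)⁻¹ := (inv_eq_of_mul_eq_one_right (h2 (a * b))).symm
      _ = b⁻¹ * a⁻¹ := mul_inv_rev a b
      _ = b * a := by rw [inv_eq_of_mul_eq_one_right (h2 a), inv_eq_of_mul_eq_one_right (h2 b)]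
  letI : CommGroup M := { (inferInstance : Group M) with mul_comm := hc }
  letI : Module (ZMod 2) (Additive M) :=
    AddCommGroup.zmodModule fun x => (two_nsmul x).trans (h2 (Additive.toMul x))
  haveI : Module.Finite (ZMod 2) (Additive M) := Module.Finite.of_finite
  have hfr : Module.finrank (ZMod 2) (Additive M) = k := by
    have h1 := Module.natCard_eq_pow_finrank (K := ZMod 2) (V := Additive M)
    rw [Nat.card_congr (Additive.toMul (α := M)), hk, Nat.card_zmod] at h1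
    exact (Nat.pow_right_injective le_rfl h1).symm
  let b := Module.finBasisOfFinrankEq (ZMod 2) (Additive M) hfr
  let e1 : MulAut M ≃ (Additive M ≃ₗ[ZMod 2] Additive M) :=
    { toFun := fun f => (MulEquiv.toAdditive f).toLinearEquiv fun c x => ZMod.map_smul _ c x
      invFun := fun g => MulEquiv.toAdditive.symm g.toAddEquiv
      left_inv := fun f => MulEquiv.ext fun _ => rfl
      right_inv := fun g => LinearEquiv.ext fun _ => rfl }
  let e2 : (Additive M ≃ₗ[ZMod 2] Additive M) ≃ GL (Fin k) (ZMod 2) :=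
    ({ toFun := fun g => b.equivFun.symm.trans (g.trans b.equivFun)
       invFun := fun g => b.equivFun.trans (g.trans b.equivFun.symm)
       left_inv := fun g => LinearEquiv.ext fun x => by
         simp only [LinearEquiv.trans_apply, LinearEquiv.symm_apply_apply]
       right_inv := fun g => LinearEquiv.ext fun x => by
         simp only [LinearEquiv.trans_apply, LinearEquiv.apply_symm_apply] } :
      (Additive M ≃ₗ[ZMod 2] Additive M) ≃ ((Fin k → ZMod 2) ≃ₗ[ZMod 2] (Fin k → ZMod 2))).trans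
      ((Matrix.GeneralLinearGroup.toLin.trans (LinearMap.GeneralLinearGroup.generalLinearEquiv _ _)).symm.toEquiv)
  rw [Nat.card_congr (e1.trans e2), Matrix.card_GL_field, ZMod.card]

/-- A prime `p ≥ 5` dividing an orbit, with a four-group of small fixed point sets normalising a subgroup
of order `p`, forces `p²` to divide the order. -/
theorem prime_orbit_false {H : Type*} [Group H] [Finite H] {Ω : Type*} [MulAction H Ω] (z : Ω) {p : ℕ}
    (hp : p.Prime) (hp5 : 5 ≤ p) (hpO : p ∣ Nat.card (MulAction.orbit H z)) (hp2 : ¬ p ^ 2 ∣ Nat.card H)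
    {V : Subgroup H} (hV4 : Nat.card V = 4) (hVsq : ∀ v ∈ V, v * v = 1) (hVz : ∀ v ∈ V, v • z = z)
    (hfix : ∀ v ∈ V, v ≠ 1 → ∃ f : Finset Ω, f.card ≤ 4 ∧ ∀ y, v • y = y → y ∈ f)
    {P : Subgroup H} (hP : Nat.card P = p) (hVP : V ≤ normalizer (P : Set H)) : False := by
  classical
  haveI : Fact p.Prime := ⟨hp⟩
  haveI : IsCyclic P := isCyclic_of_prime_card hP
  obtain ⟨x, hx⟩ := IsCyclic.exists_generator (α := P)
  have hxP : ∀ y ∈ P, ∃ i : ℤ, (x : H) ^ i = y := fun y hy => by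
    obtain ⟨i, hi⟩ := mem_zpowers_iff.1 (hx ⟨y, hy⟩)
    exact ⟨i, by simpa using congrArg Subtype.val hi⟩
  have hxp : (x : H) ^ p = 1 := by
    have := pow_card_eq_one' (G := P) (x := x)
    rw [hP] at this
    simpa using congrArg Subtype.val this
  -- an element of `V` centralising `x`
  have hinv : ∀ v ∈ V, v * (x : H) * v⁻¹ = x ∨ v * (x : H) * v⁻¹ = (x : H)⁻¹ := by
    intro v hv
    obtain ⟨i, hi⟩ := hxP _ ((mem_normalizer_iff.1 (hVP hv) _).1 x.2)
    have h2 : v * (v * (x : H) * v⁻¹) * v⁻¹ = x := by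
      rw [show v * (v * (x : H) * v⁻¹) * v⁻¹ = (v * v) * x * (v * v)⁻¹ by group, hVsq v hv]
      group
    rw [← hi, ← conj_zpow, ← hi, ← zpow_mul] at h2
    have hd : (orderOf (x : H) : ℤ) ∣ i * i - 1 := by
      rw [orderOf_dvd_iff_zpow_eq_one, zpow_sub_one, h2, mul_inv_cancel]
    have hx1 : (x : H) ≠ 1 := fun e => by
      have h1 : P = ⊥ := (Subgroup.eq_bot_iff_forall P).2 fun y hy => by
        obtain ⟨i, rfl⟩ := hxP y hy
        rw [e, one_zpow]
      rw [h1, card_bot] at hP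
      omega
    rw [orderOf_eq_prime hxp hx1, show i * i - 1 = (i - 1) * (i + 1) by ring] at hd
    rcases (Nat.prime_iff_prime_int.1 hp).dvd_or_dvd hd with h | h
    · left
      obtain ⟨j, hj⟩ := h
      rw [← hi, show i = (p : ℤ) * j + 1 by omega, zpow_add_one, zpow_mul, zpow_natCast, hxp, one_zpow, one_mul]
    · right
      obtain ⟨j, hj⟩ := h
      rw [← hi, show i = (p : ℤ) * j + (-1) by omega, zpow_add, zpow_mul, zpow_natCast, hxp, one_zpow, one_mul,
        zpow_neg_one]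
  obtain ⟨v, hv, hv1, hvx⟩ : ∃ v ∈ V, v ≠ 1 ∧ v * (x : H) * v⁻¹ = x := by
    by_contra hcon
    push Not at hcon
    obtain ⟨⟨a, ha⟩, ⟨b, hb⟩, hab, ha1, hb1⟩ : ∃ a b : V, a ≠ b ∧ a ≠ 1 ∧ b ≠ 1 := by
      by_contra h0
      push Not at h0
      haveI := Fintype.ofFinite V
      obtain ⟨a, ha⟩ := Fintype.exists_ne_of_one_lt_card (by rw [← Nat.card_eq_fintype_card, hV4]; norm_num) (1 : V)
      have hsub : (Finset.univ : Finset V) ⊆ {1, a} := fun b _ => by
        by_cases hba : b = a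
        · simp [hba]
        · simp [h0 a b (fun e => hba e.symm) ha]
      have := (Finset.card_le_card hsub).trans Finset.card_le_two
      rw [Finset.card_univ, ← Nat.card_eq_fintype_card, hV4] at this
      omega
    have iA := (hinv a ha).resolve_left (hcon a ha fun e => ha1 (Subtype.ext e))
    have iB := (hinv b hb).resolve_left (hcon b hb fun e => hb1 (Subtype.ext e))
    refine hcon (a * b) (mul_mem ha hb) (fun e => hab (Subtype.ext ?_)) ?_
    · calc a = a * (b * b) := by rw [hVsq b hb, mul_one]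
        _ = b := by rw [← mul_assoc, e, one_mul]
    · calc a * b * (x : H) * (a * b)⁻¹ = a * (b * x * b⁻¹) * a⁻¹ := by group
        _ = (a * x * a⁻¹)⁻¹ := by rw [iB]; group
        _ = _ := by rw [iA, inv_inv]
  have hcomm : ∀ y ∈ P, v * y = y * v := fun y hy => by
    obtain ⟨i, rfl⟩ := hxP y hy
    exact ((show Commute v (x : H) from mul_inv_eq_iff_eq_mul.1 hvx).zpow_right i).eq
  obtain ⟨f, hf, hfv⟩ := hfix v hv hv1
  -- the orbit of `z` under `P` is trivial
  have horb : ∀ y ∈ MulAction.orbit P z, v • y = y := by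
    rintro _ ⟨q, rfl⟩
    show v • ((q : H) • z) = (q : H) • z
    rw [smul_smul, hcomm _ q.2, mul_smul, hVz v hv]
  have h1 : Nat.card (MulAction.orbit P z) ∣ p := by
    rw [← hP]
    exact ⟨_, (Nat.card_congr (MulAction.orbitProdStabilizerEquivGroup P z).symm).trans (Nat.card_prod _ _)⟩
  have h2 : Nat.card (MulAction.orbit P z) ≤ 4 := by
    refine le_trans ?_ hf
    rw [← Nat.card_eq_finsetCard f]
    exact Nat.card_le_card_of_injective (fun y => (⟨y.1, hfv _ (horb _ y.2)⟩ : f))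
      fun a b e => Subtype.ext (congrArg (fun w : f => w.1) e)
  have h3 : Nat.card (MulAction.orbit P z) = 1 := ((Nat.dvd_prime hp).1 h1).resolve_right (by omega)
  have hle : P ≤ MulAction.stabilizer H z := fun q hq => by
    obtain ⟨hs, -⟩ := Nat.card_eq_one_iff_unique.1 h3
    exact congrArg Subtype.val (hs.elim (⟨q • z, ⟨⟨q, hq⟩, rfl⟩⟩ : MulAction.orbit P z)
      ⟨z, MulAction.mem_orbit_self z⟩)
  apply hp2
  rw [Nat.card_congr (MulAction.orbitProdStabilizerEquivGroup H z).symm, Nat.card_prod, pow_two]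
  exact mul_dvd_mul hpO (hP ▸ card_dvd_of_le hle)

end Cfsg.Agent.Transfer.AEightSolv
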