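import Cfsg.Agent.Lib.Transfer.AEightSolv.Shape
import Cfsg.Agent.Lib.Transfer.AEightSolv.General
import Cfsg.Agent.Lib.Fus.Goldschmidt.Basic
import Cfsg.Agent.Lib.Fus.ClosedProduct.Disjoint

/-!
# The quotient of the centraliser of the central involution, and the transfer of its facts to `G`
-/

set_option autoImplicit false
set_option linter.style.haveILetI false
set_option linter.unusedSectionVars false
set_option maxRecDepth 100000

namespace Cfsg.Agent.Transfer.AEightSolv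

open Subgroup Cfsg.Agent.Grp

universe u

theorem comm_small : ∀ m n : Fin 64, mM (cM m n) (iM n) < 16 := by decide +kernel

theorem center_ok : ∀ n : Fin 64, (∀ m : Fin 64, comM m n = true) → (n : ℕ) = 0 ∨ (n : ℕ) = 15 := by
  decide +kernel

theorem sq_ok : ∀ m : Fin 64, mM m m < 16 := by decide +kernel

/-- The hypotheses on `G`. -/
structure Ctx (G : Type u) [Group G] [Finite G] (S : Sylow 2 G) (e : ℕ → G) : Prop where
  c : Coords (S : Subgroup G) e
  sol : Group.IsSolvable ↥(centralizer ({e 15} : Set G))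
  odd : Cfsg.pPrimeCore 2 G = ⊥
  two : Cfsg.pCore 2 G = ⊥
  res : Cfsg.pResidual 2 G = ⊤

namespace Ctx

variable {G : Type u} [Group G] [Finite G] {S : Sylow 2 G} {e : ℕ → G} (h : Ctx G S e)
include h

theorem e_cent {m : ℕ} (hm : m < 64) : e m ∈ centralizer ({e 15} : Set G) :=
  mem_centralizer_singleton_iff.2 (h.c.z_central (h.c.e_mem hm))

theorem S_le_cent : (S : Subgroup G) ≤ centralizer ({e 15} : Set G) := fun _ hx =>
  mem_centralizer_singleton_iff.2 (h.c.z_central hx)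

/-- the quotient of `C(z)` by its core -/
abbrev Xq (_h : Ctx G S e) : Type u := Fus.Gold.Cq (e 15)

/-- the projection, on elements of `C(z)` -/
abbrev pr (_h : Ctx G S e) {g : G} (hg : g ∈ centralizer ({e 15} : Set G)) : Fus.Gold.Cq (e 15) :=
  Fus.Gold.proj (e 15) ⟨g, hg⟩

/-- the images of the coordinates -/
def eX (hctx : Ctx G S e) (m : ℕ) : Fus.Gold.Cq (e 15) :=
  if hm : m < 64 then Fus.Gold.proj (e 15) ⟨e m, hctx.e_cent hm⟩ else 1

theorem eX_eq {m : ℕ} (hm : m < 64) : h.eX m = h.pr (h.e_cent hm) := dif_pos hm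

theorem pr_congr {a b : G} (ha : a ∈ centralizer ({e 15} : Set G)) (hb : b ∈ centralizer ({e 15} : Set G))
    (he : h.pr ha = h.pr hb) : a * b⁻¹ ∈ theta (e 15) := by
  haveI : (Cfsg.pPrimeCore 2 ↥(centralizer ({e 15} : Set G))).Normal := pPrimeCore_isNormal
  refine ⟨⟨a, ha⟩ * (⟨b, hb⟩ : ↥(centralizer ({e 15} : Set G)))⁻¹, (QuotientGroup.eq_one_iff _).1 ?_, rfl⟩
  show Fus.Gold.proj (e 15) (⟨a, ha⟩ * ⟨b, hb⟩⁻¹) = 1
  rw [map_mul, map_inv]
  exact mul_inv_eq_one.2 he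

theorem theta_conj {g : G} (hg : g ∈ centralizer ({e 15} : Set G)) {y : G} (hy : y ∈ theta (e 15)) :
    g * y * g⁻¹ ∈ theta (e 15) :=
  centralizerPPrimeCore_conj (mem_centralizer_singleton_iff.1 hg) hy

theorem theta_norm : centralizer ({e 15} : Set G) ≤ normalizer (theta (e 15) : Set G) := fun _ hg =>
  mem_normalizer_fintype fun _ hy => h.theta_conj hg hy

theorem exists_local : ∃ T : Sylow 2 h.Xq, Local h.Xq T h.eX := by
  haveI : Fact (Nat.Prime 2) := ⟨Nat.prime_two⟩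
  haveI : (Cfsg.pPrimeCore 2 ↥(centralizer ({e 15} : Set G))).Normal := pPrimeCore_isNormal
  haveI := h.sol
  have hs : Function.Surjective (Fus.Gold.proj (e 15) : ↥(centralizer ({e 15} : Set G)) → h.Xq) :=
    QuotientGroup.mk'_surjective _
  refine ⟨(S.subtype h.S_le_cent).mapSurjective hs, ⟨⟨?_, ?_, ?_⟩, ?_, ?_, ?_⟩⟩
  · intro m hm n hn
    rw [h.eX_eq hm, h.eX_eq hn, h.eX_eq (mM_lt m n), ← map_mul]
    exact congrArg _ (Subtype.ext (h.c.mul m hm n hn))
  · intro m hm n hn he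
    rw [h.eX_eq hm, h.eX_eq hn] at he
    exact h.c.inj m hm n hn
      (eq_of_congr (theta_odd (e 15)) S.isPGroup' (h.c.e_mem hm) (h.c.e_mem hn) (h.pr_congr _ _ he))
  · intro x
    rw [Sylow.coe_mapSurjective]
    constructor
    · rintro ⟨y, hy, rfl⟩
      obtain ⟨m, hm, hme⟩ := (h.c.mem _).1 (mem_subgroupOf.1 hy)
      exact ⟨m, hm, by rw [h.eX_eq hm]; exact congrArg _ (Subtype.ext hme)⟩
    · rintro ⟨m, hm, rfl⟩
      rw [h.eX_eq hm]
      exact mem_map_of_mem _ (mem_subgroupOf.2 (h.c.e_mem hm))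
  · exact Group.isSolvable_of_surjective hs
  · exact pPrimeCore_quotient_bot
  · intro x
    obtain ⟨y, rfl⟩ := hs x
    rw [h.eX_eq (show 15 < 64 by norm_num), ← map_mul, ← map_mul]
    exact congrArg _ (Subtype.ext (mem_centralizer_singleton_iff.1 y.2))

/-- An exact conjugation from one modulo the core. -/
theorem lift_exact {g : G} (hg : g ∈ centralizer ({e 15} : Set G)) {m n : ℕ} (hm : m < 64) (hn : n < 64)
    (hsq : mM m m = 0) (hsq' : mM n n = 0) (he : h.pr hg * h.eX m * (h.pr hg)⁻¹ = h.eX n) :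
    ∃ g' ∈ centralizer ({e 15} : Set G), g' * g⁻¹ ∈ theta (e 15) ∧ g' * e m * g'⁻¹ = e n := by
  rw [h.eX_eq hm, h.eX_eq hn, ← map_inv, ← map_mul, ← map_mul] at he
  have hmem : g * e m * g⁻¹ * (e n)⁻¹ ∈ theta (e 15) := h.pr_congr _ _ he
  obtain ⟨o, ho⟩ : ∃ o, o = g * e m * g⁻¹ * (e n)⁻¹ := ⟨_, rfl⟩
  have hon : o * e n = g * e m * g⁻¹ := by rw [ho, inv_mul_cancel_right]
  have hm2 : e m * e m = 1 := (h.c.sq_iff hm).2 hsq
  obtain ⟨s, hs, hse⟩ := exists_conj_congr (theta_odd (e 15)) (ho ▸ hmem) ((h.c.sq_iff hn).2 hsq') (by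
    rw [hon, show g * e m * g⁻¹ * (g * e m * g⁻¹) = g * (e m * e m) * g⁻¹ by group, hm2]
    group)
  refine ⟨s⁻¹ * g, mul_mem (inv_mem (theta_le _ hs)) hg, by rw [mul_inv_cancel_right]; exact inv_mem hs, ?_⟩
  rw [hon] at hse
  rw [show s⁻¹ * g * e m * (s⁻¹ * g)⁻¹ = s⁻¹ * (g * e m * g⁻¹) * s by group, ← hse]
  group

/-- An element normalising `E` modulo the core is one normalising `E` up to the core. -/
theorem lift_norm {T : Sylow 2 h.Xq} (hl : Local h.Xq T h.eX) {g : G} (hg : g ∈ centralizer ({e 15} : Set G))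
    (hN : h.pr hg ∈ normalizer (hl.c.sE : Set h.Xq)) : ∃ o ∈ theta (e 15), o⁻¹ * g ∈ normalizer (h.c.sE : Set G) := by
  refine exists_frattini (theta_odd (e 15)) (elemAb_isPGroup h.c.sE_elem)
    (h.c.sE_le.trans (h.S_le_cent.trans h.theta_norm)) fun p hp => ?_
  obtain ⟨m, hm, rfl⟩ := hp
  obtain ⟨n, hn, hne⟩ := (mem_normalizer_iff.1 hN (h.eX m)).1 ⟨m, hm, rfl⟩
  rw [h.eX_eq (show m < 64 by omega), h.eX_eq (show n < 64 by omega), ← map_inv, ← map_mul, ← map_mul] at hne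
  have h1 : g * e m * g⁻¹ * (e n)⁻¹ ∈ theta (e 15) := h.pr_congr _ _ hne.symm
  have h2 := mul_mem (mem_sup_left (T := h.c.sE) h1) (mem_sup_right (S := theta (e 15)) (show e n ∈ h.c.sE from ⟨n, hn, rfl⟩))
  rwa [inv_mul_cancel_right] at h2

theorem e_comm_mem {a b : G} (ha : a ∈ (S : Subgroup G)) (hb : b ∈ (S : Subgroup G)) : a * b * a⁻¹ * b⁻¹ ∈ h.c.sE := by
  obtain ⟨m, hm, rfl⟩ := (h.c.mem a).1 ha
  obtain ⟨n, hn, rfl⟩ := (h.c.mem b).1 hb
  rw [h.c.conj hm hn, h.c.inv hn, h.c.mul _ (cM_lt _ _) _ (iM_lt _)]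
  exact ⟨_, comm_small ⟨m, hm⟩ ⟨n, hn⟩, rfl⟩

theorem S_le_norm : (S : Subgroup G) ≤ normalizer (h.c.sE : Set G) := fun s hs => mem_normalizer_fintype fun x hx => by
  have h1 := mul_mem (h.e_comm_mem hs (h.c.sE_le hx)) hx
  rwa [inv_mul_cancel_right] at h1

theorem center_two {x : G} (hx : x ∈ (S : Subgroup G)) (hc : ∀ s ∈ (S : Subgroup G), s * x = x * s) :
    x = 1 ∨ x = e 15 := by
  obtain ⟨n, hn, rfl⟩ := (h.c.mem x).1 hx
  rcases center_ok ⟨n, hn⟩ (fun m => (h.c.comm_iff m.2 hn).1 (hc _ (h.c.e_mem m.2))) with e1 | e1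
  · exact Or.inl ((h.c.eq_one hn).2 e1)
  · exact Or.inr (by simp only at e1; rw [e1])

/-- Fusion inside `E` is controlled by its normaliser, inside any subgroup containing `E`. -/
theorem fusion_E {H : Subgroup G} (hH : h.c.sE ≤ H) {x g : G} (hg : g ∈ H) (hx : x ∈ h.c.sE)
    (hgx : g * x * g⁻¹ ∈ h.c.sE) : ∃ n ∈ H, n ∈ normalizer (h.c.sE : Set G) ∧ n * x * n⁻¹ = g * x * g⁻¹ :=
  fusion_abelian (elemAb_isPGroup h.c.sE_elem) (fun _ ha _ hb => h.c.sE_comm ha hb)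
    (fun P hP hEP g hg => h.c.sE_unique P hP hEP g hg) hH hg hx hgx

/-- A 2-group containing `E` is conjugate into `S` by a normaliser of `E`. -/
theorem move_norm {W : Subgroup G} (hW : IsPGroup 2 W) (hEW : h.c.sE ≤ W) :
    ∃ k ∈ normalizer (h.c.sE : Set G), ∀ w ∈ W, k * w * k⁻¹ ∈ (S : Subgroup G) := by
  obtain ⟨k, hk⟩ := Fus.ClosedProduct.move S hW
  exact ⟨k, mem_normalizer_fintype (h.c.sE_unique _ S.isPGroup' h.c.sE_le k fun a ha => hk a (hEW ha)), hk⟩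

end Ctx

end Cfsg.Agent.Transfer.AEightSolv
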