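import Mathlib
import Cfsg.Agent.Lib.Transfer.AEightA5.Main

/-!
# Coordinates on a Sylow 2-subgroup of `A₈`

The Sylow 2-subgroup is `𝔽₂[V] ⋊ V` for a four-group `V`: the code `x + 16 v` stands for the subset `x` of
`V = {0, 1, 2, 3}` followed by `v`.
-/

set_option autoImplicit false
set_option linter.style.haveILetI false
set_option maxRecDepth 100000

namespace Cfsg.Agent.Transfer.AEightSolv

open Equiv

/-- the subset part -/
def xP (n : ℕ) : ℕ := n % 16
/-- the part in `V` -/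
def vP (n : ℕ) : ℕ := n / 16 % 4

/-- translation of a subset of `V` -/
def shiftM (v x : ℕ) : ℕ :=
  (bif x.testBit (Nat.xor 0 v) then 1 else 0) + (bif x.testBit (Nat.xor 1 v) then 2 else 0) +
    (bif x.testBit (Nat.xor 2 v) then 4 else 0) + (bif x.testBit (Nat.xor 3 v) then 8 else 0)

/-- multiplication -/
def mM (m n : ℕ) : ℕ := Nat.xor (xP m) (shiftM (vP m) (xP n)) + 16 * Nat.xor (vP m) (vP n)

/-- inversion -/
def iM (m : ℕ) : ℕ := shiftM (vP m) (xP m) + 16 * vP m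

/-- conjugation -/
def cM (g m : ℕ) : ℕ := mM (mM g m) (iM g)

/-- commuting -/
def comM (m n : ℕ) : Bool := mM m n == mM n m

/-- parity of the subset part -/
def oddM (n : ℕ) : Bool := xor (xor (n.testBit 0) (n.testBit 1)) (xor (n.testBit 2) (n.testBit 3))

/-- the points `(02)(13)`, `(03)(12)`, `(46)(57)`, `(47)(56)` and the four-group -/
def permM (n : ℕ) : Perm (Fin 8) :=
  (bif n.testBit 0 then swap 0 2 * swap 1 3 else 1) * (bif n.testBit 1 then swap 0 3 * swap 1 2 else 1) *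
    (bif n.testBit 2 then swap 4 6 * swap 5 7 else 1) * (bif n.testBit 3 then swap 4 7 * swap 5 6 else 1) *
    (bif n.testBit 4 then swap 0 1 * swap 4 5 else 1) *
    (bif n.testBit 5 then swap 0 4 * swap 1 5 * swap 2 6 * swap 3 7 else 1)

theorem mM_lt (m n : ℕ) : mM m n < 64 := by
  have h1 : shiftM (vP m) (xP n) < 16 := by
    unfold shiftM
    cases (xP n).testBit (Nat.xor 0 (vP m)) <;> cases (xP n).testBit (Nat.xor 1 (vP m)) <;>
      cases (xP n).testBit (Nat.xor 2 (vP m)) <;> cases (xP n).testBit (Nat.xor 3 (vP m)) <;> decide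
  have h2 : Nat.xor (xP m) (shiftM (vP m) (xP n)) < 16 :=
    Nat.xor_lt_two_pow (n := 4) (Nat.mod_lt _ (by norm_num)) h1
  have h3 : Nat.xor (vP m) (vP n) < 4 :=
    Nat.xor_lt_two_pow (n := 2) (Nat.mod_lt _ (by norm_num)) (Nat.mod_lt _ (by norm_num))
  unfold mM
  omega

theorem iM_lt (m : ℕ) : iM m < 64 := by
  have h1 : shiftM (vP m) (xP m) < 16 := by
    unfold shiftM
    cases (xP m).testBit (Nat.xor 0 (vP m)) <;> cases (xP m).testBit (Nat.xor 1 (vP m)) <;>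
      cases (xP m).testBit (Nat.xor 2 (vP m)) <;> cases (xP m).testBit (Nat.xor 3 (vP m)) <;> decide
  have h3 : vP m < 4 := Nat.mod_lt _ (by norm_num)
  unfold iM
  omega

theorem cM_lt (g m : ℕ) : cM g m < 64 := mM_lt _ _

/-- the image of a point under `permM n`, by bit operations -/
def imgM (n i : ℕ) : ℕ :=
  let j := bif n.testBit 5 then Nat.xor i 4 else i
  let j := bif n.testBit 4 && Nat.ble (j % 4) 1 then Nat.xor j 1 else j
  let j := bif n.testBit 3 && Nat.ble 4 j then Nat.xor j 3 else j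
  let j := bif n.testBit 2 && Nat.ble 4 j then Nat.xor j 2 else j
  let j := bif n.testBit 1 && Nat.ble j 3 then Nat.xor j 3 else j
  bif n.testBit 0 && Nat.ble j 3 then Nat.xor j 2 else j

theorem perm_img : ∀ (m : Fin 64) (i : Fin 8), ((permM m i : Fin 8) : ℕ) = imgM m i := by
  decide +kernel

theorem img_mul : ((List.range 64).all fun m => (List.range 64).all fun n => (List.range 8).all fun i =>
    imgM m (imgM n i) == imgM (mM m n) i) = true := by
  decide +kernel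

theorem perm_ok : (∀ m : Fin 64, Perm.sign (permM m) = 1 ∧ (permM m = 1 → m = 0) ∧ mM m (iM m) = 0) ∧
    ∀ m n : Fin 64, permM m * permM n = permM (mM m n) := by
  refine ⟨by decide +kernel, fun m n => Equiv.ext fun i => Fin.ext ?_⟩
  have h := img_mul
  simp only [List.all_eq_true, List.mem_range, beq_iff_eq] at h
  rw [Perm.mul_apply, perm_img, perm_img, perm_img ⟨mM m n, mM_lt m n⟩]
  exact h m m.2 n n.2 i i.2

/-- Coordinates on `S`. -/
structure Coords {G : Type*} [Group G] (S : Subgroup G) (e : ℕ → G) : Prop where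
  mul : ∀ m < 64, ∀ n < 64, e m * e n = e (mM m n)
  inj : ∀ m < 64, ∀ n < 64, e m = e n → m = n
  mem : ∀ x, x ∈ S ↔ ∃ m < 64, e m = x

theorem exists_coords {G : Type*} [Group G] [Finite G] (S : Sylow 2 G)
    (hS : ∀ P : Sylow 2 ↥(alternatingGroup (Fin 8)), Nonempty (↥(S : Subgroup G) ≃* ↥(P : Subgroup ↥(alternatingGroup (Fin 8))))) :
    ∃ e : ℕ → G, Coords (S : Subgroup G) e := by
  classical
  haveI : Fact (Nat.Prime 2) := ⟨Nat.prime_two⟩
  let f : ℕ → ↥(alternatingGroup (Fin 8)) := fun m =>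
    if h : m < 64 then ⟨permM m, Equiv.Perm.mem_alternatingGroup.2 (perm_ok.1 ⟨m, h⟩).1⟩ else 1
  have hf : ∀ {m}, m < 64 → (f m : Perm (Fin 8)) = permM m := fun {m} h => by simp [f, h]
  have hmul : ∀ m < 64, ∀ n < 64, f m * f n = f (mM m n) := fun m hm n hn => Subtype.ext (by
    rw [Subgroup.coe_mul, hf hm, hf hn, hf (mM_lt m n), perm_ok.2 ⟨m, hm⟩ ⟨n, hn⟩])
  have h0 : f 0 = 1 := Subtype.ext (by rw [hf (by norm_num), OneMemClass.coe_one]; decide)
  have hinv : ∀ m < 64, f (iM m) = (f m)⁻¹ := fun m hm => eq_inv_of_mul_eq_one_right (by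
    rw [hmul m hm _ (iM_lt m), show mM m (iM m) = 0 from (perm_ok.1 ⟨m, hm⟩).2.2, h0])
  let T : Subgroup ↥(alternatingGroup (Fin 8)) :=
    { carrier := {x | ∃ m < 64, f m = x}
      one_mem' := ⟨0, by norm_num, h0⟩
      mul_mem' := fun {x y} ⟨m, hm, hx⟩ ⟨n, hn, hy⟩ => ⟨mM m n, mM_lt m n, by rw [← hmul m hm n hn, hx, hy]⟩
      inv_mem' := fun {x} ⟨m, hm, hx⟩ => ⟨iM m, iM_lt m, by rw [hinv m hm, hx]⟩ }
  have hinj : ∀ m < 64, ∀ n < 64, f m = f n → m = n := fun m hm n hn e => by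
    have h1 : f (mM m (iM n)) = 1 := by rw [← hmul m hm _ (iM_lt n), hinv n hn, e, mul_inv_cancel]
    have h2 : mM m (iM n) = 0 := congrArg Fin.val ((perm_ok.1 ⟨_, mM_lt m (iM n)⟩).2.1
      (by rw [← hf (mM_lt m (iM n)), h1]; rfl))
    exact (by decide +kernel : ∀ m n : Fin 64, mM m (iM n) = 0 → (m : ℕ) = n) ⟨m, hm⟩ ⟨n, hn⟩ h2
  have hT : Nat.card ↥T = 64 := by
    rw [← Nat.card_fin 64]
    refine (Nat.card_eq_of_bijective (fun m : Fin 64 => (⟨f m, m, m.2, rfl⟩ : ↥T))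
      ⟨fun m n e => Fin.ext (hinj m m.2 n n.2 (congrArg Subtype.val e)), ?_⟩).symm
    rintro ⟨x, m, hm, rfl⟩
    exact ⟨⟨m, hm⟩, rfl⟩
  obtain ⟨P, hP⟩ := (IsPGroup.of_card (p := 2) (n := 6) hT).exists_le_sylow
  have hTP : T = (P : Subgroup ↥(alternatingGroup (Fin 8))) :=
    Subgroup.eq_of_le_of_card_ge hP (by rw [hT, Transfer.AEightA5.card_sylow_alt P])
  obtain ⟨φ⟩ := hS P
  have hfP : ∀ m, m < 64 → f m ∈ (P : Subgroup ↥(alternatingGroup (Fin 8))) := fun m hm => hP ⟨m, hm, rfl⟩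
  refine ⟨fun m => if h : m < 64 then (φ.symm ⟨f m, hfP m h⟩ : G) else 1, ⟨?_, ?_, ?_⟩⟩
  · intro m hm n hn
    simp only [dif_pos hm, dif_pos hn, dif_pos (mM_lt m n), ← Subgroup.coe_mul, ← map_mul]
    congr 2
    exact Subtype.ext (hmul m hm n hn)
  · intro m hm n hn e
    simp only [dif_pos hm, dif_pos hn] at e
    exact hinj m hm n hn (congrArg Subtype.val (φ.symm.injective (Subtype.ext e)))
  · intro x
    constructor
    · intro hx
      have hT' : ((φ ⟨x, hx⟩ : ↥(P : Subgroup ↥(alternatingGroup (Fin 8)))) : ↥(alternatingGroup (Fin 8))) ∈ T := by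
        rw [hTP]
        exact (φ ⟨x, hx⟩).2
      obtain ⟨m, hm, hmx⟩ := hT'
      refine ⟨m, hm, ?_⟩
      simp only [dif_pos hm]
      rw [show (⟨f m, hfP m hm⟩ : ↥(P : Subgroup ↥(alternatingGroup (Fin 8)))) = φ ⟨x, hx⟩ from Subtype.ext hmx, φ.symm_apply_apply]
    · rintro ⟨m, hm, rfl⟩
      simp only [dif_pos hm]
      exact SetLike.coe_mem _

namespace Coords

variable {G : Type*} [Group G] {S : Subgroup G} {e : ℕ → G} (c : Coords S e)
include c

theorem e_mem {m : ℕ} (hm : m < 64) : e m ∈ S := (c.mem _).2 ⟨m, hm, rfl⟩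

theorem zero : e 0 = 1 := by
  have h := c.mul 0 (by norm_num) 0 (by norm_num)
  rw [show mM 0 0 = 0 by decide] at h
  simpa using h

theorem eq_iff {m n : ℕ} (hm : m < 64) (hn : n < 64) : e m = e n ↔ m = n :=
  ⟨c.inj m hm n hn, fun h => h ▸ rfl⟩

theorem eq_one {m : ℕ} (hm : m < 64) : e m = 1 ↔ m = 0 := by rw [← c.zero, c.eq_iff hm (by norm_num)]

theorem inv {m : ℕ} (hm : m < 64) : (e m)⁻¹ = e (iM m) := (eq_inv_of_mul_eq_one_right (by
  rw [c.mul m hm _ (iM_lt m), show mM m (iM m) = 0 from (perm_ok.1 ⟨m, hm⟩).2.2, c.zero])).symm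

theorem conj {g m : ℕ} (hg : g < 64) (hm : m < 64) : e g * e m * (e g)⁻¹ = e (cM g m) := by
  rw [c.inv hg, c.mul g hg m hm, c.mul _ (mM_lt _ _) _ (iM_lt _), cM]

theorem comm_iff {m n : ℕ} (hm : m < 64) (hn : n < 64) : e m * e n = e n * e m ↔ comM m n = true := by
  rw [c.mul m hm n hn, c.mul n hn m hm, c.eq_iff (mM_lt _ _) (mM_lt _ _), comM, beq_iff_eq]

theorem sq_iff {m : ℕ} (hm : m < 64) : e m * e m = 1 ↔ mM m m = 0 := by
  rw [c.mul m hm m hm, c.eq_one (mM_lt _ _)]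

theorem order_two {m : ℕ} (hm : m < 64) : orderOf (e m) = 2 ↔ mM m m = 0 ∧ m ≠ 0 := by
  rw [Cfsg.Agent.Invol.orderOf_two_iff, c.sq_iff hm, ne_eq, c.eq_one hm]

theorem card : Nat.card ↥S = 64 := by
  rw [← Nat.card_fin 64]
  refine (Nat.card_eq_of_bijective (fun m : Fin 64 => (⟨e m, c.e_mem m.2⟩ : ↥S))
    ⟨fun m n h => Fin.ext (c.inj m m.2 n n.2 (congrArg Subtype.val h)), ?_⟩).symm
  rintro ⟨x, hx⟩
  obtain ⟨m, hm, rfl⟩ := (c.mem x).1 hx
  exact ⟨⟨m, hm⟩, rfl⟩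

/-- The elementary abelian group of order 16. -/
def sE : Subgroup G where
  carrier := {x | ∃ m < 16, e m = x}
  one_mem' := ⟨0, by norm_num, c.zero⟩
  mul_mem' := fun {x y} ⟨m, hm, hx⟩ ⟨n, hn, hy⟩ =>
    ⟨mM m n, ((by decide +kernel : ∀ m n : Fin 16, mM m n < 16 ∧ iM m < 16) ⟨m, hm⟩ ⟨n, hn⟩).1, by
      rw [← c.mul m (by omega) n (by omega), hx, hy]⟩
  inv_mem' := fun {x} ⟨m, hm, hx⟩ =>
    ⟨iM m, ((by decide +kernel : ∀ m n : Fin 16, mM m n < 16 ∧ iM m < 16) ⟨m, hm⟩ ⟨m, hm⟩).2, by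
      rw [← c.inv (by omega), hx]⟩

/-- The extraspecial subgroup of order 32. -/
def sQ : Subgroup G where
  carrier := {x | ∃ m < 64, oddM m = false ∧ e m = x}
  one_mem' := ⟨0, by norm_num, by decide, c.zero⟩
  mul_mem' := fun {x y} ⟨m, hm, pm, hx⟩ ⟨n, hn, pn, hy⟩ =>
    ⟨mM m n, mM_lt m n,
      ((by decide +kernel : ∀ m n : Fin 64, oddM m = false → oddM n = false →
        oddM (mM m n) = false ∧ oddM (iM m) = false) ⟨m, hm⟩ ⟨n, hn⟩ pm pn).1,
      by rw [← c.mul m hm n hn, hx, hy]⟩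
  inv_mem' := fun {x} ⟨m, hm, pm, hx⟩ =>
    ⟨iM m, iM_lt m,
      ((by decide +kernel : ∀ m n : Fin 64, oddM m = false → oddM n = false →
        oddM (mM m n) = false ∧ oddM (iM m) = false) ⟨m, hm⟩ ⟨m, hm⟩ pm pm).2,
      by rw [← c.inv hm, hx]⟩

end Coords

end Cfsg.Agent.Transfer.AEightSolv
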