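import Cfsg.Agent.Lib.Transfer.AEightSolv.Fpf
import Cfsg.Agent.Lib.Transfer.Fusion

/-!
# The order of the solvable group modulo its radical
-/

set_option autoImplicit false
set_option linter.style.haveILetI false
set_option linter.unusedSectionVars false
set_option maxRecDepth 100000

namespace Cfsg.Agent.Transfer.AEightSolv

open Subgroup

/-- Quadruples of involutions of `Q` forming a symplectic basis. -/
def tup : List (ℕ × ℕ × ℕ × ℕ) :=
  ((List.range 64).filter invQ).flatMap fun a =>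
    ((List.range 64).filter fun d => invQ d && !comM a d).flatMap fun d =>
      ((List.range 64).filter fun b => invQ b && comM a b && comM d b).flatMap fun b =>
        ((List.range 64).filter fun c => invQ c && comM a c && comM d c && !comM b c).map fun c => (a, d, b, c)

/-- a factor selected by a bit -/
def pick (eps i x : ℕ) : ℕ := bif eps.testBit i then x else 0

/-- the products of a quadruple and `z` -/
def prod4 (t : ℕ × ℕ × ℕ × ℕ) (eps : ℕ) : ℕ :=
  mM (mM (mM (mM (pick eps 0 t.1) (pick eps 1 t.2.1)) (pick eps 2 t.2.2.1)) (pick eps 3 t.2.2.2)) (pick eps 4 15)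

/-- the code of a quadruple -/
def enc (t : ℕ × ℕ × ℕ × ℕ) : ℕ := ((t.1 * 64 + t.2.1) * 64 + t.2.2.1) * 64 + t.2.2.2

theorem tup_len : tup.length = 1152 := by decide +kernel

theorem tup_chain : ((tup.map enc).zip (tup.map enc).tail).all (fun p => Nat.blt p.1 p.2) = true := by decide +kernel

/-- the coordinates of `g`, up to `z`, read off from commutation with the quadruple -/
def coef (t : ℕ × ℕ × ℕ × ℕ) (g : ℕ) : ℕ :=
  (bif comM t.2.1 g then 0 else 1) + (bif comM t.1 g then 0 else 2) +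
    (bif comM t.2.2.2 g then 0 else 4) + (bif comM t.2.2.1 g then 0 else 8)

theorem tup_coef : (tup.all fun t => [16, 32, 3, 5].all fun g =>
    let c := coef t g
    prod4 t c == g || prod4 t (c + 16) == g) = true := by
  decide +kernel

theorem coef_lt (t : ℕ × ℕ × ℕ × ℕ) (g : ℕ) : coef t g < 16 := by
  unfold coef
  cases comM t.2.1 g <;> cases comM t.1 g <;> cases comM t.2.2.2 g <;> cases comM t.2.2.1 g <;> decide

theorem tup_gen : (tup.all fun t => [16, 32, 3, 5].all fun g => (List.range 32).any fun eps => prod4 t eps == g) = true := by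
  rw [List.all_eq_true]
  intro t ht
  rw [List.all_eq_true]
  intro g hg
  rw [List.any_eq_true]
  have h := List.all_eq_true.1 (List.all_eq_true.1 tup_coef t ht) g hg
  have hlt := coef_lt t g
  rcases Bool.or_eq_true _ _ ▸ h with e | e
  · exact ⟨coef t g, List.mem_range.2 (by omega), e⟩
  · exact ⟨coef t g + 16, List.mem_range.2 (by omega), e⟩

theorem base_gen : ∀ m : Fin 64, oddM m = false → ∃ eps : Fin 32, prod4 (16, 5, 32, 3) eps = m := by decide +kernel

theorem Q_center : ∀ m : Fin 64, oddM m = false →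
    (∀ n : Fin 64, oddM n = false → comM m n = true) → (m : ℕ) = 0 ∨ (m : ℕ) = 15 := by
  decide +kernel

theorem mem_tup {a d b c : ℕ} : (a, d, b, c) ∈ tup ↔ a < 64 ∧ d < 64 ∧ b < 64 ∧ c < 64 ∧ invQ a = true ∧
    invQ d = true ∧ invQ b = true ∧ invQ c = true ∧ comM a d = false ∧ comM a b = true ∧ comM d b = true ∧
    comM a c = true ∧ comM d c = true ∧ comM b c = false := by
  simp only [tup, List.mem_flatMap, List.mem_map, List.mem_filter, List.mem_range, Bool.and_eq_true,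
    Bool.not_eq_true', Prod.mk.injEq]
  constructor
  · rintro ⟨a', ⟨ha, ha'⟩, d', ⟨hd, hd', hd''⟩, b', ⟨hb, ⟨hb', hb''⟩, hb'''⟩, c', ⟨hc, ⟨⟨hc', hc''⟩, hc'''⟩, hc4⟩,
      rfl, rfl, rfl, rfl⟩
    exact ⟨ha, hd, hb, hc, ha', hd', hb', hc', hd'', hb'', hb''', hc'', hc''', hc4⟩
  · rintro ⟨ha, hd, hb, hc, ha', hd', hb', hc', h1, h2, h3, h4, h5, h6⟩
    exact ⟨a, ⟨ha, ha'⟩, d, ⟨hd, hd', h1⟩, b, ⟨hb, ⟨hb', h2⟩, h3⟩, c, ⟨hc, ⟨⟨hc', h4⟩, h5⟩, h6⟩, rfl, rfl, rfl, rfl⟩

theorem invQ_iff {m : ℕ} : invQ m = true ↔ oddM m = false ∧ mM m m = 0 ∧ m ≠ 0 ∧ m ≠ 15 := by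
  simp [invQ, and_assoc]

theorem tup_nodup : tup.Nodup := by
  have h := tup_chain
  have key : ∀ l : List ℕ, (l.zip l.tail).all (fun p => Nat.blt p.1 p.2) = true → l.Pairwise (· < ·) := by
    intro l
    induction l with
    | nil => intro _; exact List.Pairwise.nil
    | cons x l ih =>
      intro hl
      cases l with
      | nil => exact List.pairwise_singleton _ _
      | cons y l =>
        simp only [List.tail_cons, List.zip_cons_cons, List.all_cons, Bool.and_eq_true] at hl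
        have h2 := ih hl.2
        refine List.pairwise_cons.2 ⟨fun w hw => ?_, h2⟩
        have hxy : x < y := Nat.le_of_ble_eq_true hl.1
        rcases List.mem_cons.1 hw with rfl | hw'
        · exact hxy
        · exact hxy.trans ((List.pairwise_cons.1 h2).1 w hw')
  exact List.Nodup.of_map enc ((key _ h).imp fun {a b} h => h.ne)

namespace LocalQ

variable {X : Type*} [Group X] [Finite X] {T : Sylow 2 X} {e : ℕ → X} (h : LocalQ X T e)
include h

/-- the image of a quadruple of codes -/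
def img (_h : LocalQ X T e) (t : ℕ × ℕ × ℕ × ℕ) : X × X × X × X := (e t.1, e t.2.1, e t.2.2.1, e t.2.2.2)

theorem img_inj {s t : ℕ × ℕ × ℕ × ℕ} (hs : s ∈ tup) (ht : t ∈ tup) (he : h.img s = h.img t) : s = t := by
  obtain ⟨a, d, b, c⟩ := s
  obtain ⟨a', d', b', c'⟩ := t
  obtain ⟨h1, h2, h3, h4, -⟩ := mem_tup.1 hs
  obtain ⟨h1', h2', h3', h4', -⟩ := mem_tup.1 ht
  simp only [img, Prod.mk.injEq] at he
  rw [(h.c.eq_iff h1 h1').1 he.1, (h.c.eq_iff h2 h2').1 he.2.1, (h.c.eq_iff h3 h3').1 he.2.2.1,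
    (h.c.eq_iff h4 h4').1 he.2.2.2]

theorem conj_invQ (x : X) {m : ℕ} (hm : m < 64) (hmq : invQ m = true) :
    ∃ k < 64, invQ k = true ∧ e k = x * e m * x⁻¹ := by
  obtain ⟨h0, hsq, hne, hne'⟩ := invQ_iff.1 hmq
  obtain ⟨k, hk, hk0, hke⟩ := h.conj_code x hm h0
  refine ⟨k, hk, invQ_iff.2 ⟨hk0, h.sq_conj hm hk hke (Or.inl rfl) hsq, ?_, ?_⟩, hke⟩
  · rintro rfl
    rw [h.c.zero] at hke
    exact hne ((h.c.eq_one hm).1 (conj_eq_one_iff.1 hke.symm))
  · rintro rfl
    have h1 : e m = e 15 := by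
      calc e m = x⁻¹ * (x * e m * x⁻¹) * x⁻¹⁻¹ := by group
        _ = x⁻¹ * e 15 * x⁻¹⁻¹ := by rw [hke]
        _ = e 15 := h.fix_Z (h.toLocal.mem_Z_of_code (Or.inr rfl))
    exact hne' ((h.c.eq_iff hm (by norm_num)).1 h1)

theorem conj_com (x : X) {m n k l : ℕ} (hm : m < 64) (hn : n < 64) (hk : k < 64) (hl : l < 64)
    (hke : e k = x * e m * x⁻¹) (hle : e l = x * e n * x⁻¹) : comM k l = comM m n := by
  rw [Bool.eq_iff_iff, ← h.c.comm_iff hk hl, ← h.c.comm_iff hm hn, hke, hle]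
  constructor
  · intro e1
    have e2 : x * (e m * e n) * x⁻¹ = x * (e n * e m) * x⁻¹ := by
      calc _ = x * e m * x⁻¹ * (x * e n * x⁻¹) := by group
        _ = _ := by rw [e1]; group
    exact mul_left_cancel (mul_right_cancel e2)
  · intro e1
    calc x * e m * x⁻¹ * (x * e n * x⁻¹) = x * (e m * e n) * x⁻¹ := by group
      _ = _ := by rw [e1]; group

/-- The set of images, closed under conjugation. -/
def bases : SubMulAction (ConjAct X) (X × X × X × X) where
  carrier := {p | ∃ t ∈ tup, h.img t = p}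
  smul_mem' := by
    rintro x _ ⟨⟨a, d, b, c⟩, ht, rfl⟩
    obtain ⟨ha, hd, hb, hc, qa, qd, qb, qc, c1, c2, c3, c4, c5, c6⟩ := mem_tup.1 ht
    set g := ConjAct.ofConjAct x
    obtain ⟨a', ha', qa', ea⟩ := h.conj_invQ g ha qa
    obtain ⟨d', hd', qd', ed⟩ := h.conj_invQ g hd qd
    obtain ⟨b', hb', qb', eb⟩ := h.conj_invQ g hb qb
    obtain ⟨c', hc', qc', ec⟩ := h.conj_invQ g hc qc
    refine ⟨(a', d', b', c'), mem_tup.2 ⟨ha', hd', hb', hc', qa', qd', qb', qc', ?_, ?_, ?_, ?_, ?_, ?_⟩, ?_⟩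
    · rw [h.conj_com g ha hd ha' hd' ea ed]; exact c1
    · rw [h.conj_com g ha hb ha' hb' ea eb]; exact c2
    · rw [h.conj_com g hd hb hd' hb' ed eb]; exact c3
    · rw [h.conj_com g ha hc ha' hc' ea ec]; exact c4
    · rw [h.conj_com g hd hc hd' hc' ed ec]; exact c5
    · rw [h.conj_com g hb hc hb' hc' eb ec]; exact c6
    · simp only [img, Prod.smul_mk, ConjAct.smul_def, ea, ed, eb, ec, g]

theorem bases_card : Nat.card ↥h.bases = 1152 := by
  classical
  have h1 : tup.toFinset.card = 1152 := by rw [List.toFinset_card_of_nodup tup_nodup, tup_len]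
  rw [← h1, ← Nat.card_eq_finsetCard]
  refine (Nat.card_eq_of_bijective (fun t : {t // t ∈ tup.toFinset} =>
    (⟨h.img t.1, t.1, List.mem_toFinset.1 t.2, rfl⟩ : ↥h.bases)) ⟨fun s t he => Subtype.ext
      (h.img_inj (List.mem_toFinset.1 s.2) (List.mem_toFinset.1 t.2) (congrArg Subtype.val he)), ?_⟩).symm
  rintro ⟨p, t, ht, rfl⟩
  exact ⟨⟨t, List.mem_toFinset.2 ht⟩, rfl⟩

theorem cent_Q {g : X} (hg : ∀ x ∈ h.c.sQ, g * x = x * g) : g ∈ h.toLocal.Zset := by
  haveI := h.sol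
  haveI : Fact (Nat.Prime 2) := ⟨Nat.prime_two⟩
  have hgQ : g ∈ h.c.sQ := by
    refine h.rad ▸ Grp.centralizer_pCore_le h.odd (mem_centralizer_iff.2 fun x hx => ?_)
    exact (hg x (h.rad ▸ hx)).symm
  obtain ⟨m, hm, hm0, rfl⟩ := hgQ
  exact h.toLocal.mem_Z_of_code (Q_center ⟨m, hm⟩ hm0 fun n hn =>
    (h.c.comm_iff hm n.2).1 (hg _ ((h.c.e_mem_sQ n.2).2 hn)))

theorem fix_prod {g : X} {t : ℕ × ℕ × ℕ × ℕ} (ht : t.1 < 64 ∧ t.2.1 < 64 ∧ t.2.2.1 < 64 ∧ t.2.2.2 < 64)
    (h1 : g * e t.1 = e t.1 * g) (h2 : g * e t.2.1 = e t.2.1 * g) (h3 : g * e t.2.2.1 = e t.2.2.1 * g)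
    (h4 : g * e t.2.2.2 = e t.2.2.2 * g) (eps : ℕ) : g * e (prod4 t eps) = e (prod4 t eps) * g := by
  obtain ⟨l1, l2, l3, l4⟩ := ht
  have hp : ∀ i x, x < 64 → pick eps i x < 64 := fun i x hx => by
    unfold pick; cases eps.testBit i <;> simp [hx]
  have hc : ∀ i x, g * e x = e x * g → Commute g (e (pick eps i x)) := fun i x hx => by
    unfold pick
    cases eps.testBit i
    · show Commute g (e 0)
      rw [h.c.zero]; exact Commute.one_right g
    · exact hx
  have m : ∀ {a b : ℕ}, a < 64 → b < 64 → Commute g (e a) → Commute g (e b) → Commute g (e (mM a b)) :=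
    fun {a b} ha hb ca cb => by rw [← h.c.mul a ha b hb]; exact ca.mul_right cb
  exact (m (mM_lt _ _) (hp 4 15 (by norm_num)) (m (mM_lt _ _) (hp 3 _ l4) (m (mM_lt _ _) (hp 2 _ l3)
    (m (hp 0 _ l1) (hp 1 _ l2) (hc 0 _ h1) (hc 1 _ h2)) (hc 2 _ h3)) (hc 3 _ h4)) (hc 4 15 (h.zc g))).eq

theorem stab_card (p : ↥h.bases) : Nat.card ↥(MulAction.stabilizer (ConjAct X) p) = 2 := by
  have hiff : ∀ x : ConjAct X, x ∈ MulAction.stabilizer (ConjAct X) p ↔ ConjAct.ofConjAct x ∈ h.toLocal.Zset := by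
    obtain ⟨q, ⟨a, d, b, c⟩, ht, rfl⟩ := p
    obtain ⟨ha, hd, hb, hc, -⟩ := mem_tup.1 ht
    intro x
    set g := ConjAct.ofConjAct x
    have he : ∀ u : X, x • u = g * u * g⁻¹ := fun u => ConjAct.smul_def x u
    rw [MulAction.mem_stabilizer_iff, Subtype.ext_iff, SetLike.val_smul]
    simp only [img, Prod.smul_mk, Prod.mk.injEq, he, mul_inv_eq_iff_eq_mul]
    constructor
    · rintro ⟨h1, h2, h3, h4⟩
      refine h.cent_Q ?_
      have hall := fun eps => h.fix_prod (g := g) (t := (a, d, b, c)) ⟨ha, hd, hb, hc⟩ h1 h2 h3 h4 eps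
      have hgen : ∀ y ∈ [16, 32, 3, 5], g * e y = e y * g := fun y hy => by
        have hg := tup_gen
        simp only [List.all_eq_true, List.any_eq_true, List.mem_range, beq_iff_eq] at hg
        obtain ⟨eps, -, he⟩ := hg _ ht y hy
        rw [← he]; exact hall eps
      rintro _ ⟨m, hm, hm0, rfl⟩
      obtain ⟨eps, he⟩ := base_gen ⟨m, hm⟩ hm0
      rw [show m = prod4 (16, 5, 32, 3) eps from he.symm]
      exact h.fix_prod (t := (16, 5, 32, 3)) (by norm_num) (hgen 16 (by simp)) (hgen 5 (by simp))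
        (hgen 32 (by simp)) (hgen 3 (by simp)) eps
    · intro hg
      rcases h.toLocal.mem_Z.1 hg with e1 | e1 <;> rw [e1]
      · simp
      · exact ⟨(h.zc _).symm, (h.zc _).symm, (h.zc _).symm, (h.zc _).symm⟩
  have hz : Nat.card ↥h.toLocal.Zset = 2 := by
    show Nat.card ↥(zpowers (e 15)) = 2
    rw [Nat.card_zpowers, h.c.z_order]
  rw [← hz]
  exact Nat.card_congr ((ConjAct.ofConjAct (G := X)).toEquiv.subtypeEquiv hiff)

theorem card_dvd : Nat.card X ∣ 2304 := by
  classical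
  haveI : Fintype (Quotient (MulAction.orbitRel (ConjAct X) ↥h.bases)) := Fintype.ofFinite _
  have h1 := Nat.card_congr (MulAction.selfEquivSigmaOrbits' (ConjAct X) ↥h.bases)
  rw [Nat.card_sigma, h.bases_card] at h1
  have hC : Nat.card (ConjAct X) = Nat.card X := Nat.card_congr ConjAct.ofConjAct.toEquiv
  have hall : ∀ p : ↥h.bases, Nat.card (MulAction.orbit (ConjAct X) p) * 2 = Nat.card X := fun p => by
    rw [← h.stab_card p, ← Nat.card_prod, ← hC]
    exact Nat.card_congr (MulAction.orbitProdStabilizerEquivGroup (ConjAct X) p)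
  refine ⟨Fintype.card (Quotient (MulAction.orbitRel (ConjAct X) ↥h.bases)), ?_⟩
  rw [show 2304 = 1152 * 2 by norm_num, h1, Finset.sum_mul, mul_comm, ← Finset.card_univ, ← smul_eq_mul,
    ← Finset.sum_const]
  refine Finset.sum_congr rfl fun q _ => ?_
  rw [MulAction.orbitRel.Quotient.orbit_eq_orbit_out q Quotient.out_eq', hall]

theorem not_T_normal : ¬ (T : Subgroup X).Normal := fun hn => by
  haveI : Fact (Nat.Prime 2) := ⟨Nat.prime_two⟩
  have h1 : (T : Subgroup X) ≤ h.c.sQ := h.rad ▸ Grp.le_pCore hn T.isPGroup'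
  have h2 := Subgroup.card_dvd_of_le h1
  rw [h.c.card, h.c.sQ_card] at h2
  norm_num at h2

/-- The odd part: index two, meeting `T` in `Q`. -/
theorem exists_D : ∃ (k : ℕ) (D : Subgroup X), (k = 3 ∨ k = 9) ∧ Nat.card X = 64 * k ∧ h.c.sQ ≤ D ∧
    e 1 ∉ D ∧ (∀ x : X, x ∈ D ∨ e 1 * x ∈ D) ∧ (∀ x : X, x * x ∈ D) ∧ D.Normal ∧
    ∀ x ∈ D, x ^ k ∈ h.c.sQ := by
  classical
  haveI : Fact (Nat.Prime 2) := ⟨Nat.prime_two⟩
  obtain ⟨k, hk⟩ : 64 ∣ Nat.card X := h.c.card ▸ Subgroup.card_subgroup_dvd_card _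
  have hodd : ¬ 2 ∣ k := by
    intro hd
    refine T.not_dvd_index ?_
    have h1 := (T : Subgroup X).card_mul_index
    rw [h.c.card, hk] at h1
    rwa [Nat.eq_of_mul_eq_mul_left (by norm_num) h1]
  have hk9 : k ∣ 9 := by
    have h1 : k ∣ 36 := by
      have h2 := h.card_dvd
      rw [hk, show 2304 = 64 * 36 by norm_num] at h2
      exact Nat.dvd_of_mul_dvd_mul_left (by norm_num) h2
    exact (((Nat.Prime.coprime_iff_not_dvd Nat.prime_two).2 hodd).symm.pow_right 2).dvd_of_dvd_mul_left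
      (show k ∣ 2 ^ 2 * 9 from h1)
  have hk1 : k ≠ 1 := by
    rintro rfl
    refine h.not_T_normal ?_
    have : (T : Subgroup X) = ⊤ := Subgroup.eq_top_of_card_eq _ (by rw [h.c.card, hk])
    rw [this]; infer_instance
  have hk39 : k = 3 ∨ k = 9 := by
    have := Nat.le_of_dvd (by norm_num) hk9
    interval_cases k <;> simp_all
  haveI hQn := h.Q_normal
  let π := QuotientGroup.mk' h.c.sQ
  have hq : Nat.card (X ⧸ h.c.sQ) = 2 * k := by
    have h1 := card_eq_card_quotient_mul_card_subgroup h.c.sQ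
    rw [hk, h.c.sQ_card] at h1
    omega
  let P := T.mapSurjective (f := π) (QuotientGroup.mk'_surjective _)
  have hP : Nat.card ↥(P : Subgroup (X ⧸ h.c.sQ)) = 2 := by
    obtain ⟨n, hn⟩ := IsPGroup.iff_card.1 P.isPGroup'
    have h1 := (P : Subgroup (X ⧸ h.c.sQ)).card_mul_index
    rw [hn, hq] at h1
    rw [hn]
    rcases n with _ | _ | n
    · exfalso
      rw [pow_zero, one_mul] at h1
      exact P.not_dvd_index (h1 ▸ dvd_mul_right 2 k)
    · rfl
    · exfalso
      refine hodd ⟨2 ^ n * (P : Subgroup (X ⧸ h.c.sQ)).index, ?_⟩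
      rw [pow_succ, pow_succ] at h1
      linarith
  obtain ⟨P', N, hN, hNc⟩ := Transfer.hasNormalPComplement_of_control P (fun x hx y hy ⟨g, hg⟩ => by
    refine ⟨1, one_mem _, ?_⟩
    rw [one_mul, inv_one, mul_one]
    by_cases hx1 : x = 1
    · rw [← hg, hx1]; group
    · have hy1 : y ≠ 1 := fun e1 => hx1 (conj_eq_one_iff.1 (hg.trans e1))
      have := Nat.card_eq_two_iff' (⟨1, one_mem _⟩ : ↥(P : Subgroup (X ⧸ h.c.sQ))) |>.1 hP
      obtain ⟨w, -, hw⟩ := this
      exact congrArg Subtype.val ((hw ⟨x, hx⟩ fun e1 => hx1 (congrArg Subtype.val e1)).trans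
        (hw ⟨y, hy⟩ fun e1 => hy1 (congrArg Subtype.val e1)).symm))
  have hNk : Nat.card N = k := by
    have h1 := hNc.card_mul
    rw [hq, show Nat.card ↥(P' : Subgroup (X ⧸ h.c.sQ)) = 2 from (Nat.card_congr (P'.equiv P).toEquiv).trans hP] at h1
    omega
  haveI := hN
  refine ⟨k, N.comap π, hk39, hk, fun x hx => ?_, fun hs => ?_, fun x => ?_, fun x => ?_, inferInstance,
    fun x hx => ?_⟩
  · rw [mem_comap, show π x = 1 from (QuotientGroup.eq_one_iff x).2 hx]; exact one_mem _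
  all_goals
    have hidx : N.index = 2 := by
      have h1 := N.card_mul_index
      rw [hNk, hq] at h1
      exact Nat.eq_of_mul_eq_mul_left (by rcases hk39 with rfl | rfl <;> norm_num) (h1.trans (mul_comm 2 k))
  · have h1 : π (e 1) ^ k = 1 := by
      have h2 := pow_card_eq_one' (G := N) (x := ⟨π (e 1), hs⟩)
      rw [hNk] at h2
      exact congrArg Subtype.val h2
    have h2 : π (e 1) ^ 2 = 1 := by rw [← map_pow, pow_two, h.c.E_sq (by norm_num), map_one]
    have h3 : π (e 1) = 1 := by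
      obtain ⟨j, hj⟩ : Odd k := Nat.odd_iff.2 (by omega)
      rwa [hj, pow_succ, pow_mul, h2, one_pow, one_mul] at h1
    have h4 := (QuotientGroup.eq_one_iff (N := h.c.sQ) (e 1)).1 h3
    rw [h.c.e_mem_sQ (by norm_num)] at h4
    exact absurd h4 (by decide)
  · by_cases hx : π x ∈ N
    · exact Or.inl hx
    · refine Or.inr ?_
      rw [mem_comap, map_mul, Subgroup.mul_mem_iff_of_index_two hidx]
      have hsN : π (e 1) ∉ N := fun hs => by
        have h1 := pow_card_eq_one' (G := N) (x := ⟨π (e 1), hs⟩)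
        rw [hNk] at h1
        have h1' : π (e 1) ^ k = 1 := congrArg Subtype.val h1
        have h2 : π (e 1) ^ 2 = 1 := by rw [← map_pow, pow_two, h.c.E_sq (by norm_num), map_one]
        obtain ⟨j, hj⟩ : Odd k := Nat.odd_iff.2 (by omega)
        rw [hj, pow_succ, pow_mul, h2, one_pow, one_mul] at h1'
        have h4 := (QuotientGroup.eq_one_iff (N := h.c.sQ) (e 1)).1 h1'
        rw [h.c.e_mem_sQ (by norm_num)] at h4
        exact absurd h4 (by decide)
      tauto
  · rw [mem_comap, map_mul]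
    exact Subgroup.mul_self_mem_of_index_two hidx _
  · rw [← QuotientGroup.eq_one_iff (N := h.c.sQ), QuotientGroup.mk_pow]
    have h2 := pow_card_eq_one' (G := N) (x := ⟨π x, hx⟩)
    rw [hNk] at h2
    exact congrArg Subtype.val h2

end LocalQ

end Cfsg.Agent.Transfer.AEightSolv
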