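import Cfsg.Agent.Lib.Transfer.AEightSolv.Facts
import Cfsg.Agent.Lib.Grp.Solvable

/-!
# The 2-radical of a solvable group with this Sylow subgroup and central `z`
-/

set_option autoImplicit false
set_option linter.style.haveILetI false
set_option linter.unusedSectionVars false
set_option maxRecDepth 100000

namespace Cfsg.Agent.Transfer.AEightSolv

open Subgroup

theorem odd_product : ∀ m n : Fin 16, oddM m = true → oddM n = true → oddM (mM m n) = false := by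
  decide +kernel

theorem om_comm : ∀ (m : Fin 16) (n : Fin 64), oddM m = false →
    mM (cM m n) (iM n) = 0 ∨ mM (cM m n) (iM n) = 15 := by
  decide +kernel

theorem cent_om : ∀ n : Fin 64, 16 ≤ (n : ℕ) → ∃ m : Fin 16, oddM m = false ∧ comM n m = false := by
  decide +kernel

theorem outer_even : ∀ m : Fin 64, 16 ≤ (m : ℕ) → mM m m = 0 → oddM m = false ∧ ∀ n : Fin 64,
    (mM (cM n m) (iM m) = 0 ∨ mM (cM n m) (iM m) = 15) → oddM n = false := by
  decide +kernel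

/-- The standing hypotheses: a solvable group with trivial core and central `z`. -/
structure Local (X : Type*) [Group X] [Finite X] (T : Sylow 2 X) (e : ℕ → X) : Prop where
  c : Coords (T : Subgroup X) e
  sol : Group.IsSolvable X
  odd : Cfsg.pPrimeCore 2 X = ⊥
  zc : ∀ x : X, x * e 15 = e 15 * x

namespace Local

variable {X : Type*} [Group X] [Finite X] {T : Sylow 2 X} {e : ℕ → X} (h : Local X T e)
include h

/-- The two elements of the centre of `T`. -/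
def Zset (_h : Local X T e) : Subgroup X := zpowers (e 15)

theorem mem_Z {x : X} : x ∈ h.Zset ↔ x = 1 ∨ x = e 15 := by
  constructor
  · rintro ⟨i, rfl⟩
    rcases Int.even_or_odd i with ⟨j, rfl⟩ | ⟨j, rfl⟩
    · left
      show e 15 ^ (j + j) = 1
      rw [zpow_add, ← (Commute.refl (e 15)).mul_zpow, h.c.z_sq, one_zpow]
    · right
      show e 15 ^ (2 * j + 1) = e 15
      rw [zpow_add_one, zpow_mul, zpow_ofNat, pow_two, h.c.z_sq, one_zpow, one_mul]
  · rintro (rfl | rfl)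
    · exact one_mem _
    · exact mem_zpowers _

theorem Z_conj (x : X) {w : X} (hw : w ∈ h.Zset) : x * w * x⁻¹ = w := by
  rcases h.mem_Z.1 hw with rfl | rfl
  · group
  · rw [h.zc x, mul_inv_cancel_right]

theorem mem_Z_of_code {m : ℕ} (hm : m = 0 ∨ m = 15) : e m ∈ h.Zset := by
  rcases hm with rfl | rfl
  · exact h.mem_Z.2 (Or.inl h.c.zero)
  · exact h.mem_Z.2 (Or.inr rfl)

theorem code_of_mem_Z {m : ℕ} (hm : m < 64) (hmem : e m ∈ h.Zset) : m = 0 ∨ m = 15 := by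
  rcases h.mem_Z.1 hmem with e1 | e1
  · exact Or.inl ((h.c.eq_one hm).1 e1)
  · exact Or.inr ((h.c.eq_iff hm (by norm_num)).1 e1)

theorem comm_code {m n : ℕ} (hm : m < 64) (hn : n < 64) :
    e m * e n * (e m)⁻¹ * (e n)⁻¹ = e (mM (cM m n) (iM n)) := by
  rw [h.c.conj hm hn, h.c.inv hn, h.c.mul _ (cM_lt _ _) _ (iM_lt _)]

theorem pCore_le : Cfsg.pCore 2 X ≤ (T : Subgroup X) := by
  haveI : Fact (Nat.Prime 2) := ⟨Nat.prime_two⟩
  exact Grp.pCore_le_sylow T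

/-- The elements acting on the radical modulo `z` trivially lie in it. -/
theorem mem_pCore {g : X} (hg : ∀ r ∈ Cfsg.pCore 2 X, g * r * g⁻¹ * r⁻¹ ∈ h.Zset) : g ∈ Cfsg.pCore 2 X := by
  haveI : Fact (Nat.Prime 2) := ⟨Nat.prime_two⟩
  haveI := h.sol
  haveI hRn : (Cfsg.pCore 2 X).Normal := Grp.pCore_isNormal
  set R := Cfsg.pCore 2 X
  let K : Subgroup X :=
    { carrier := {g | ∀ r ∈ R, g * r * g⁻¹ * r⁻¹ ∈ h.Zset}
      one_mem' := fun r _ => by simp
      mul_mem' := fun {a b} ha hb r hr => by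
        rw [show a * b * r * (a * b)⁻¹ * r⁻¹ = a * (b * r * b⁻¹ * r⁻¹) * a⁻¹ * (a * r * a⁻¹ * r⁻¹) by group,
          h.Z_conj a (hb r hr)]
        exact mul_mem (hb r hr) (ha r hr)
      inv_mem' := fun {a} ha r hr => by
        have h1 := ha (a⁻¹ * r * a) (by simpa using hRn.conj_mem r hr a⁻¹)
        rw [show a * (a⁻¹ * r * a) * a⁻¹ * (a⁻¹ * r * a)⁻¹ = (a⁻¹ * r * a⁻¹⁻¹ * r⁻¹)⁻¹ by group] at h1
        exact inv_mem_iff.1 h1 }
  have hKn : K.Normal := ⟨fun a ha x r hr => by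
    have h1 := ha (x⁻¹ * r * x) (by simpa using hRn.conj_mem r hr x⁻¹)
    rw [show x * a * x⁻¹ * r * (x * a * x⁻¹)⁻¹ * r⁻¹ =
      x * (a * (x⁻¹ * r * x) * a⁻¹ * (x⁻¹ * r * x)⁻¹) * x⁻¹ by group, h.Z_conj x h1]
    exact h1⟩
  have hK2 : IsPGroup 2 K := by
    intro k
    have hk2 : (k : X) * k ∈ R := Grp.centralizer_pCore_le h.odd (mem_centralizer_iff.2 fun r hr => by
      have hw := k.2 r hr
      obtain ⟨w, hwdef⟩ : ∃ w, w = (k : X) * r * (k : X)⁻¹ * r⁻¹ := ⟨_, rfl⟩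
      rw [← hwdef] at hw
      have h1 : (k : X) * r * (k : X)⁻¹ = w * r := by rw [hwdef, inv_mul_cancel_right]
      have hww : w * w = 1 := by
        rcases h.mem_Z.1 hw with e1 | e1 <;> rw [e1] <;> [exact one_mul 1; exact h.c.z_sq]
      have h2 : (k : X) * k * r * ((k : X) * k)⁻¹ = r := by
        rw [show (k : X) * k * r * ((k : X) * k)⁻¹ = (k : X) * ((k : X) * r * (k : X)⁻¹) * (k : X)⁻¹ by group, h1,
          show (k : X) * (w * r) * (k : X)⁻¹ = (k : X) * w * (k : X)⁻¹ * ((k : X) * r * (k : X)⁻¹) by group,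
          h.Z_conj _ hw, h1, ← mul_assoc, hww, one_mul]
      exact (mul_inv_eq_iff_eq_mul.1 h2).symm)
    obtain ⟨n, hn⟩ := (Grp.pCore_isPGroup (p := 2) (G := X)) ⟨_, hk2⟩
    refine ⟨n + 1, Subtype.ext ?_⟩
    have := congrArg Subtype.val hn
    simp only [SubmonoidClass.coe_pow, OneMemClass.coe_one] at this ⊢
    rw [pow_succ', pow_mul, pow_two]
    exact this
  exact Grp.le_pCore hKn hK2 hg

theorem om_le : h.c.sE ⊓ h.c.sQ ≤ Cfsg.pCore 2 X := by
  intro x hx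
  obtain ⟨⟨m, hm, rfl⟩, hQ⟩ := hx
  refine h.mem_pCore fun r hr => ?_
  obtain ⟨n, hn, rfl⟩ := (h.c.mem r).1 (h.pCore_le hr)
  rw [h.comm_code (by omega) hn]
  exact h.mem_Z_of_code (om_comm ⟨m, hm⟩ ⟨n, hn⟩ ((h.c.e_mem_sQ (by omega)).1 hQ))

/-- `E` is normal, or the radical is `Q` and `ω = E ∩ Q` is moved. -/
theorem radical : h.c.sE.Normal ∨ (Cfsg.pCore 2 X = h.c.sQ ∧
    ∃ x : X, ∃ w ∈ h.c.sE ⊓ h.c.sQ, x * w * x⁻¹ ∉ h.c.sE ⊓ h.c.sQ) := by
  haveI : Fact (Nat.Prime 2) := ⟨Nat.prime_two⟩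
  haveI := h.sol
  haveI hRn : (Cfsg.pCore 2 X).Normal := Grp.pCore_isNormal
  by_cases hER : h.c.sE ≤ Cfsg.pCore 2 X
  · exact Or.inl ⟨fun a ha x =>
      h.c.sE_unique _ Grp.pCore_isPGroup hER x (fun b hb => hRn.conj_mem b (hER hb) x) a ha⟩
  right
  have hRE : ∀ m < 16, e m ∈ Cfsg.pCore 2 X → oddM m = false := by
    intro m hm hmR
    by_contra hodd
    rw [Bool.not_eq_false] at hodd
    refine hER fun x hx => ?_
    obtain ⟨n, hn, rfl⟩ := hx
    have hev : ∀ k < 16, oddM k = false → e k ∈ Cfsg.pCore 2 X := fun k hk hk0 =>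
      h.om_le ⟨⟨k, hk, rfl⟩, ⟨k, by omega, hk0, rfl⟩⟩
    cases hno : oddM n with
    | false => exact hev n hn hno
    | true =>
      obtain ⟨k, hk, hke⟩ : e m * e n ∈ h.c.sE := mul_mem ⟨m, hm, rfl⟩ ⟨n, hn, rfl⟩
      have hk0 : oddM k = false := by
        rw [h.c.mul m (by omega) n (by omega)] at hke
        rw [(h.c.eq_iff (by omega) (mM_lt _ _)).1 hke]
        exact odd_product ⟨m, hm⟩ ⟨n, hn⟩ hodd hno
      rw [show e n = e m * (e m * e n) by rw [← mul_assoc, h.c.E_sq hm, one_mul], ← hke]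
      exact mul_mem hmR (hev k hk hk0)
  by_cases hmove : ∃ x : X, ∃ w ∈ h.c.sE ⊓ h.c.sQ, x * w * x⁻¹ ∉ h.c.sE ⊓ h.c.sQ
  swap
  · -- `ω` normal forces `E` into the radical
    exfalso
    push Not at hmove
    haveI : (h.c.sE ⊓ h.c.sQ).Normal := ⟨fun w hw x => hmove x w hw⟩
    set C := centralizer ((h.c.sE ⊓ h.c.sQ : Subgroup X) : Set X) with hC
    have hC2 : IsPGroup 2 C := by
      intro k
      have hk2 : (k : X) * k ∈ Cfsg.pCore 2 X := Grp.centralizer_pCore_le h.odd (mem_centralizer_iff.2 fun r hr => by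
        obtain ⟨w, hwdef⟩ : ∃ w, w = (k : X) * r * (k : X)⁻¹ * r⁻¹ := ⟨_, rfl⟩
        have hwR : w ∈ Cfsg.pCore 2 X := hwdef ▸ mul_mem (hRn.conj_mem r hr k) (inv_mem hr)
        have hwC : w ∈ C := by
          rw [hwdef, show (k : X) * r * (k : X)⁻¹ * r⁻¹ = (k : X) * (r * (k : X)⁻¹ * r⁻¹) by group]
          exact mul_mem k.2 (Subgroup.Normal.conj_mem inferInstance _ (inv_mem k.2) r)
        have hwo : w ∈ h.c.sE ⊓ h.c.sQ := by
          obtain ⟨n, hn, hne⟩ := (h.c.mem w).1 (h.pCore_le hwR)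
          have hn16 : n < 16 := by
            by_contra hge
            obtain ⟨m, hm0, hmc⟩ := cent_om ⟨n, hn⟩ (Nat.le_of_not_lt hge)
            have h1 : e m * e n = e n * e m := by
              rw [hne]
              exact mem_centralizer_iff.1 hwC _ ⟨⟨m, m.2, rfl⟩, ⟨m, by omega, hm0, rfl⟩⟩
            have h2 := (h.c.comm_iff hn (by omega)).1 h1.symm
            rw [h2] at hmc
            exact Bool.noConfusion hmc
          exact hne ▸ ⟨⟨n, hn16, rfl⟩, ⟨n, hn, hRE n hn16 (hne ▸ hwR), rfl⟩⟩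
        have h1 : (k : X) * r * (k : X)⁻¹ = w * r := by rw [hwdef, inv_mul_cancel_right]
        have hkw : (k : X) * w * (k : X)⁻¹ = w := by
          rw [← mem_centralizer_iff.1 k.2 w hwo, mul_inv_cancel_right]
        have hww : w * w = 1 := by rw [← pow_two]; exact h.c.sE_elem.2 w hwo.1
        have h2 : (k : X) * k * r * ((k : X) * k)⁻¹ = r := by
          rw [show (k : X) * k * r * ((k : X) * k)⁻¹ = (k : X) * ((k : X) * r * (k : X)⁻¹) * (k : X)⁻¹ by group, h1,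
            show (k : X) * (w * r) * (k : X)⁻¹ = (k : X) * w * (k : X)⁻¹ * ((k : X) * r * (k : X)⁻¹) by group,
            hkw, h1, ← mul_assoc, hww, one_mul]
        exact (mul_inv_eq_iff_eq_mul.1 h2).symm)
      obtain ⟨n, hn⟩ := (Grp.pCore_isPGroup (p := 2) (G := X)) ⟨_, hk2⟩
      refine ⟨n + 1, Subtype.ext ?_⟩
      have := congrArg Subtype.val hn
      simp only [SubmonoidClass.coe_pow, OneMemClass.coe_one] at this ⊢
      rw [pow_succ', pow_mul, pow_two]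
      exact this
    refine hER fun a ha => Grp.le_pCore (inferInstance : C.Normal) hC2 ?_
    exact mem_centralizer_iff.2 fun b hb => h.c.sE_comm hb.1 ha
  refine ⟨?_, hmove⟩
  obtain ⟨x, w, hw, hu⟩ := hmove
  have huR : x * w * x⁻¹ ∈ Cfsg.pCore 2 X := hRn.conj_mem w (h.om_le hw) x
  obtain ⟨m, hm, hme⟩ := (h.c.mem _).1 (h.pCore_le huR)
  have hm2 : mM m m = 0 := (h.c.sq_iff hm).1 (by
    rw [hme, show x * w * x⁻¹ * (x * w * x⁻¹) = x * (w * w) * x⁻¹ by group, ← pow_two, h.c.sE_elem.2 w hw.1]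
    group)
  have hm16 : 16 ≤ m := Nat.le_of_not_lt fun hlt => hu (hme ▸ ⟨⟨m, hlt, rfl⟩, ⟨m, hm, hRE m hlt (hme ▸ huR), rfl⟩⟩)
  have hRQ : Cfsg.pCore 2 X ≤ h.c.sQ := by
    intro r hr
    obtain ⟨n, hn, rfl⟩ := (h.c.mem r).1 (h.pCore_le hr)
    refine ⟨n, hn, (outer_even ⟨m, hm⟩ hm16 hm2).2 ⟨n, hn⟩ ?_, rfl⟩
    obtain ⟨k, hk, hke⟩ := (h.c.mem _).1 (h.pCore_le (hRn.conj_mem _ hr x⁻¹))
    obtain ⟨w', hw', hwe⟩ := hw.1
    have hw0 : oddM w' = false := (h.c.e_mem_sQ (by omega)).1 (hwe ▸ hw.2)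
    have h1 : e w' * e k * (e w')⁻¹ * (e k)⁻¹ ∈ h.Zset := by
      rw [h.comm_code (by omega) hk]
      exact h.mem_Z_of_code (om_comm ⟨w', hw'⟩ ⟨k, hk⟩ hw0)
    have h2 : e n * e m * (e n)⁻¹ * (e m)⁻¹ ∈ h.Zset := by
      rw [hke, hwe] at h1
      rw [hme, show e n * (x * w * x⁻¹) * (e n)⁻¹ * (x * w * x⁻¹)⁻¹ =
        x * (w * (x⁻¹ * e n * x⁻¹⁻¹) * w⁻¹ * (x⁻¹ * e n * x⁻¹⁻¹)⁻¹)⁻¹ * x⁻¹ by group]
      rw [h.Z_conj x (inv_mem h1)]
      exact inv_mem h1
    rw [h.comm_code hn hm] at h2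
    exact h.code_of_mem_Z (mM_lt _ _) h2
  refine le_antisymm hRQ fun q hq => h.mem_pCore fun r hr => ?_
  obtain ⟨a, ha, ha0, rfl⟩ := hq
  obtain ⟨b, hb, hb0, rfl⟩ := hRQ hr
  rw [h.comm_code ha hb]
  exact h.mem_Z_of_code (Q_comm ⟨a, ha⟩ ⟨b, hb⟩ ha0 hb0)

end Local

end Cfsg.Agent.Transfer.AEightSolv
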