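import Cfsg.Agent.Lib.Transfer.AEightSolv.Order
import Cfsg.Agent.Lib.Grp.CoprimeAbelian

/-!
# The two shapes: order 192 or order 576
-/

set_option autoImplicit false
set_option linter.style.haveILetI false
set_option linter.unusedSectionVars false
set_option maxRecDepth 100000

namespace Cfsg.Agent.Transfer.AEightSolv

open Subgroup

theorem L_three_list : ([1, 2, 3].all fun v => (List.range 64).all fun k => !(Nat.ble 16 k && inL v k) ||
    (List.range 64).all fun j => !(inL v j && !inZw (uM v) j && !inZw k j) ||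
      (List.range 64).all fun n => !(inL v n && invQ n) ||
        (n == uM v || n == mM (uM v) 15 || n == k || n == mM k 15 || n == j || n == mM j 15)) = true := by
  decide +kernel

theorem L_three : ∀ v : Fin 4, 1 ≤ (v : ℕ) → ∀ k j n : Fin 64, 16 ≤ (k : ℕ) → inL v k = true → inL v j = true →
    inZw (uM v) j = false → inZw k j = false → inL v n = true → invQ n = true →
    ((n : ℕ) == uM v || (n : ℕ) == mM (uM v) 15 || n == k || (n : ℕ) == mM k 15 || n == j || (n : ℕ) == mM j 15) = true := by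
  intro v hv k j n hk hkL hjL hj1 hj2 hnL hnq
  have h := L_three_list
  simp only [List.all_eq_true, List.mem_range, Bool.or_eq_true] at h
  have h1 := h v (by have := v.2; simp; omega) k k.2
  have hb : Nat.ble 16 (k : ℕ) = true := by rw [Nat.ble_eq]; exact hk
  simp [hb, hkL] at h1
  have h2 := h1 j j.2
  simp [hjL, hj1, hj2] at h2
  have h3 := h2 n n.2
  simpa [hnL, hnq, Fin.ext_iff] using h3

theorem pair_cases : ∀ m : Fin 16, invQ m = true → ∃ v : Fin 4, 1 ≤ (v : ℕ) ∧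
    ((m : ℕ) = uM v ∨ (m : ℕ) = mM (uM v) 15) := by
  decide +kernel

theorem pair_swap : ∀ v : Fin 4, 1 ≤ (v : ℕ) → ∃ t : Fin 64, cM t (uM v) = mM (uM v) 15 ∧
    cM t (mM (uM v) 15) = uM v := by
  decide +kernel

theorem col_of : ∀ m : Fin 64, invQ m = true → ∃ v : Fin 4, 1 ≤ (v : ℕ) ∧ inL v m = true := by
  decide +kernel

namespace LocalQ

variable {X : Type*} [Group X] [Finite X] {T : Sylow 2 X} {e : ℕ → X} (h : LocalQ X T e)
include h

theorem invQ_uM {v : ℕ} (hv : vOk v) : invQ (uM v) = true := by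
  obtain ⟨h1, h2, h3, h4⟩ := vOk_uM hv
  exact invQ_iff.2 ⟨h2, sq_E ⟨_, h1⟩, h3, h4⟩

theorem not_Z {m : ℕ} (hm : m < 64) (hmq : invQ m = true) : e m ∉ h.toLocal.Zset := fun hh => by
  obtain ⟨-, -, h1, h2⟩ := invQ_iff.1 hmq
  exact (h.toLocal.code_of_mem_Z hm hh).elim h1 h2

/-- A fixed-point-free element moves every point modulo `z`. -/
theorem moves {d : X} (hd : d ^ 3 = 1) (hf : ∀ q ∈ h.c.sQ, d * q * d⁻¹ = q → q ∈ h.toLocal.Zset) {x : X}
    (hx : x ∈ h.c.sQ) (hxZ : x ∉ h.toLocal.Zset) : d * x * d⁻¹ * x⁻¹ ∉ h.toLocal.Zset := fun hw => by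
  refine hxZ (hf x hx (h.fix_of_shift hd (h.Z_le_Q hw) (h.fix_Z hw) ?_))
  rw [inv_mul_cancel_right]

/-- Such a column subgroup as a subgroup. -/
def sL (_h : LocalQ X T e) {v : ℕ} (hv : vOk v) : Subgroup X where
  carrier := {x | ∃ n < 64, inL v n = true ∧ e n = x}
  one_mem' := ⟨0, by norm_num, by simp [inL, show mM 0 0 = 0 by decide], _h.c.zero⟩
  mul_mem' := fun {x y} ⟨m, hm, hmL, hx⟩ ⟨n, hn, hnL, hy⟩ =>
    ⟨mM m n, mM_lt _ _, (L_ok ⟨v, hv.2⟩ hv.1 ⟨m, hm⟩ ⟨n, hn⟩ hmL hnL).1, by rw [← _h.c.mul m hm n hn, hx, hy]⟩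
  inv_mem' := fun {x} ⟨m, hm, hmL, hx⟩ =>
    ⟨m, hm, hmL, by
      rw [← hx, _h.c.inv hm, show iM m = m from (L_ok ⟨v, hv.2⟩ hv.1 ⟨m, hm⟩ ⟨m, hm⟩ hmL hmL).2.1]⟩

theorem e_mem_sL {v : ℕ} (hv : vOk v) {n : ℕ} (hn : n < 64) : e n ∈ h.sL hv ↔ inL v n = true :=
  ⟨fun ⟨_, hm, hmL, he⟩ => (h.c.eq_iff hm hn).1 he ▸ hmL, fun hL => ⟨n, hn, hL, rfl⟩⟩

theorem Z_le_sL {v : ℕ} (hv : vOk v) : h.toLocal.Zset ≤ h.sL hv :=
  zpowers_le.2 ((h.e_mem_sL hv (by norm_num)).2 (by simp [inL, show mM 15 15 = 0 by decide]))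

theorem u_mem_sL {v : ℕ} (hv : vOk v) : e (uM v) ∈ h.sL hv := by
  obtain ⟨hu, -, -, -⟩ := vOk_uM hv
  refine (h.e_mem_sL hv (by omega)).2 ?_
  simp [inL, show mM (uM v) (uM v) = 0 from sq_E ⟨_, hu⟩]

theorem T_sL {v : ℕ} (hv : vOk v) {g : X} (hg : g ∈ (T : Subgroup X)) {x : X} (hx : x ∈ h.sL hv) :
    g * x * g⁻¹ ∈ h.sL hv := by
  obtain ⟨m, hm, hmL, rfl⟩ := hx
  obtain ⟨t, ht, rfl⟩ := (h.c.mem g).1 hg
  rw [h.c.conj ht hm]
  exact (h.e_mem_sL hv (cM_lt _ _)).2 (L_normal ⟨v, hv.2⟩ hv.1 ⟨t, ht⟩ ⟨m, hm⟩ hmL)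

theorem d_sL {d : X} (hd : d ^ 3 = 1) (hd1 : d ≠ 1) {q1 : X} (hq1 : q1 ∈ h.c.sQ)
    (hσ : e 1 * d * (e 1)⁻¹ = d ^ 2 * q1) {v : ℕ} (hv : vOk v) {x : X} (hx : x ∈ h.sL hv) :
    d * x * d⁻¹ ∈ h.sL hv := by
  obtain ⟨m, hm, hmL, rfl⟩ := hx
  obtain ⟨n, hn, hnL, he⟩ := h.col_inv hd hd1 hq1 hσ hv hm hmL
  exact ⟨n, hn, hnL, he⟩

/-- The three points of a column. -/
theorem sL_cases {d : X} (hd : d ^ 3 = 1) (hd1 : d ≠ 1) {q1 : X} (hq1 : q1 ∈ h.c.sQ)
    (hσ : e 1 * d * (e 1)⁻¹ = d ^ 2 * q1) {v : ℕ} (hv : vOk v) {x : X} (hx : x ∈ h.sL hv)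
    (hxZ : x ∉ h.toLocal.Zset) : ∃ i < 3, ∃ w ∈ h.toLocal.Zset, x = d ^ i * e (uM v) * (d ^ i)⁻¹ * w := by
  obtain ⟨k, hk, hk16, hkL, -, hkk, hke, j, hj, hjL, hje⟩ := h.col hd hd1 hq1 hσ hv
  obtain ⟨hu, hu0, -, -⟩ := vOk_uM hv
  set u := e (uM v) with hudef
  have huQ : u ∈ h.c.sQ := (h.c.e_mem_sQ (by omega)).2 hu0
  have huZ : u ∉ h.toLocal.Zset := h.not_Z (by omega) (h.invQ_uM hv)
  have hkQ : e k ∈ h.c.sQ := (h.c.e_mem_sQ hk).2 (L_ok ⟨v, hv.2⟩ hv.1 ⟨k, hk⟩ ⟨k, hk⟩ hkL hkL).2.2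
  have hkZ : e k ∉ h.toLocal.Zset := fun hh => huZ (by
    have h1 := h.fix_Z (d := d⁻¹) hh
    rw [hke, show d⁻¹ * (d * u * d⁻¹) * d⁻¹⁻¹ = u by group, ← hke] at h1
    rw [h1]; exact hh)
  have hf : ∀ q ∈ h.c.sQ, d * q * d⁻¹ = q → q ∈ h.toLocal.Zset := fun q hq he =>
    h.fpf hd hd1 hq1 (Or.inr rfl) hσ hq he
  have hd' : (d * d) ^ 3 = 1 := by rw [← pow_two, ← pow_mul, mul_comm, pow_mul, hd, one_pow]
  have hf' : ∀ q ∈ h.c.sQ, d * d * q * (d * d)⁻¹ = q → q ∈ h.toLocal.Zset := fun q hq he => by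
    refine hf q hq ?_
    have h4 : d = d * d * (d * d) := by
      calc d = d ^ 3 * d := by rw [hd, one_mul]
        _ = _ := by simp only [pow_succ, pow_zero, one_mul, mul_assoc]
    conv_lhs => rw [h4]
    calc _ = d * d * (d * d * q * (d * d)⁻¹) * (d * d)⁻¹ := by group
      _ = _ := by rw [he, he]
  have hj1 : inZw (uM v) j = false := by
    by_contra hcon
    rw [Bool.not_eq_false] at hcon
    simp only [inZw, Bool.or_eq_true, beq_iff_eq] at hcon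
    have hjk : e j ∈ h.toLocal.Zset → False := fun hh => hkZ (by
      have h1 := h.fix_Z (d := d⁻¹) hh
      rw [hje, show d⁻¹ * (d * e k * d⁻¹) * d⁻¹⁻¹ = e k by group, ← hje] at h1
      rw [h1]; exact hh)
    refine h.moves hd' hf' huQ huZ ?_
    rw [show d * d * u * (d * d)⁻¹ = d * (d * u * d⁻¹) * d⁻¹ by group, ← hke, ← hje]
    rcases hcon with ((rfl | rfl) | rfl) | rfl
    · exact absurd (h.toLocal.mem_Z_of_code (Or.inl rfl)) hjk
    · exact absurd (h.toLocal.mem_Z_of_code (Or.inr rfl)) hjk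
    · rw [mul_inv_cancel]; exact one_mem _
    · rw [← h.c.mul (uM v) (by omega) 15 (by norm_num), ← hudef, h.zc u, mul_inv_cancel_right]
      exact mem_zpowers _
  have hj2 : inZw k j = false := by
    by_contra hcon
    rw [Bool.not_eq_false] at hcon
    simp only [inZw, Bool.or_eq_true, beq_iff_eq] at hcon
    refine h.moves hd hf hkQ hkZ ?_
    rw [← hje]
    rcases hcon with ((rfl | rfl) | rfl) | rfl
    · exact absurd (show e k ∈ h.toLocal.Zset by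
        have h1 := h.fix_Z (d := d⁻¹) (h.toLocal.mem_Z_of_code (m := 0) (Or.inl rfl))
        rw [hje, show d⁻¹ * (d * e k * d⁻¹) * d⁻¹⁻¹ = e k by group] at h1
        rw [h1, ← hje]; exact h.toLocal.mem_Z_of_code (Or.inl rfl)) hkZ
    · exact absurd (show e k ∈ h.toLocal.Zset by
        have h1 := h.fix_Z (d := d⁻¹) (h.toLocal.mem_Z_of_code (m := 15) (Or.inr rfl))
        rw [hje, show d⁻¹ * (d * e k * d⁻¹) * d⁻¹⁻¹ = e k by group] at h1
        rw [h1, ← hje]; exact h.toLocal.mem_Z_of_code (Or.inr rfl)) hkZ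
    · rw [mul_inv_cancel]; exact one_mem _
    · rw [← h.c.mul k hk 15 (by norm_num), h.zc (e k), mul_inv_cancel_right]
      exact mem_zpowers _
  obtain ⟨n, hn, hnL, rfl⟩ := hx
  obtain ⟨-, hn1, hn2⟩ := L_ok ⟨v, hv.2⟩ hv.1 ⟨n, hn⟩ ⟨n, hn⟩ hnL hnL
  have hnq : invQ n = true := by
    refine invQ_iff.2 ⟨hn2, ?_, fun e1 => hxZ (h.toLocal.mem_Z_of_code (Or.inl e1)),
      fun e1 => hxZ (h.toLocal.mem_Z_of_code (Or.inr e1))⟩
    simp only [inL, Bool.and_eq_true, beq_iff_eq] at hnL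
    exact hnL.1
  have hh := L_three ⟨v, hv.2⟩ hv.1 ⟨k, hk⟩ ⟨j, hj⟩ ⟨n, hn⟩ hk16 hkL hjL hj1 hj2 hnL hnq
  simp only [Bool.or_eq_true, beq_iff_eq, Fin.ext_iff] at hh
  have p0 : d ^ 0 * u * (d ^ 0)⁻¹ = u := by simp
  have p1 : d ^ 1 * u * (d ^ 1)⁻¹ = e k := by rw [pow_one, hke]
  have p2 : d ^ 2 * u * (d ^ 2)⁻¹ = e j := by rw [hje, hke, pow_two]; group
  rcases hh with ((((e1 | e1) | e1) | e1) | e1) | e1
  · exact ⟨0, by norm_num, 1, one_mem _, by rw [p0, mul_one, e1]⟩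
  · exact ⟨0, by norm_num, e 15, mem_zpowers _, by rw [p0, e1, ← h.c.mul _ (by omega) 15 (by norm_num)]⟩
  · exact ⟨1, by norm_num, 1, one_mem _, by rw [p1, mul_one, e1]⟩
  · exact ⟨1, by norm_num, e 15, mem_zpowers _, by rw [p1, e1, ← h.c.mul k hk 15 (by norm_num)]⟩
  · exact ⟨2, by norm_num, 1, one_mem _, by rw [p2, mul_one, e1]⟩
  · exact ⟨2, by norm_num, e 15, mem_zpowers _, by rw [p2, e1, ← h.c.mul j hj 15 (by norm_num)]⟩

/-- There is no inverted element of order nine modulo `Q`. -/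
theorem no_nine {r : X} (hσ : e 1 * r * (e 1)⁻¹ = r⁻¹) (h9 : r ^ 9 ∈ h.c.sQ) (h3 : r ^ 3 ∉ h.c.sQ) : False := by
  classical
  obtain ⟨d, hdr⟩ : ∃ d, d = r ^ 12 := ⟨_, rfl⟩
  have hd : d ^ 3 = 1 := by
    rw [hdr, ← pow_mul, show 12 * 3 = 9 * 4 by norm_num, pow_mul]
    exact h.pow_four h9
  have hd1 : d ≠ 1 := fun e1 => h3 (by
    have h1 : r ^ 12 = r ^ 9 * r ^ 3 := by rw [← pow_add]
    rw [← hdr, e1] at h1
    rw [eq_inv_of_mul_eq_one_right h1.symm]; exact inv_mem h9)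
  have hσd : e 1 * d * (e 1)⁻¹ = d ^ 2 * 1 := by
    rw [hdr, ← conj_pow, hσ, mul_one, inv_pow, ← hdr]
    exact inv_eq_of_mul_eq_one_right (by rw [← pow_succ', hd])
  have hdc : Commute d r := hdr ▸ (Commute.refl r).pow_left 12
  set v := 1
  have hv : vOk v := ⟨le_rfl, by norm_num⟩
  set u := e (uM v) with hudef
  have hu : uM v < 64 := by decide
  have hgen : ∀ {g : X} {v' : ℕ} (hv' : vOk v'), g * u * g⁻¹ ∈ h.sL hv' → Commute d g →
      ∀ x ∈ h.sL hv, g * x * g⁻¹ ∈ h.sL hv' := by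
    intro g v' hv' hgu hdg x hx
    by_cases hxZ : x ∈ h.toLocal.Zset
    · rw [h.fix_Z hxZ]; exact h.Z_le_sL hv' hxZ
    obtain ⟨i, hi, w, hw, rfl⟩ := h.sL_cases hd hd1 (one_mem _) hσd hv hx hxZ
    have h1 : g * (d ^ i * u * (d ^ i)⁻¹ * w) * g⁻¹ = d ^ i * (g * u * g⁻¹) * (d ^ i)⁻¹ * (g * w * g⁻¹) := by
      have hc : d ^ i * g = g * d ^ i := (hdg.pow_left i).eq
      calc g * (d ^ i * u * (d ^ i)⁻¹ * w) * g⁻¹ = (g * d ^ i) * u * (g * d ^ i)⁻¹ * (g * w * g⁻¹) := by group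
        _ = _ := by rw [← hc]; group
    rw [h1, h.fix_Z hw]
    refine mul_mem ?_ (h.Z_le_sL hv' hw)
    have hd2 : ∀ {y : X}, y ∈ h.sL hv' → d * y * d⁻¹ ∈ h.sL hv' := fun hy => h.d_sL hd hd1 (one_mem _) hσd hv' hy
    interval_cases i
    · simpa using hgu
    · simpa using hd2 hgu
    · rw [pow_two, show d * d * (g * u * g⁻¹) * (d * d)⁻¹ = d * (d * (g * u * g⁻¹) * d⁻¹) * d⁻¹ by group]
      exact hd2 (hd2 hgu)
  obtain ⟨m, hm, hmq, hme⟩ := h.conj_invQ r hu (h.invQ_uM hv)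
  obtain ⟨⟨v', hv'4⟩, hv'1, hvm⟩ := col_of ⟨m, hm⟩ hmq
  have hv' : vOk v' := ⟨hv'1, hv'4⟩
  have hru : r * u * r⁻¹ ∈ h.sL hv' := hme ▸ (h.e_mem_sL hv' hm).2 hvm
  have hsu : e 1 * u * (e 1)⁻¹ = u := by
    rw [hudef, (h.c.comm_iff (by norm_num) hu).2 (comm_E ⟨1, by norm_num⟩ ⟨uM v, by decide⟩), mul_inv_cancel_right]
  have hru' : r⁻¹ * u * r⁻¹⁻¹ ∈ h.sL hv' := by
    have h1 := h.T_sL hv' (h.c.e_mem (show 1 < 64 by norm_num)) hru
    rw [show e 1 * (r * u * r⁻¹) * (e 1)⁻¹ = e 1 * r * (e 1)⁻¹ * (e 1 * u * (e 1)⁻¹) * (e 1 * r * (e 1)⁻¹)⁻¹ by group,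
      hσ, hsu] at h1
    exact h1
  have hA := hgen hv' hru hdc
  have hB := hgen hv' hru' hdc.inv_right
  -- `r²` preserves the first column
  have hcardle : Nat.card ↥(h.sL hv') ≤ Nat.card ↥(h.sL hv) := by
    have hinj : ∀ {w : ℕ} (hw : vOk w), Nat.card ↥(h.sL hw) =
        (Finset.univ.filter fun n : Fin 64 => inL w n = true).card := by
      intro w hw
      rw [← Nat.card_eq_finsetCard]
      refine (Nat.card_eq_of_bijective (fun n : {n // n ∈ Finset.univ.filter fun n : Fin 64 => inL w n = true} =>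
          (⟨e n.1, n.1, n.1.2, (Finset.mem_filter.1 n.2).2, rfl⟩ : ↥(h.sL hw)))
        ⟨fun a b he => Subtype.ext (Fin.ext (h.c.inj _ a.1.2 _ b.1.2 (congrArg Subtype.val he))), ?_⟩).symm
      rintro ⟨x, n, hn, hnL, rfl⟩
      exact ⟨⟨⟨n, hn⟩, Finset.mem_filter.2 ⟨Finset.mem_univ _, hnL⟩⟩, rfl⟩
    rw [hinj hv', hinj hv]
    have hcnt : ∀ w : Fin 4, 1 ≤ (w : ℕ) → (Finset.univ.filter fun n : Fin 64 => inL w n = true).card = 8 := by
      decide +kernel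
    rw [hcnt ⟨v', hv'.2⟩ hv'.1, hcnt ⟨v, hv.2⟩ hv.1]
  have heq : (h.sL hv).map (MulAut.conj r⁻¹).toMonoidHom = h.sL hv' := by
    refine Subgroup.eq_of_le_of_card_ge (fun y ⟨x, hx, hy⟩ => hy ▸ hB x hx) ?_
    rw [card_map_of_injective (MulAut.conj r⁻¹).injective]; exact hcardle
  have hback : ∀ x ∈ h.sL hv', r * x * r⁻¹ ∈ h.sL hv := fun x hx => by
    obtain ⟨y, hy, rfl⟩ := heq.ge hx
    show r * (r⁻¹ * y * r⁻¹⁻¹) * r⁻¹ ∈ h.sL hv
    rwa [show r * (r⁻¹ * y * r⁻¹⁻¹) * r⁻¹ = y by group]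
  let N := normalizer ((h.sL hv : Subgroup X) : Set X)
  have h2 : r * r ∈ N := mem_normalizer_fintype fun x hx => by
    show r * r * x * (r * r)⁻¹ ∈ h.sL hv
    rw [show r * r * x * (r * r)⁻¹ = r * (r * x * r⁻¹) * r⁻¹ by group]
    exact hback _ (hA x hx)
  have h9N : r ^ 9 ∈ N := mem_normalizer_fintype fun x hx => h.T_sL hv (h.c.sQ_le h9) hx
  have hrN : r ∈ N := by
    have h1 : r = r ^ 9 * ((r * r) ^ 4)⁻¹ := by
      rw [← pow_two, ← pow_mul, eq_mul_inv_iff_mul_eq, ← pow_succ']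
    rw [h1]; exact mul_mem h9N (inv_mem (pow_mem h2 4))
  -- so `d = r¹²` fixes a point
  have huZ : u ∉ h.toLocal.Zset := h.not_Z hu (h.invQ_uM hv)
  have hrn : r * u * r⁻¹ ∈ h.sL hv := (mem_normalizer_iff.1 hrN u).1 (h.u_mem_sL hv)
  have hruZ : r * u * r⁻¹ ∉ h.toLocal.Zset := fun hh => huZ (by
    have h1 := h.fix_Z (d := r⁻¹) hh
    rw [show r⁻¹ * (r * u * r⁻¹) * r⁻¹⁻¹ = u by group] at h1
    rw [h1]; exact hh)
  obtain ⟨i, -, w, hw, hiw⟩ := h.sL_cases hd hd1 (one_mem _) hσd hv hrn hruZ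
  obtain ⟨y, hy⟩ : ∃ y, y = (d ^ i)⁻¹ * r := ⟨_, rfl⟩
  have hyu : y * u * y⁻¹ = u * w := by
    calc y * u * y⁻¹ = (d ^ i)⁻¹ * (r * u * r⁻¹) * (d ^ i) := by rw [hy]; group
      _ = u * ((d ^ i)⁻¹ * w * (d ^ i)⁻¹⁻¹) := by rw [hiw, ← hudef]; group
      _ = u * w := by rw [h.fix_Z hw]
  have hy12 : y ^ 12 = d := by
    rw [hy, ((hdc.pow_left i).inv_left).mul_pow, inv_pow, ← pow_mul, mul_comm i 12, pow_mul,
      show d ^ 12 = (d ^ 3) ^ 4 by rw [← pow_mul], hd, one_pow, one_pow, inv_one, one_mul, hdr]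
  have hpow : ∀ n : ℕ, y ^ n * u * (y ^ n)⁻¹ * u⁻¹ ∈ h.toLocal.Zset := by
    intro n
    induction n with
    | zero => simp
    | succ n ih =>
      have h1 : y ^ (n + 1) * u * (y ^ (n + 1))⁻¹ * u⁻¹ = y ^ n * u * (y ^ n)⁻¹ * w * u⁻¹ := by
        rw [pow_succ]
        calc y ^ n * y * u * (y ^ n * y)⁻¹ * u⁻¹ = y ^ n * (y * u * y⁻¹) * (y ^ n)⁻¹ * u⁻¹ := by group
          _ = y ^ n * u * (y ^ n)⁻¹ * (y ^ n * w * (y ^ n)⁻¹) * u⁻¹ := by rw [hyu]; group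
          _ = _ := by rw [h.fix_Z hw]
      rw [h1, show y ^ n * u * (y ^ n)⁻¹ * w * u⁻¹ = y ^ n * u * (y ^ n)⁻¹ * u⁻¹ * (u * w * u⁻¹) by group, h.fix_Z hw]
      exact mul_mem ih hw
  have hh := hpow 12
  rw [hy12] at hh
  exact h.moves hd (fun q hq he => h.fpf hd hd1 (one_mem _) (Or.inr rfl) hσd hq he)
    ((h.c.e_mem_sQ hu).2 (by decide)) huZ hh

/-- The data of the two shapes. -/
structure Small : Prop where
  card : Nat.card X = 192
  fpf : ∀ d : X, d ^ 3 = 1 → d ≠ 1 → ∀ q ∈ h.c.sQ, d * q * d⁻¹ = q → q ∈ h.toLocal.Zset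
  norm : ∀ g : X, g ∈ normalizer (h.c.sE : Set X) → g ∈ (T : Subgroup X)
  column : ∀ (v : ℕ) (hv : vOk v) (g : X), ∀ x ∈ h.sL hv, g * x * g⁻¹ ∈ h.sL hv

/-- The data of the two shapes. -/
structure Large : Prop where
  card : Nat.card X = 576
  fixed : ∃ d : X, d ^ 3 = 1 ∧ d ≠ 1 ∧ ∃ q ∈ h.c.sQ, q ∉ h.toLocal.Zset ∧ d * q * d⁻¹ = q
  pairs : ∀ v w : ℕ, vOk v → vOk w → ∃ x : X, x * e (uM v) * x⁻¹ = e (uM w)
  exp : ∀ x : X, (x * x) ^ 3 ∈ h.c.sQ

theorem E_not_normal : ¬ h.c.sE.Normal := fun hn => by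
  haveI : Fact (Nat.Prime 2) := ⟨Nat.prime_two⟩
  have h1 : h.c.sE ≤ h.c.sQ := h.rad ▸ Grp.le_pCore hn (Grp.elemAb_isPGroup h.c.sE_elem)
  exact absurd ((h.c.e_mem_sQ (by norm_num)).1 (h1 ⟨1, by norm_num, rfl⟩)) (by decide)

/-- The dichotomy and the common facts. -/
theorem shape : (h.Small ∨ h.Large) ∧
    (∀ v m : ℕ, vOk v → m < 64 → 16 ≤ m → mM m m = 0 → vP m = v → ∃ x : X, x * e (uM v) * x⁻¹ = e m) ∧
    (∀ v : ℕ, vOk v → ∀ g : X, g * e (uM v) = e (uM v) * g → g ∈ normalizer (h.c.sE : Set X)) := by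
  classical
  haveI : Fact (Nat.Prime 2) := ⟨Nat.prime_two⟩
  obtain ⟨k, D, hk, hcard, hQD, hσD, hcov, hsqD, hDn, hpow⟩ := h.exists_D
  haveI := h.Q_normal
  let π := QuotientGroup.mk' h.c.sQ
  have hσσ : e 1 * e 1 = 1 := h.c.E_sq (by norm_num)
  -- an inverted element outside `Q`
  obtain ⟨r, hrD, hrQ, hσr⟩ : ∃ r ∈ D, r ∉ h.c.sQ ∧ e 1 * r * (e 1)⁻¹ = r⁻¹ := by
    by_contra hcon
    push Not at hcon
    refine h.not_T_normal ?_
    have hall : ∀ y ∈ D, e 1 * y * (e 1)⁻¹ * y⁻¹ ∈ h.c.sQ := fun y hy => by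
      by_contra hq
      refine hcon _ (mul_mem (hDn.conj_mem y hy _) (inv_mem hy)) hq ?_
      rw [inv_eq_of_mul_eq_one_right hσσ]
      calc e 1 * (e 1 * y * e 1 * y⁻¹) * e 1 = (e 1 * e 1) * y * e 1 * y⁻¹ * e 1 := by group
        _ = y * (e 1)⁻¹ * y⁻¹ * (e 1)⁻¹ := by rw [hσσ, one_mul, inv_eq_of_mul_eq_one_right hσσ]
        _ = _ := by group
    have hD : ∀ y ∈ D, y ∈ normalizer ((T : Subgroup X) : Set X) := fun y hy => by
      refine mem_normalizer_fintype fun t ht => ?_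
      obtain ⟨m, hm, rfl⟩ := (h.c.mem t).1 ht
      have hQ' : ∀ q ∈ h.c.sQ, y * q * y⁻¹ ∈ (T : Subgroup X) := fun q hq =>
        h.c.sQ_le (h.Q_normal.conj_mem q hq y)
      cases hm0 : oddM m with
      | false => exact hQ' _ ((h.c.e_mem_sQ hm).2 hm0)
      | true =>
        have hq : e m * e 1 ∈ h.c.sQ := by
          rw [h.c.mul m hm 1 (by norm_num), h.c.e_mem_sQ (mM_lt _ _)]
          exact (by decide +kernel : ∀ m : Fin 64, oddM m = true → oddM (mM m 1) = false) ⟨m, hm⟩ hm0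
        have h1 : y * e 1 * y⁻¹ ∈ (T : Subgroup X) := by
          have h2 := hall y hy
          rw [show y * e 1 * y⁻¹ = (e 1 * y * (e 1)⁻¹ * y⁻¹)⁻¹ * e 1 by group]
          exact mul_mem (inv_mem (h.c.sQ_le h2)) (h.c.e_mem (by norm_num))
        show y * e m * y⁻¹ ∈ (T : Subgroup X)
        rw [show y * e m * y⁻¹ = y * (e m * e 1) * y⁻¹ * (y * (e 1)⁻¹ * y⁻¹) by group,
          inv_eq_of_mul_eq_one_right hσσ]
        exact mul_mem (hQ' _ hq) h1
    rw [← normalizer_eq_top_iff, eq_top_iff]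
    intro x _
    rcases hcov x with hx | hx
    · exact hD x hx
    · have := mul_mem (inv_mem (le_normalizer (h.c.e_mem (show 1 < 64 by norm_num)))) (hD _ hx)
      rwa [inv_mul_cancel_left] at this
  -- exponent three modulo `Q`
  have hexp : ∀ y ∈ D, y ^ 3 ∈ h.c.sQ := by
    intro y hy
    rcases hk with rfl | rfl
    · exact hpow y hy
    by_contra hy3
    refine h.no_nine hσr (hpow r hrD) fun hr3 => ?_
    -- `r` lies in the subgroup generated by `y` modulo `Q`, so it is centralised and inverted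
    have hy9 : orderOf (π y) = 9 := by
      have h1 : π y ^ 9 = 1 := by rw [← map_pow]; exact (QuotientGroup.eq_one_iff _).2 (hpow y hy)
      have h2 := orderOf_dvd_of_pow_eq_one h1
      have h3 : orderOf (π y) ≠ 1 ∧ orderOf (π y) ≠ 3 := by
        constructor <;> intro e1
        · rw [orderOf_eq_one_iff] at e1
          exact hy3 ((QuotientGroup.eq_one_iff _).1 (by show π (y ^ 3) = 1; rw [map_pow, e1, one_pow]))
        · exact hy3 ((QuotientGroup.eq_one_iff _).1 (by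
            show π (y ^ 3) = 1
            rw [map_pow]; exact e1 ▸ pow_orderOf_eq_one _))
      have h4 := Nat.le_of_dvd (by norm_num) h2
      interval_cases hh : orderOf (π y) <;> omega
    have hDmap : D.map π = zpowers (π y) := by
      refine (Subgroup.eq_of_le_of_card_ge (zpowers_le.2 (mem_map_of_mem π hy)) ?_).symm
      rw [Nat.card_zpowers, hy9]
      have hq : Nat.card (X ⧸ h.c.sQ) = 18 := by
        have h1 := card_eq_card_quotient_mul_card_subgroup h.c.sQ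
        rw [hcard, h.c.sQ_card] at h1
        omega
      have hne : D.map π ≠ ⊤ := fun e1 => hσD (by
        have h1 : π (e 1) ∈ D.map π := e1 ▸ mem_top _
        obtain ⟨a, ha, hae⟩ := h1
        have h2 : a⁻¹ * e 1 ∈ h.c.sQ := (QuotientGroup.eq).1 hae
        have := mul_mem ha (hQD h2)
        rwa [mul_inv_cancel_left] at this)
      have h1 := Grp.card_lt_of_ne_top hne
      have h2 := Subgroup.card_subgroup_dvd_card (D.map π)
      rw [hq] at h1 h2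
      have h3 : Nat.card ↥(D.map π) ∣ 18 := h2
      have h4 : Nat.card ↥(D.map π) ∈ Nat.divisors 18 := Nat.mem_divisors.2 ⟨h3, by norm_num⟩
      have h5 : ∀ a ∈ Nat.divisors 18, a < 18 → a ≤ 9 := by decide
      exact h5 _ h4 h1
    obtain ⟨a, ha⟩ : π r ∈ zpowers (π y) := hDmap ▸ mem_map_of_mem π hrD
    obtain ⟨b, hb⟩ : π (e 1 * y * (e 1)⁻¹) ∈ zpowers (π y) := hDmap ▸ mem_map_of_mem π (hDn.conj_mem y hy _)
    simp only at ha hb
    have hd9 : ∀ i : ℤ, π y ^ i = 1 ↔ (9 : ℤ) ∣ i := fun i => by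
      rw [← orderOf_dvd_iff_zpow_eq_one, hy9]; rfl
    have h3a : (3 : ℤ) ∣ a := by
      have h1 : π y ^ (a * 3) = 1 := by
        rw [zpow_mul, ha, zpow_ofNat, ← map_pow]
        exact (QuotientGroup.eq_one_iff _).2 hr3
      rw [hd9] at h1
      omega
    have hbb : (9 : ℤ) ∣ b * b - 1 := by
      rw [← hd9, zpow_sub_one]
      have h1 : π y ^ (b * b) = π y := by
        rw [zpow_mul, hb, ← map_zpow, conj_zpow, map_mul, map_mul, map_zpow, hb, ← map_mul, ← map_mul,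
          inv_eq_of_mul_eq_one_right hσσ, show e 1 * (e 1 * y * e 1) * e 1 = (e 1 * e 1) * y * (e 1 * e 1) by group,
          hσσ, one_mul, mul_one]
      rw [h1, mul_inv_cancel]
    have hinv : (9 : ℤ) ∣ a * b + a := by
      rw [← hd9, zpow_add, mul_comm, zpow_mul, hb, ← map_zpow, conj_zpow, map_mul, map_mul, map_zpow, ha, ← map_mul,
        ← map_mul, hσr, ← map_mul, inv_mul_cancel, map_one]
    have ha9 : ¬ (9 : ℤ) ∣ a := fun h1 => hrQ ((QuotientGroup.eq_one_iff _).1 (by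
      show π r = 1
      rw [← ha, hd9]; exact h1))
    -- if `σ` inverts `y` then `y⁻²` gives an inverted element of order nine
    obtain ⟨c, hc⟩ : ∃ c, c = e 1 * y * (e 1)⁻¹ * y⁻¹ := ⟨_, rfl⟩
    have hcc : e 1 * c * (e 1)⁻¹ = c⁻¹ := by
      rw [hc, inv_eq_of_mul_eq_one_right hσσ]
      calc e 1 * (e 1 * y * e 1 * y⁻¹) * e 1 = (e 1 * e 1) * y * e 1 * y⁻¹ * e 1 := by group
        _ = y * (e 1)⁻¹ * y⁻¹ * (e 1)⁻¹ := by rw [hσσ, one_mul, inv_eq_of_mul_eq_one_right hσσ]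
        _ = _ := by group
    have hcD : c ∈ D := hc ▸ mul_mem (hDn.conj_mem y hy _) (inv_mem hy)
    refine h.no_nine hcc (hpow c hcD) fun hc3 => ?_
    have h1 : π y ^ ((b - 1) * 3) = 1 := by
      rw [zpow_mul, zpow_sub_one, hb, ← map_inv, ← map_mul, ← hc, zpow_ofNat, ← map_pow]
      exact (QuotientGroup.eq_one_iff _).2 hc3
    rw [hd9] at h1
    obtain ⟨s, hs⟩ : (3 : ℤ) ∣ b - 1 := by omega
    obtain ⟨t, ht⟩ := h3a
    rw [show b = 3 * s + 1 by omega] at hbb hinv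
    rw [show (3 * s + 1) * (3 * s + 1) - 1 = 9 * (s * s) + 6 * s by ring] at hbb
    rw [ht, show 3 * t * (3 * s + 1) + 3 * t = 9 * (t * s) + 6 * t by ring] at hinv
    omega
  obtain ⟨d, hd⟩ : ∃ d, d = r ^ 4 := ⟨_, rfl⟩
  have hr3 : r ^ 3 ∈ h.c.sQ := hexp r hrD
  have hd3 : d ^ 3 = 1 := by
    rw [hd, ← pow_mul, show 4 * 3 = 3 * 4 by norm_num, pow_mul]; exact h.pow_four hr3
  have hd1 : d ≠ 1 := fun e1 => hrQ (by
    have h1 : r ^ 4 = r ^ 3 * r := pow_succ r 3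
    rw [← hd, e1] at h1
    rw [eq_inv_of_mul_eq_one_right h1.symm]; exact inv_mem hr3)
  have hσd : e 1 * d * (e 1)⁻¹ = d ^ 2 * 1 := by
    rw [hd, ← conj_pow, hσr, mul_one, inv_pow, ← hd]
    exact inv_eq_of_mul_eq_one_right (by rw [← pow_succ', hd3])
  have hconj : ∀ v m : ℕ, vOk v → m < 64 → 16 ≤ m → mM m m = 0 → vP m = v → ∃ x : X, x * e (uM v) * x⁻¹ = e m :=
    fun v m hv hm h16 hsq hvm => h.conj_coset hd3 hd1 (one_mem _) hσd hv hm h16 hsq hvm
  have hcent : ∀ v : ℕ, vOk v → ∀ g : X, g * e (uM v) = e (uM v) * g → g ∈ normalizer (h.c.sE : Set X) := by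
    intro v hv g hg
    obtain ⟨hu, -, -, -⟩ := vOk_uM hv
    set C := centralizer ({e (uM v)} : Set X)
    have hC2 : IsPGroup 2 C := by
      intro x
      refine ⟨3, Subtype.ext ?_⟩
      show (x : X) ^ (2 ^ 3) = 1
      have h6 : ((x : X) * x) ^ 3 ∈ h.c.sQ := hexp _ (hsqD _)
      by_contra hne
      refine hne (h.no_fix ?_ (show uM v < 64 by omega) (h.invQ_uM hv) ?_)
      · rw [← pow_mul, show 2 ^ 3 * 3 = (2 * 3) * 4 by norm_num, pow_mul, pow_mul, pow_two]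
        exact h.pow_four h6
      · exact mul_inv_eq_iff_eq_mul.2 ((mem_centralizer_singleton_iff.1 (pow_mem x.2 _) :))
    refine mem_normalizer_fintype fun a ha => h.c.sE_unique C hC2 (fun b hb => ?_) g (fun b hb => ?_) a ha
    · exact mem_centralizer_singleton_iff.2 (h.c.sE_comm hb ⟨uM v, hu, rfl⟩)
    · exact mul_mem (mul_mem (mem_centralizer_singleton_iff.2 hg)
        (mem_centralizer_singleton_iff.2 (h.c.sE_comm hb ⟨uM v, hu, rfl⟩)))
        (inv_mem (mem_centralizer_singleton_iff.2 hg))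
  refine ⟨?_, hconj, hcent⟩
  have hidx : D.index = 2 := Subgroup.index_eq_two_iff'.2 ⟨e 1, fun b => by
    rcases hcov b with hb | hb
    · refine Or.inr ⟨hb, fun h1 => hσD ?_⟩
      have h2 := mul_mem h1 (inv_mem hb)
      rwa [mul_inv_cancel_right] at h2
    · by_cases hb' : b ∈ D
      · exfalso
        have := mul_mem hb (inv_mem hb')
        rw [mul_inv_cancel_right] at this
        exact hσD this
      · exact Or.inl ⟨hb, hb'⟩⟩
  rcases hk with rfl | rfl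
  · left
    -- all elements of order three lie in `D = Q⟨d⟩`
    have hmapD : ∀ x ∈ D, ∃ i, i < 3 ∧ ∃ q ∈ h.c.sQ, x = d ^ i * q := by
      have hq : Nat.card ↥D = 96 := by
        have h2 := D.card_mul_index
        rw [hidx, hcard] at h2
        omega
      intro x hx
      let F : Fin 3 × ↥h.c.sQ → ↥D := fun p =>
        ⟨d ^ (p.1 : ℕ) * p.2, mul_mem (pow_mem (hd ▸ pow_mem hrD 4) _) (hQD p.2.2)⟩
      have hF : Function.Bijective F := by
        rw [Nat.bijective_iff_injective_and_card]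
        refine ⟨fun p p' he => ?_, by rw [Nat.card_prod, h.c.sQ_card, hq, Nat.card_fin]⟩
        have he' : d ^ (p.1 : ℕ) * (p.2 : X) = d ^ (p'.1 : ℕ) * (p'.2 : X) := congrArg Subtype.val he
        have h3 : ∀ n : ℕ, d ^ n ∈ h.c.sQ → d ^ n = 1 := fun n hn =>
          h.eq_one_of_three hn (by rw [← pow_mul, mul_comm, pow_mul, hd3, one_pow])
        have hod : orderOf d = 3 := orderOf_eq_prime hd3 hd1
        have hpq : (p.1 : ℕ) = p'.1 := by
          rcases le_total (p.1 : ℕ) p'.1 with hle | hle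
          · have h4 : d ^ ((p'.1 : ℕ) - p.1) = (p.2 : X) * (p'.2 : X)⁻¹ := by
              rw [eq_mul_inv_iff_mul_eq]
              refine mul_left_cancel (a := d ^ (p.1 : ℕ)) ?_
              rw [← mul_assoc, ← pow_add, Nat.add_sub_cancel' hle, he']
            have h5 := orderOf_dvd_of_pow_eq_one (h3 _ (h4 ▸ mul_mem p.2.2 (inv_mem p'.2.2)))
            rw [hod] at h5
            have := Nat.eq_zero_of_dvd_of_lt h5 (by omega)
            omega
          · have h4 : d ^ ((p.1 : ℕ) - p'.1) = (p'.2 : X) * (p.2 : X)⁻¹ := by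
              rw [eq_mul_inv_iff_mul_eq]
              refine mul_left_cancel (a := d ^ (p'.1 : ℕ)) ?_
              rw [← mul_assoc, ← pow_add, Nat.add_sub_cancel' hle, he']
            have h5 := orderOf_dvd_of_pow_eq_one (h3 _ (h4 ▸ mul_mem p'.2.2 (inv_mem p.2.2)))
            rw [hod] at h5
            have := Nat.eq_zero_of_dvd_of_lt h5 (by omega)
            omega
        refine Prod.ext (Fin.ext hpq) (Subtype.ext ?_)
        rw [hpq] at he'
        exact mul_left_cancel he'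
      obtain ⟨⟨i, q⟩, hiq⟩ := hF.2 ⟨x, hx⟩
      exact ⟨i, i.2, q, q.2, (congrArg Subtype.val hiq).symm⟩
    refine ⟨hcard, fun y hy hy1 => ?_, fun g hg => ?_, fun v hv g x hx => ?_⟩
    · have hyD : y ∈ D := by
        have h1 : y = (y * y) * (y * y) := by
          calc y = y * y ^ 3 := by rw [hy, mul_one]
            _ = _ := by simp only [pow_succ, pow_zero, one_mul, mul_assoc]
        rw [h1]; exact mul_mem (hsqD y) (hsqD y)
      obtain ⟨i, hi, q, hq, hyi⟩ := hmapD y hyD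
      have hi0 : i ≠ 0 := by
        rintro rfl
        rw [pow_zero, one_mul] at hyi
        exact hy1 (hyi ▸ h.eq_one_of_three hq (hyi ▸ hy))
      intro z hz hzy
      refine h.fpf hy hy1 (q1 := (y ^ 2)⁻¹ * (e 1 * y * (e 1)⁻¹)) ?_ (Or.inr rfl)
        (mul_inv_cancel_left _ _).symm hz hzy
      have hπq : π q = 1 := (QuotientGroup.eq_one_iff _).2 hq
      have hπy : π y = π d ^ i := by rw [hyi, map_mul, hπq, mul_one, map_pow]
      have hπσd : π (e 1) * π d * (π (e 1))⁻¹ = π d ^ 2 := by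
        rw [← map_inv, ← map_mul, ← map_mul, hσd, mul_one, map_pow]
      refine (QuotientGroup.eq_one_iff _).1 ?_
      show π ((y ^ 2)⁻¹ * (e 1 * y * (e 1)⁻¹)) = 1
      rw [map_mul, map_inv, map_pow, map_mul, map_mul, map_inv, hπy, ← conj_pow, hπσd, ← pow_mul, ← pow_mul,
        mul_comm i 2, inv_mul_cancel]
    · by_contra hgT
      have hle : (T : Subgroup X) ≤ normalizer (h.c.sE : Set X) := fun t ht => mem_normalizer_fintype fun a ha =>
        h.c.sE_unique _ T.isPGroup' h.c.sE_le t (fun b hb => mul_mem (mul_mem ht (h.c.sE_le hb)) (inv_mem ht)) a ha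
      have h1 := Subgroup.card_dvd_of_le hle
      have h2 := Subgroup.card_subgroup_dvd_card (normalizer (h.c.sE : Set X))
      rw [h.c.card] at h1
      rw [hcard] at h2
      obtain ⟨c, hc⟩ := h1
      rw [hc] at h2
      have hc3 : c ∣ 3 := Nat.dvd_of_mul_dvd_mul_left (show 0 < 64 by norm_num) h2
      rcases (Nat.dvd_prime Nat.prime_three).1 hc3 with rfl | rfl
      · exact hgT ((Subgroup.eq_of_le_of_card_ge hle (by rw [hc, h.c.card])).ge hg)
      · exact h.E_not_normal (normalizer_eq_top_iff.1 (Subgroup.eq_top_of_card_eq _ (by rw [hc, hcard])))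
    · -- `X = D ∪ σ D`
      have hd' : ∀ {y : X}, y ∈ h.sL hv → d * y * d⁻¹ ∈ h.sL hv := fun hy => h.d_sL hd3 hd1 (one_mem _) hσd hv hy
      have hDL : ∀ a ∈ D, ∀ y ∈ h.sL hv, a * y * a⁻¹ ∈ h.sL hv := by
        intro a ha y hy
        obtain ⟨i, hi, q, hq, rfl⟩ := hmapD a ha
        rw [show d ^ i * q * y * (d ^ i * q)⁻¹ = d ^ i * (q * y * q⁻¹) * (d ^ i)⁻¹ by group]
        have h1 := h.T_sL hv (h.c.sQ_le hq) hy
        interval_cases i
        · simpa using h1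
        · simpa using hd' h1
        · rw [pow_two, show d * d * (q * y * q⁻¹) * (d * d)⁻¹ = d * (d * (q * y * q⁻¹) * d⁻¹) * d⁻¹ by group]
          exact hd' (hd' h1)
      rcases hcov g with hg | hg
      · exact hDL g hg x hx
      · have h1 := h.T_sL hv (inv_mem (h.c.e_mem (show 1 < 64 by norm_num))) (hDL _ hg x hx)
        rwa [show (e 1)⁻¹ * (e 1 * g * x * (e 1 * g)⁻¹) * (e 1)⁻¹⁻¹ = g * x * g⁻¹ by group] at h1
  · right
    haveI : Fact (Nat.Prime 3) := ⟨Nat.prime_three⟩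
    have hfix : ∃ d : X, d ^ 3 = 1 ∧ d ≠ 1 ∧ ∃ q ∈ h.c.sQ, q ∉ h.toLocal.Zset ∧ d * q * d⁻¹ = q := by
      by_contra hcon
      push Not at hcon
      obtain ⟨K, hK⟩ := Sylow.exists_subgroup_card_pow_prime 3 (G := X) (n := 2) (by rw [hcard]; norm_num)
      haveI : IsMulCommutative ↥K := IsPGroup.isMulCommutative_of_card_eq_prime_sq hK
      have hKexp : ∀ x ∈ K, x ^ 3 = 1 := by
        intro x hx
        have h9 : x ^ 9 = 1 := by
          have h1 : (⟨x, hx⟩ : ↥K) ^ Nat.card ↥K = 1 := pow_card_eq_one'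
          rw [hK] at h1
          exact congrArg Subtype.val h1
        have hxD : x ∈ D := by
          have h1 : x = x ^ 5 * x ^ 5 := by rw [← pow_add, pow_succ, h9, one_mul]
          rw [h1]; exact hsqD _
        exact h.eq_one_of_three (hexp x hxD) (by rw [← pow_mul, h9])
      have hnc : ¬ IsCyclic ↥K := fun hc => by
        obtain ⟨g, hg⟩ := hc.exists_ofOrder_eq_natCard
        have h1 : orderOf g ∣ 3 := orderOf_dvd_of_pow_eq_one (Subtype.ext (hKexp g g.2))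
        rw [hg, hK] at h1
        norm_num at h1
      have hgen := Grp.generated_by_centralizers K h.c.sQ hnc
        (by rw [normalizer_eq_top_iff.2 h.Q_normal]; exact le_top) (by rw [hK, h.c.sQ_card]; norm_num)
      have hQZ : h.c.sQ ≤ h.toLocal.Zset := by
        rw [← hgen]
        refine iSup₂_le fun a ha y hy => ?_
        obtain ⟨hyQ, hyC⟩ := mem_inf.1 hy
        by_contra hyZ
        exact hcon a (hKexp a ha.1) ha.2 y hyQ hyZ
          (mul_inv_eq_iff_eq_mul.2 (mem_centralizer_singleton_iff.1 hyC).symm)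
      have h16 : e 16 ∈ h.c.sQ := (h.c.e_mem_sQ (by norm_num)).2 (by decide)
      exact (h.toLocal.code_of_mem_Z (show 16 < 64 by norm_num) (hQZ h16)).elim (by norm_num) (by norm_num)
    refine ⟨hcard, hfix, ?_, fun x => hexp _ (hsqD x)⟩
    obtain ⟨d, hd3', hd1', q, hq, hqZ, hdq⟩ := hfix
    have hdD : d ∈ D := by
      have h1 : d = (d * d) * (d * d) := by
        calc d = d * d ^ 3 := by rw [hd3', mul_one]
          _ = _ := by simp only [pow_succ, pow_zero, one_mul, mul_assoc]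
      rw [h1]; exact mul_mem (hsqD d) (hsqD d)
    obtain ⟨d', hd'⟩ : ∃ d', d' = e 1 * d * (e 1)⁻¹ := ⟨_, rfl⟩
    have hd'D : d' ∈ D := hd' ▸ hDn.conj_mem d hdD _
    have hσd' : e 1 * d' * (e 1)⁻¹ = d := by
      rw [hd', inv_eq_of_mul_eq_one_right hσσ, show e 1 * (e 1 * d * e 1) * e 1 = e 1 * e 1 * d * (e 1 * e 1) by group,
        hσσ, one_mul, mul_one]
    obtain ⟨c, hc⟩ : ∃ c, c = d * d' := ⟨_, rfl⟩
    have hcQ : c ∉ h.c.sQ := fun hcQ => hqZ (h.fpf hd3' hd1' hcQ (Or.inr rfl) (by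
      rw [← hd', hc, ← mul_assoc, ← pow_succ, hd3', one_mul]) hq hdq)
    have hcD : c ∈ D := hc ▸ mul_mem hdD hd'D
    obtain ⟨c0, hc0⟩ : ∃ c0, c0 = c ^ 4 := ⟨_, rfl⟩
    have hc3 : c ^ 3 ∈ h.c.sQ := hexp c hcD
    have hc03 : c0 ^ 3 = 1 := by
      rw [hc0, ← pow_mul, show 4 * 3 = 3 * 4 by norm_num, pow_mul]; exact h.pow_four hc3
    have hc01 : c0 ≠ 1 := fun e1 => hcQ (by
      have h1 : c ^ 4 = c ^ 3 * c := pow_succ c 3
      rw [← hc0, e1] at h1
      rw [eq_inv_of_mul_eq_one_right h1.symm]; exact inv_mem hc3)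
    have hab : π d * π d' = π d' * π d := by
      have hkerD : π.ker ≤ D := by rw [QuotientGroup.ker_mk']; exact hQD
      have hi2 : (D.map π).index = 2 := (index_map_eq D (QuotientGroup.mk'_surjective _) hkerD).trans hidx
      have h18 : Nat.card (X ⧸ h.c.sQ) = 18 := by
        have h1 := card_eq_card_quotient_mul_card_subgroup h.c.sQ
        rw [hcard, h.c.sQ_card] at h1
        omega
      have h9 : Nat.card ↥(D.map π) = 3 ^ 2 := by
        have h1 := (D.map π).card_mul_index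
        rw [hi2, h18] at h1
        omega
      haveI := IsPGroup.isMulCommutative_of_card_eq_prime_sq h9
      exact congrArg Subtype.val (IsMulCommutative.is_comm.comm
        (⟨π d, mem_map_of_mem π hdD⟩ : ↥(D.map π)) ⟨π d', mem_map_of_mem π hd'D⟩)
    obtain ⟨q1, hq1⟩ : ∃ q1, q1 = c0⁻¹ * (e 1 * c0 * (e 1)⁻¹) := ⟨_, rfl⟩
    have hq1Q : q1 ∈ h.c.sQ := by
      refine (QuotientGroup.eq_one_iff _).1 ?_
      show π q1 = 1
      rw [hq1, hc0, ← conj_pow, hc, show e 1 * (d * d') * (e 1)⁻¹ = e 1 * d * (e 1)⁻¹ * (e 1 * d' * (e 1)⁻¹) by group,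
        ← hd', hσd', map_mul, map_inv, map_pow, map_pow, map_mul, map_mul, hab, inv_mul_cancel]
    have hσc : e 1 * c0 * (e 1)⁻¹ = c0 ^ 1 * q1 := by rw [pow_one, hq1, mul_inv_cancel_left]
    have hf : ∀ x ∈ h.c.sQ, c0 * x * c0⁻¹ = x → x ∈ h.toLocal.Zset := fun x hx he =>
      h.fpf hc03 hc01 hq1Q (Or.inl rfl) hσc hx he
    have hf2 : ∀ x ∈ h.c.sQ, c0 * c0 * x * (c0 * c0)⁻¹ = x → x ∈ h.toLocal.Zset := fun x hx he => by
      refine hf x hx ?_
      have h4 : c0 = c0 * c0 * (c0 * c0) := by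
        calc c0 = c0 ^ 3 * c0 := by rw [hc03, one_mul]
          _ = _ := by simp only [pow_succ, pow_zero, one_mul, mul_assoc]
      conv_lhs => rw [h4]
      calc _ = c0 * c0 * (c0 * c0 * x * (c0 * c0)⁻¹) * (c0 * c0)⁻¹ := by group
        _ = _ := by rw [he, he]
    -- `c₀` preserves `ω`
    have hω : ∀ m < 16, invQ m = true → ∃ k < 16, invQ k = true ∧ e k = c0 * e m * c0⁻¹ := by
      intro m hm hmq
      obtain ⟨k, hk, hkq, hke⟩ := h.conj_invQ c0 (show m < 64 by omega) hmq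
      have hm0 := (invQ_iff.1 hmq).1
      refine ⟨k, sigma_fix ⟨k, hk⟩ (invQ_iff.1 hkq).1 ?_, hkq, hke⟩
      refine h.toLocal.code_of_mem_Z (mM_lt _ _) ?_
      rw [← h.toLocal.comm_code (m := 1) (by norm_num) hk]
      have hσm : e 1 * e m * (e 1)⁻¹ = e m := by
        rw [(h.c.comm_iff (by norm_num) (show m < 64 by omega)).2 (comm_E ⟨1, by norm_num⟩ ⟨m, hm⟩),
          mul_inv_cancel_right]
      have hxZ : q1 * e m * q1⁻¹ * (e m)⁻¹ ∈ h.toLocal.Zset :=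
        h.Q_mod hq1Q ((h.c.e_mem_sQ (by omega)).2 hm0)
      rw [hke, show e 1 * (c0 * e m * c0⁻¹) * (e 1)⁻¹ = e 1 * c0 * (e 1)⁻¹ * (e 1 * e m * (e 1)⁻¹) * (e 1 * c0 * (e 1)⁻¹)⁻¹ by group,
        hσm, hσc, pow_one, show c0 * q1 * e m * (c0 * q1)⁻¹ * (c0 * e m * c0⁻¹)⁻¹ = c0 * (q1 * e m * q1⁻¹ * (e m)⁻¹) * c0⁻¹ by group,
        h.fix_Z hxZ]
      exact hxZ
    intro v w hv hw
    obtain ⟨hu, hu0, -, -⟩ := vOk_uM hv
    set u := e (uM v) with hudef
    have huQ : u ∈ h.c.sQ := (h.c.e_mem_sQ (by omega)).2 hu0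
    have huZ : u ∉ h.toLocal.Zset := h.not_Z (by omega) (h.invQ_uM hv)
    obtain ⟨k, hk, hkq, hke⟩ := hω _ hu (h.invQ_uM hv)
    obtain ⟨j, hj, hjq, hje⟩ := hω _ hk hkq
    obtain ⟨v1, hv1, hv1k⟩ := pair_cases ⟨k, hk⟩ hkq
    obtain ⟨v2, hv2, hv2j⟩ := pair_cases ⟨j, hj⟩ hjq
    simp only at hv1k hv2j
    have hsame : ∀ (a : ℕ), a < 4 → 1 ≤ a → ∀ m n, (m = uM a ∨ m = mM (uM a) 15) → (n = uM a ∨ n = mM (uM a) 15) →
        m < 64 → n < 64 → e n * (e m)⁻¹ ∈ h.toLocal.Zset := by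
      intro a ha4 ha m n hm hn hm' hn'
      rw [h.c.inv hm', h.c.mul n hn' _ (iM_lt m)]
      refine h.toLocal.mem_Z_of_code ?_
      have key : ∀ a : Fin 4, 1 ≤ (a : ℕ) → ∀ m n : Fin 64, ((m : ℕ) = uM a ∨ (m : ℕ) = mM (uM a) 15) →
          ((n : ℕ) = uM a ∨ (n : ℕ) = mM (uM a) 15) → mM n (iM m) = 0 ∨ mM n (iM m) = 15 := by
        have key' : ∀ a : Fin 4, 1 ≤ (a : ℕ) → ∀ i j : Fin 2,
            let f : Fin 2 → ℕ := fun i => bif i.val == 0 then uM a else mM (uM a) 15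
            mM (f j) (iM (f i)) = 0 ∨ mM (f j) (iM (f i)) = 15 := by decide +kernel
        intro a ha m n hm hn
        rcases hm with em | em <;> rcases hn with en | en <;> rw [em, en]
        exacts [key' a ha 0 0, key' a ha 0 1, key' a ha 1 0, key' a ha 1 1]
      exact key ⟨a, ha4⟩ ha ⟨m, hm'⟩ ⟨n, hn'⟩ hm hn
    have hkQ : e k ∈ h.c.sQ := (h.c.e_mem_sQ (by omega)).2 (invQ_iff.1 hkq).1
    have hkZ : e k ∉ h.toLocal.Zset := h.not_Z (by omega) hkq
    have h01 : (v1 : ℕ) ≠ v := fun e1 => h.moves hc03 hf huQ huZ (by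
      rw [← hke]; exact hsame v hv.2 hv.1 _ _ (Or.inl rfl) (e1 ▸ hv1k) (by omega) (by omega))
    have h12 : (v2 : ℕ) ≠ v1 := fun e1 => h.moves hc03 hf hkQ hkZ (by
      rw [← hje]; exact hsame v1 v1.2 hv1 _ _ hv1k (e1 ▸ hv2j) (by omega) (by omega))
    have hcc : (c0 * c0) ^ 3 = 1 := by rw [← pow_two, ← pow_mul, mul_comm, pow_mul, hc03, one_pow]
    have h02 : (v2 : ℕ) ≠ v := fun e1 => h.moves hcc hf2 huQ huZ (by
      rw [show c0 * c0 * u * (c0 * c0)⁻¹ = c0 * (c0 * u * c0⁻¹) * c0⁻¹ by group, ← hke, ← hje]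
      exact hsame v hv.2 hv.1 _ _ (Or.inl rfl) (e1 ▸ hv2j) (by omega) (by omega))
    have hadj : ∀ y : X, (y * u * y⁻¹ = e (uM w) ∨ y * u * y⁻¹ = e (mM (uM w) 15)) →
        ∃ x : X, x * u * x⁻¹ = e (uM w) := by
      rintro y (e1 | e1)
      · exact ⟨y, e1⟩
      obtain ⟨t, -, ht⟩ := pair_swap ⟨w, hw.2⟩ hw.1
      refine ⟨e t * y, ?_⟩
      rw [show e t * y * u * (e t * y)⁻¹ = e t * (y * u * y⁻¹) * (e t)⁻¹ by group, e1, h.c.conj t.2 (mM_lt _ _)]
      exact congrArg e ht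
    have hw3 : w = v ∨ w = v1 ∨ w = v2 := by
      have h1 := hv.2; have h2 := hv.1; have h3 := hw.2; have h4 := hw.1
      have h5 := v1.2; have h6 := v2.2
      omega
    rcases hw3 with rfl | rfl | rfl
    · exact ⟨1, by simp [hudef]⟩
    · exact hadj c0 (by rw [← hke]; exact hv1k.imp (congrArg e) (congrArg e))
    · refine hadj (c0 * c0) ?_
      rw [show c0 * c0 * u * (c0 * c0)⁻¹ = c0 * (c0 * u * c0⁻¹) * c0⁻¹ by group, ← hke, ← hje]
      exact hv2j.imp (congrArg e) (congrArg e)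

end LocalQ

end Cfsg.Agent.Transfer.AEightSolv
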