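import Cfsg.Agent.Lib.Transfer.AEightSolv.Fusion

/-!
# The possible orbits of `z` in `E`
-/

set_option autoImplicit false
set_option linter.style.haveILetI false
set_option linter.unusedSectionVars false
set_option maxRecDepth 100000

namespace Cfsg.Agent.Transfer.AEightSolv

open Subgroup Cfsg.Agent.Grp

universe u

theorem cent_pair : ∀ v : Fin 4, 1 ≤ (v : ℕ) → ∀ n : Fin 64,
    (∀ m : Fin 64, inL v m = true → comM n m = true) → inL v n = true := by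
  decide +kernel

theorem L_fix : ∀ v : Fin 4, 1 ≤ (v : ℕ) → ∀ n : Fin 16, inL v n = false →
    (Finset.univ.filter fun m : Fin 64 => inL v m = true ∧ comM n m = true).card ≤ 4 := by
  decide +kernel

theorem L_cards : ∀ v : Fin 4, 1 ≤ (v : ℕ) → (Finset.univ.filter fun m : Fin 64 => inL v m = true).card = 8 ∧
    (Finset.univ.filter fun m : Fin 16 => inL v m = true).card = 4 := by
  decide +kernel

namespace Coords

variable {G : Type*} [Group G] {S : Subgroup G} {e : ℕ → G} (c : Coords S e)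
include c

/-- the column subgroup -/
def sLG (c' : Coords S e) {v : ℕ} (hv : vOk v) : Subgroup G where
  carrier := {x | ∃ n < 64, inL v n = true ∧ e n = x}
  one_mem' := ⟨0, by norm_num, by simp [inL, show mM 0 0 = 0 by decide], c'.zero⟩
  mul_mem' := fun {x y} ⟨m, hm, hmL, hx⟩ ⟨n, hn, hnL, hy⟩ =>
    ⟨mM m n, mM_lt _ _, (L_ok ⟨v, hv.2⟩ hv.1 ⟨m, hm⟩ ⟨n, hn⟩ hmL hnL).1, by rw [← c'.mul m hm n hn, hx, hy]⟩
  inv_mem' := fun {x} ⟨m, hm, hmL, hx⟩ =>
    ⟨m, hm, hmL, by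
      rw [← hx, c'.inv hm, show iM m = m from (L_ok ⟨v, hv.2⟩ hv.1 ⟨m, hm⟩ ⟨m, hm⟩ hmL hmL).2.1]⟩

theorem e_mem_sLG {v : ℕ} (hv : vOk v) {n : ℕ} (hn : n < 64) : e n ∈ c.sLG hv ↔ inL v n = true :=
  ⟨fun ⟨m, hm, hmL, he⟩ => c.inj m hm n hn he ▸ hmL, fun hL => ⟨n, hn, hL, rfl⟩⟩

theorem sLG_sq {v : ℕ} (hv : vOk v) {x : G} (hx : x ∈ c.sLG hv) : x * x = 1 := by
  obtain ⟨m, hm, hmL, rfl⟩ := hx
  refine (c.sq_iff hm).2 ?_
  simp only [inL, Bool.and_eq_true, beq_iff_eq] at hmL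
  exact hmL.1

theorem sLG_comm {v : ℕ} (hv : vOk v) {x y : G} (hx : x ∈ c.sLG hv) (hy : y ∈ c.sLG hv) : x * y = y * x := by
  calc x * y = (x * y)⁻¹ := (inv_eq_of_mul_eq_one_right (c.sLG_sq hv (mul_mem hx hy))).symm
    _ = _ := by rw [mul_inv_rev, inv_eq_of_mul_eq_one_right (c.sLG_sq hv hx),
      inv_eq_of_mul_eq_one_right (c.sLG_sq hv hy)]

theorem sLG_le {v : ℕ} (hv : vOk v) : c.sLG hv ≤ S := fun _ ⟨_, hm, _, he⟩ => he ▸ c.e_mem hm

theorem sLG_elem {v : ℕ} (hv : vOk v) : Cfsg.IsElementaryAbelian 2 (c.sLG hv) :=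
  ⟨⟨⟨fun x y => Subtype.ext (c.sLG_comm hv x.2 y.2)⟩⟩, fun x hx => by rw [pow_two]; exact c.sLG_sq hv hx⟩

theorem sLG_card {v : ℕ} (hv : vOk v) : Nat.card ↥(c.sLG hv) = 8 := by
  rw [← (L_cards ⟨v, hv.2⟩ hv.1).1, ← Nat.card_eq_finsetCard]
  refine (Nat.card_eq_of_bijective (fun n : {n // n ∈ Finset.univ.filter fun n : Fin 64 => inL v n = true} =>
      (⟨e n.1, n.1, n.1.2, (Finset.mem_filter.1 n.2).2, rfl⟩ : ↥(c.sLG hv)))
    ⟨fun a b he => Subtype.ext (Fin.ext (c.inj _ a.1.2 _ b.1.2 (congrArg Subtype.val he))), ?_⟩).symm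
  rintro ⟨x, n, hn, hnL, rfl⟩
  exact ⟨⟨⟨n, hn⟩, Finset.mem_filter.2 ⟨Finset.mem_univ _, hnL⟩⟩, rfl⟩

theorem sLG_inf_card {v : ℕ} (hv : vOk v) : Nat.card ↥(c.sE ⊓ c.sLG hv) = 4 := by
  rw [← (L_cards ⟨v, hv.2⟩ hv.1).2, ← Nat.card_eq_finsetCard]
  refine (Nat.card_eq_of_bijective (fun n : {n // n ∈ Finset.univ.filter fun n : Fin 16 => inL v n = true} =>
      (⟨e n.1, ⟨n.1, n.1.2, rfl⟩, ⟨n.1, by omega, (Finset.mem_filter.1 n.2).2, rfl⟩⟩ : ↥(c.sE ⊓ c.sLG hv)))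
    ⟨fun a b he => Subtype.ext (Fin.ext (c.inj _ (by omega) _ (by omega) (congrArg Subtype.val he))), ?_⟩).symm
  rintro ⟨x, ⟨m, hm, rfl⟩, hx⟩
  exact ⟨⟨⟨m, hm⟩, Finset.mem_filter.2 ⟨Finset.mem_univ _, (c.e_mem_sLG hv (show m < 64 by omega)).1 hx⟩⟩, rfl⟩

end Coords

namespace Ctx

variable {G : Type u} [Group G] [Finite G] {S : Sylow 2 G} {e : ℕ → G} (h : Ctx G S e)
variable {T : Sylow 2 h.Xq} (hq : LocalQ h.Xq T h.eX)
include h hq

/-- An involution outside `E` is conjugate in `C(z)` to the pair element of its column. -/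
theorem outer_to_pair {n : ℕ} (hn : n < 64) (h16 : 16 ≤ n) (hsq : mM n n = 0) :
    vOk (vP n) ∧ ∃ c ∈ centralizer ({e 15} : Set G), c * e (uM (vP n)) * c⁻¹ = e n := by
  have hv : vOk (vP n) := vP_range ⟨n, hn⟩ h16
  refine ⟨hv, ?_⟩
  obtain ⟨hu, -⟩ := vOk_uM hv
  obtain ⟨x, hx⟩ := hq.shape.2.1 (vP n) n hv hn h16 hsq rfl
  obtain ⟨⟨g, hg⟩, rfl⟩ := QuotientGroup.mk'_surjective _ x
  obtain ⟨g', hg', -, he⟩ := h.lift_exact hg (show uM (vP n) < 64 by omega) hn (sq_E ⟨_, hu⟩) hsq hx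
  exact ⟨g', hg', he⟩

theorem O_outer {n : ℕ} (hn : n < 64) (h16 : 16 ≤ n) (hsq : mM n n = 0) : h.IsO n ↔ h.IsO (uM (vP n)) := by
  obtain ⟨-, c, -, hc⟩ := h.outer_to_pair hq hn h16 hsq
  constructor
  · rintro ⟨g, hg⟩
    refine ⟨c⁻¹ * g, ?_⟩
    rw [show c⁻¹ * g * e 15 * (c⁻¹ * g)⁻¹ = c⁻¹ * (g * e 15 * g⁻¹) * c by group, hg, ← hc]
    group
  · rintro ⟨g, hg⟩
    refine ⟨c * g, ?_⟩
    rw [show c * g * e 15 * (c * g)⁻¹ = c * (g * e 15 * g⁻¹) * c⁻¹ by group, hg, hc]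

/-- (P4): the centraliser of a pair element in `C(z)`. -/
theorem pair_cent {v : ℕ} (hv : vOk v) {g : G} (hg : g ∈ centralizer ({e 15} : Set G))
    (hgu : g * e (uM v) = e (uM v) * g) : ∃ o ∈ theta (e 15), o⁻¹ * g ∈ normalizer (h.c.sE : Set G) := by
  refine h.lift_norm hq.toLocal hg (hq.shape.2.2 v hv _ ?_)
  obtain ⟨hu, -⟩ := vOk_uM hv
  rw [h.eX_eq (show uM v < 64 by omega), ← map_mul, ← map_mul]
  exact congrArg _ (Subtype.ext hgu)

theorem exists_O : h.IsO 3 ∨ h.IsO 5 ∨ h.IsO 9 ∨ h.IsO 1 ∨ h.IsO 7 := by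
  haveI : Fact (Nat.Prime 2) := ⟨Nat.prime_two⟩
  by_contra hcon
  simp only [not_or] at hcon
  obtain ⟨o3, o5, o9, o1, o7⟩ := hcon
  have hno : ∀ v, vOk v → ¬ h.IsO (uM v) := by
    rintro v ⟨hv1, hv4⟩
    interval_cases v
    exacts [o3, o5, o9]
  obtain ⟨N, hN, hodd, hcomm⟩ := S0215.result S (e 15) h.c.z_order (h.c.e_mem (by norm_num)) fun g hg => by
    obtain ⟨n, hn, hne⟩ := (h.c.mem _).1 hg
    have hsq : mM n n = 0 := (h.c.sq_iff hn).1 (by
      rw [hne, show g * e 15 * g⁻¹ * (g * e 15 * g⁻¹) = g * (e 15 * e 15) * g⁻¹ by group, h.c.z_sq]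
      group)
    by_cases h16 : n < 16
    · have h1 := (h.orb_iff h16).1 ⟨g, hne.symm⟩
      simp [orbM, oB, o3, o5, o9, o1, o7] at h1
      rw [← hne, h1]
    · push Not at h16
      exact absurd ((h.O_outer hq hn h16 hsq).1 ⟨g, hne.symm⟩) (hno _ (h.outer_to_pair hq hn h16 hsq).1)
  have hNb : N = ⊥ := le_bot_iff.1 (h.odd ▸ le_pPrimeCore hN (Nat.coprime_two_right.2 hodd))
  have hz : ∀ g : G, g * e 15 = e 15 * g := fun g => by
    have h1 := hcomm g
    rw [hNb, mem_bot, mul_inv_eq_one, mul_inv_eq_iff_eq_mul] at h1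
    exact h1.symm
  haveI hn : (zpowers (e 15)).Normal := ⟨fun x hx g => by
    obtain ⟨i, rfl⟩ := hx
    show g * e 15 ^ i * g⁻¹ ∈ zpowers (e 15)
    rw [← conj_zpow, hz g, mul_inv_cancel_right]
    exact ⟨i, rfl⟩⟩
  have h2 : zpowers (e 15) ≤ Cfsg.pCore 2 G :=
    le_pCore hn (IsPGroup.of_card (n := 1) (by rw [Nat.card_zpowers, h.c.z_order, pow_one]))
  rw [h.two, le_bot_iff, zpowers_eq_bot] at h2
  exact h.c.z_ne h2

omit hq in
/-- Both odd classes without a pair. -/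
theorem odd_both_false (h3 : ¬ h.IsO 3) (h5 : ¬ h.IsO 5) (h9 : ¬ h.IsO 9) (h1 : h.IsO 1) (h7 : h.IsO 7) : False := by
  obtain ⟨n, hn, hne⟩ := h.O_transitive (show 1 < 16 by norm_num) h1
  obtain ⟨k, hk, hke⟩ := h.norm_code hn (show 3 < 16 by norm_num)
  obtain ⟨j, hj, hje⟩ := h.norm_code hn (show 12 < 16 by norm_num)
  have hback : ∀ {m k : ℕ}, e k = n * e m * n⁻¹ → h.IsO k → h.IsO m := fun {m k} hk hO =>
    h.O_norm (n := n⁻¹) (by rw [hk]; group) hO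
  have b3 : h.oB 3 = false := by simp [oB, h3]
  have b5 : h.oB 5 = false := by simp [oB, h5]
  have b9 : h.oB 9 = false := by simp [oB, h9]
  have b1 : h.oB 1 = true := h.oB_iff.2 h1
  have b7 : h.oB 7 = true := h.oB_iff.2 h7
  have hnotO : ∀ {m k : ℕ}, m < 16 → k < 16 → orbM false false false true true m = false →
      e k = n * e m * n⁻¹ → orbM false false false true true k = false := fun {m k} hm hk hmf hke => by
    by_contra hcon
    rw [Bool.not_eq_false] at hcon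
    have := (h.orb_iff hm).1 (hback hke ((h.orb_iff hk).2 (by rw [b3, b5, b9, b1, b7]; exact hcon)))
    rw [b3, b5, b9, b1, b7, hmf] at this
    exact Bool.noConfusion this
  have key : ∀ k j : Fin 16, orbM false false false true true k = false → orbM false false false true true j = false →
      mM k j ≠ 1 := by decide +kernel
  refine key ⟨k, hk⟩ ⟨j, hj⟩ (hnotO (by norm_num) hk (by decide) hke) (hnotO (by norm_num) hj (by decide) hje) ?_
  refine h.c.inj _ (mM_lt _ _) 1 (by norm_num) ?_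
  rw [← h.c.mul k (by omega) j (by omega), hke, hje, ← hne]
  have h15 : e 3 * e 12 = e 15 := by
    rw [h.c.mul 3 (by norm_num) 12 (by norm_num), show mM 3 12 = 15 by decide]
  rw [← h15]; group

omit hq in
theorem oB_false {m : ℕ} : h.oB m = false ↔ ¬ h.IsO m := by simp [oB]

theorem small_stab (hs : hq.Small) {n : ↥(normalizer (h.c.sE : Set G))} (hn : (n : G) * e 15 * (n : G)⁻¹ = e 15) :
    h.c.sE.normalizerMonoidHom n ∈ h.autS := by
  have hnC : (n : G) ∈ centralizer ({e 15} : Set G) := mem_centralizer_singleton_iff.2 (mul_inv_eq_iff_eq_mul.1 hn)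
  have hnT := hs.norm (h.pr hnC) (mem_normalizer_fintype fun x hx => by
    obtain ⟨m, hm, rfl⟩ := hx
    obtain ⟨k, hk, hke⟩ := h.norm_code n.2 hm
    refine ⟨k, hk, ?_⟩
    rw [h.eX_eq (show k < 64 by omega), h.eX_eq (show m < 64 by omega), ← map_inv, ← map_mul, ← map_mul]
    exact congrArg _ (Subtype.ext hke))
  obtain ⟨s, hs64, hse⟩ := (hq.c.mem _).1 hnT
  rw [h.eX_eq hs64] at hse
  have ho : (n : G) * (e s)⁻¹ ∈ theta (e 15) := h.pr_congr hnC (h.e_cent hs64) hse.symm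
  have hsS := h.c.e_mem hs64
  refine ⟨⟨e s, h.S_le_norm hsS⟩, mem_subgroupOf.2 hsS, MulEquiv.ext fun a => Subtype.ext ?_⟩
  show e s * (a : G) * (e s)⁻¹ = (n : G) * a * (n : G)⁻¹
  obtain ⟨o, ho'⟩ : ∃ o, o = (n : G) * (e s)⁻¹ := ⟨_, rfl⟩
  have hoN : o ∈ normalizer (h.c.sE : Set G) := ho' ▸ mul_mem n.2 (inv_mem (h.S_le_norm hsS))
  have hb : e s * (a : G) * (e s)⁻¹ ∈ h.c.sE := (mem_normalizer_iff.1 (h.S_le_norm hsS) _).1 a.2
  have hb' := (mem_normalizer_iff.1 hoN _).1 hb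
  have hfix : o * (e s * (a : G) * (e s)⁻¹) * o⁻¹ = e s * (a : G) * (e s)⁻¹ := by
    refine eq_of_congr (theta_odd (e 15)) (elemAb_isPGroup h.c.sE_elem) hb' hb ?_
    rw [show o * (e s * (a : G) * (e s)⁻¹) * o⁻¹ * (e s * (a : G) * (e s)⁻¹)⁻¹ =
      o * ((e s * (a : G) * (e s)⁻¹) * o⁻¹ * (e s * (a : G) * (e s)⁻¹)⁻¹) by group]
    exact mul_mem (ho' ▸ ho) (h.theta_conj (h.S_le_cent (h.c.sE_le hb)) (inv_mem (ho' ▸ ho)))
  rw [show (n : G) = o * e s by rw [ho', inv_mul_cancel_right]]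
  conv_lhs => rw [← hfix]
  group

/-- In the small case an orbit of size 5, 7 or 15 is impossible. -/
theorem small_prime_false (hs : hq.Small)
    (hN : orbN (h.oB 3) (h.oB 5) (h.oB 9) (h.oB 1) (h.oB 7) ∈ [5, 7, 15]) : False := by
  classical
  obtain ⟨N, hNdef⟩ : ∃ N, N = orbN (h.oB 3) (h.oB 5) (h.oB 9) (h.oB 1) (h.oB 7) := ⟨_, rfl⟩
  rw [← hNdef] at hN
  have horb := h.orbit_card
  rw [← hNdef] at horb
  set V := h.autS.subgroupOf h.autE with hVdef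
  have hV4 : Nat.card ↥V = 4 := by
    rw [hVdef, Nat.card_congr (subgroupOfEquivOfLe h.autS_le).toEquiv, h.autS_card]
  have hstab : MulAction.stabilizer ↥h.autE h.zE = V := by
    ext x
    refine ⟨fun hx => ?_, fun hx => h.autS_fix (mem_subgroupOf.1 hx)⟩
    obtain ⟨_, n, rfl⟩ := x
    exact mem_subgroupOf.2 (h.small_stab hq hs (congrArg (fun y : ↥h.c.sE => (y : G)) hx))
  have hHcard : Nat.card ↥h.autE = N * 4 := by
    rw [Nat.card_congr (MulAction.orbitProdStabilizerEquivGroup ↥h.autE h.zE).symm, Nat.card_prod, horb, hstab, hV4]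
  obtain ⟨D, hDn, hDodd, hDcard⟩ := exists_complement V (IsPGroup.of_card (n := 2) hV4) h.autS_odd_index
    (fun a ha b hb => Subtype.ext (h.autS_comm (mem_subgroupOf.1 ha) (mem_subgroupOf.1 hb)))
    (fun x hx => by
      rw [← hstab, MulAction.mem_stabilizer_iff]
      obtain ⟨m, hm, hme⟩ := (x • h.zE).2
      have hfix : ∀ v ∈ V, v • (x • h.zE) = x • h.zE := fun v hv => by
        have hv' : x⁻¹ * v * x ∈ V := by
          have := (mem_normalizer_iff.1 (inv_mem hx) v).1 hv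
          rwa [inv_inv] at this
        calc v • x • h.zE = x • ((x⁻¹ * v * x) • h.zE) := by rw [smul_smul, smul_smul]; congr 1; group
          _ = _ := by rw [show (x⁻¹ * v * x) • h.zE = h.zE from h.autS_fix (mem_subgroupOf.1 hv')]
      have hcm : ∀ s : Fin 64, comM s m = true := fun s => by
        have hsS := h.c.e_mem s.2
        have h1 := congrArg (fun y : ↥h.c.sE => (y : G))
          (hfix ⟨_, ⟨⟨e s, h.S_le_norm hsS⟩, rfl⟩⟩ (mem_subgroupOf.2 ⟨_, mem_subgroupOf.2 hsS, rfl⟩))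
        change e s * ((x • h.zE : ↥h.c.sE) : G) * (e s)⁻¹ = ((x • h.zE : ↥h.c.sE) : G) at h1
        rw [← hme] at h1
        exact (h.c.comm_iff s.2 (show m < 64 by omega)).1 (mul_inv_eq_iff_eq_mul.1 h1)
      refine Subtype.ext ?_
      rcases fixed_common ⟨m, hm⟩ hcm with e1 | e1
      · exfalso
        simp only at e1
        rw [e1, h.c.zero] at hme
        exact h.c.z_ne (congrArg Subtype.val ((x : MulAut ↥h.c.sE).injective
          ((Subtype.ext hme.symm : (x : MulAut ↥h.c.sE) h.zE = 1).trans (map_one (x : MulAut ↥h.c.sE)).symm)))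
      · simp only at e1
        rw [← hme, e1]; rfl)
  rw [hV4, hHcard] at hDcard
  have hDN : Nat.card ↥D = N := by omega
  obtain ⟨p, hp, hp5, hpN, hp2⟩ : ∃ p, p.Prime ∧ 5 ≤ p ∧ p ∣ N ∧ ¬ p ^ 2 ∣ N * 4 := by
    simp only [List.mem_cons, List.not_mem_nil, or_false] at hN
    rcases hN with e1 | e1 | e1 <;> rw [e1]
    · exact ⟨5, by norm_num, by norm_num, by norm_num, by norm_num⟩
    · exact ⟨7, by norm_num, by norm_num, by norm_num, by norm_num⟩
    · exact ⟨5, by norm_num, by norm_num, by norm_num, by norm_num⟩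
  rw [← hHcard] at hp2
  obtain ⟨P, hP, hVP⟩ := exists_prime_normalised hp hDodd (hDN ▸ hpN) hp2 (IsPGroup.of_card (n := 2) hV4)
    (by rw [normalizer_eq_top_iff.2 hDn]; exact le_top)
  refine prime_orbit_false h.zE hp hp5 (horb ▸ hpN) hp2 hV4
    (fun v hv => Subtype.ext (h.autS_sq (mem_subgroupOf.1 hv))) (fun v hv => h.autS_fix (mem_subgroupOf.1 hv))
    (fun v hv hv1 => h.autS_fixed (mem_subgroupOf.1 hv) fun e1 => hv1 (Subtype.ext e1)) hP hVP

omit hq in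
/-- All pairs and no odd class is impossible. -/
theorem pairs_only_false (h3 : h.IsO 3) (h5 : h.IsO 5) (h9 : h.IsO 9) (h1 : ¬ h.IsO 1) (h7 : ¬ h.IsO 7) : False := by
  classical
  haveI : Fact (Nat.Prime 2) := ⟨Nat.prime_two⟩
  haveI : Fact (Nat.Prime 7) := ⟨by norm_num⟩
  have b : orbN (h.oB 3) (h.oB 5) (h.oB 9) (h.oB 1) (h.oB 7) = 7 := by
    rw [h.oB_iff.2 h3, h.oB_iff.2 h5, h.oB_iff.2 h9, h.oB_false.2 h1, h.oB_false.2 h7]
    decide
  set V := h.autS.subgroupOf h.autE with hVdef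
  have hV4 : Nat.card ↥V = 4 := by
    rw [hVdef, Nat.card_congr (subgroupOfEquivOfLe h.autS_le).toEquiv, h.autS_card]
  -- `ω` as a subgroup of `E`
  set W : Subgroup ↥h.c.sE := h.c.sQ.subgroupOf h.c.sE with hW
  have hWmem : ∀ m, ∀ hm : m < 16, (⟨e m, m, hm, rfl⟩ : ↥h.c.sE) ∈ W ↔ oddM m = false := fun m hm => by
    rw [hW, mem_subgroupOf]
    exact h.c.e_mem_sQ (by omega)
  have key : ∀ m : Fin 16, oddM m = false ↔ ((m : ℕ) = 0 ∨ orbM true true true false false m = true) := by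
    decide +kernel
  have hinv : ∀ (f : ↥h.autE) (y : ↥h.c.sE), y ∈ W → (f : MulAut ↥h.c.sE) y ∈ W := by
    rintro ⟨_, n, rfl⟩ ⟨_, m, hm, rfl⟩ hy
    obtain ⟨k, hk, hke⟩ := h.norm_code n.2 hm
    rw [show h.c.sE.normalizerMonoidHom n ⟨e m, m, hm, rfl⟩ = ⟨e k, k, hk, rfl⟩ from Subtype.ext hke.symm, hWmem k hk]
    refine (key ⟨k, hk⟩).2 ?_
    rcases (key ⟨m, hm⟩).1 ((hWmem m hm).1 hy) with e1 | e1
    · left
      simp only at e1
      refine (h.c.eq_one (show k < 64 by omega)).1 ?_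
      rw [hke, e1, h.c.zero]; group
    · right
      have := (h.orb_iff hk).1 (h.O_norm hke ((h.orb_iff hm).2 (by
        rw [h.oB_iff.2 h3, h.oB_iff.2 h5, h.oB_iff.2 h9, h.oB_false.2 h1, h.oB_false.2 h7]; exact e1)))
      rwa [h.oB_iff.2 h3, h.oB_iff.2 h5, h.oB_iff.2 h9, h.oB_false.2 h1, h.oB_false.2 h7] at this
  let ρ : ↥h.autE →* MulAut ↥W :=
    { toFun := fun f =>
        { toFun := fun y => ⟨(f : MulAut ↥h.c.sE) y, hinv f y y.2⟩
          invFun := fun y => ⟨((f⁻¹ : ↥h.autE) : MulAut ↥h.c.sE) y, hinv f⁻¹ y y.2⟩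
          left_inv := fun y => Subtype.ext ((f : MulAut ↥h.c.sE).symm_apply_apply y)
          right_inv := fun y => Subtype.ext ((f : MulAut ↥h.c.sE).apply_symm_apply y)
          map_mul' := fun a b => Subtype.ext (map_mul (f : MulAut ↥h.c.sE) _ _) }
      map_one' := rfl
      map_mul' := fun _ _ => rfl }
  have hVodd : ¬ 2 ∣ V.index := h.autS_odd_index
  let P2 : Sylow 2 ↥h.autE := (IsPGroup.of_card (n := 2) hV4).toSylow hVodd
  have hWcard : Nat.card ↥W = 2 ^ 3 := by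
    have : (Finset.univ.filter fun m : Fin 16 => oddM m = false).card = 8 := by decide +kernel
    rw [show (2 : ℕ) ^ 3 = 8 by norm_num, ← this, ← Nat.card_eq_finsetCard]
    refine (Nat.card_eq_of_bijective (fun n : {n // n ∈ Finset.univ.filter fun n : Fin 16 => oddM n = false} =>
      (⟨⟨e n.1, n.1, n.1.2, rfl⟩, (hWmem _ n.1.2).2 (Finset.mem_filter.1 n.2).2⟩ : ↥W))
      ⟨fun a b he => Subtype.ext (Fin.ext (h.c.inj _ (by omega) _ (by omega)
        (congrArg (fun y : ↥W => ((y : ↥h.c.sE) : G)) he))), ?_⟩).symm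
    rintro ⟨⟨x, m, hm, rfl⟩, hx⟩
    exact ⟨⟨⟨m, hm⟩, Finset.mem_filter.2 ⟨Finset.mem_univ _, (hWmem m hm).1 hx⟩⟩, rfl⟩
  have hρ : Function.Injective ρ := by
    rw [← MonoidHom.ker_eq_bot_iff, Subgroup.eq_bot_iff_forall]
    have hsq : ∀ f ∈ ρ.ker, f * f = 1 := fun f hf => by
      have hfix : ∀ y ∈ W, (f : MulAut ↥h.c.sE) y = y := fun y hy =>
        congrArg Subtype.val (DFunLike.congr_fun (MonoidHom.mem_ker.1 hf) ⟨y, hy⟩)
      refine Subtype.ext (MulEquiv.ext fun y => ?_)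
      show (f : MulAut ↥h.c.sE) ((f : MulAut ↥h.c.sE) y) = y
      by_cases hy : y ∈ W
      · rw [hfix y hy, hfix y hy]
      have h2 : ∀ a b : ↥h.c.sE, a ∉ W → b ∉ W → a⁻¹ * b ∈ W := by
        rintro ⟨_, a, ha, rfl⟩ ⟨_, b, hb, rfl⟩ haW hbW
        rw [hWmem a ha, Bool.not_eq_false] at haW
        rw [hWmem b hb, Bool.not_eq_false] at hbW
        rw [hW, mem_subgroupOf]
        show (e a)⁻¹ * e b ∈ h.c.sQ
        rw [h.c.inv (show a < 64 by omega), h.c.mul _ (iM_lt _) b (by omega), h.c.e_mem_sQ (mM_lt _ _)]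
        exact (by decide +kernel : ∀ a b : Fin 16, oddM a = true → oddM b = true → oddM (mM (iM a) b) = false)
          ⟨a, ha⟩ ⟨b, hb⟩ haW hbW
      have hfy : (f : MulAut ↥h.c.sE) y ∉ W := fun hh => hy (by
        have := hinv f⁻¹ _ hh
        rwa [show ((f⁻¹ : ↥h.autE) : MulAut ↥h.c.sE) ((f : MulAut ↥h.c.sE) y) = y from
          (f : MulAut ↥h.c.sE).symm_apply_apply y] at this)
      obtain ⟨w, hwdef⟩ : ∃ w, w = y⁻¹ * (f : MulAut ↥h.c.sE) y := ⟨_, rfl⟩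
      have hw : w ∈ W := hwdef ▸ h2 _ _ hy hfy
      have hfy' : (f : MulAut ↥h.c.sE) y = y * w := by rw [hwdef, mul_inv_cancel_left]
      rw [hfy', map_mul, hfy', hfix w hw, mul_assoc,
        show w * w = 1 from Subtype.ext (by rw [Subgroup.coe_mul, ← pow_two]; exact h.c.sE_elem.2 _ w.2), mul_one]
    have hker2 : IsPGroup 2 ρ.ker := fun f => ⟨1, Subtype.ext (by
      rw [pow_one, SubmonoidClass.coe_pow, pow_two]; exact hsq f f.2)⟩
    intro f hf
    have hfV : f ∈ V := hker2.le_sylow_of_normal P2 hf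
    by_contra hne
    obtain ⟨fs, hfs, hfy⟩ := h.autS_fixed (mem_subgroupOf.1 hfV) fun e1 => hne (Subtype.ext e1)
    have hle : Nat.card ↥W ≤ fs.card := by
      rw [← Nat.card_eq_finsetCard]
      exact Nat.card_le_card_of_injective (fun y : ↥W => (⟨y.1, hfy _
        (congrArg Subtype.val (DFunLike.congr_fun (MonoidHom.mem_ker.1 hf) y))⟩ : {y // y ∈ fs}))
        fun a c he => by
          have h' : (a : ↥h.c.sE) = c := congrArg (fun w : {y // y ∈ fs} => w.1) he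
          exact Subtype.ext h'
    omega
  have h168 : Nat.card ↥h.autE ∣ 168 := by
    have h1 := card_mulAut_elementary (M := ↥W) (fun a => Subtype.ext (Subtype.ext (by
      show ((a : ↥h.c.sE) : G) * (a : ↥h.c.sE) = 1
      rw [← pow_two]; exact h.c.sE_elem.2 _ (a : ↥h.c.sE).2))) hWcard
    rw [show (∏ i : Fin 3, (2 ^ 3 - 2 ^ (i : ℕ))) = 168 by decide] at h1
    exact h1 ▸ card_dvd_of_injective ρ hρ
  have horb := h.orbit_card
  rw [b] at horb
  have h7 : 7 ∣ Nat.card ↥h.autE := by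
    rw [Nat.card_congr (MulAction.orbitProdStabilizerEquivGroup ↥h.autE h.zE).symm, Nat.card_prod, horb]
    exact dvd_mul_right _ _
  obtain ⟨P⟩ : Nonempty (Sylow 7 ↥h.autE) := inferInstance
  have h49 : ¬ 7 ^ 2 ∣ Nat.card ↥h.autE := fun hh => absurd (hh.trans h168) (by norm_num)
  have hPc : Nat.card ↥(P : Subgroup ↥h.autE) = 7 := by
    rw [P.card_eq_multiplicity]
    have h1 : (Nat.card ↥h.autE).factorization 7 = 1 := by
      refine le_antisymm ?_ ((Fact.out : Nat.Prime 7).factorization_pos_of_dvd Nat.card_pos.ne' h7)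
      by_contra hh
      exact h49 ((Nat.pow_dvd_pow 7 (by omega)).trans (Nat.ordProj_dvd _ 7))
    rw [h1, pow_one]
  have hone : Nat.card (Sylow 7 ↥h.autE) = 1 := by
    have hidx := (P : Subgroup ↥h.autE).card_mul_index
    rw [hPc] at hidx
    have hodd : ¬ 8 ∣ Nat.card ↥h.autE := fun hh => hVodd (by
      have h1 := V.card_mul_index
      rw [hV4] at h1
      omega)
    have h24 : (P : Subgroup ↥h.autE).index ∣ 24 := by
      have h1 : 7 * (P : Subgroup ↥h.autE).index ∣ 7 * 24 := hidx ▸ h168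
      exact (mul_dvd_mul_iff_left (by norm_num)).1 h1
    have h2 : Nat.card (Sylow 7 ↥h.autE) ∣ (P : Subgroup ↥h.autE).index := P.card_dvd_index
    have h3 := card_sylow_modEq_one 7 ↥h.autE
    have h4 : ¬ 8 ∣ (P : Subgroup ↥h.autE).index := fun hh => hodd (hidx ▸ Dvd.dvd.mul_left hh 7)
    have key7 : ∀ n ∈ Nat.divisors 24, n % 7 = 1 → n = 1 ∨ 8 ∣ n := by decide
    refine (key7 _ (Nat.mem_divisors.2 ⟨h2.trans h24, by norm_num⟩) h3).resolve_right fun hh => h4 (hh.trans h2)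
  haveI : Subsingleton (Sylow 7 ↥h.autE) := (Nat.card_eq_one_iff_unique.1 hone).1
  exact prime_orbit_false h.zE (p := 7) (by norm_num) (by norm_num) (horb ▸ dvd_rfl) h49 hV4
    (fun v hv => Subtype.ext (h.autS_sq (mem_subgroupOf.1 hv))) (fun v hv => h.autS_fix (mem_subgroupOf.1 hv))
    (fun v hv hv1 => h.autS_fixed (mem_subgroupOf.1 hv) fun e1 => hv1 (Subtype.ext e1)) (P := (P : Subgroup ↥h.autE)) hPc
    (by rw [normalizer_eq_top_iff.2 P.normal_of_subsingleton]; exact le_top)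

/-- A single pair is impossible. -/
theorem one_pair_false {v : ℕ} (hv : vOk v) (hvO : h.IsO (uM v))
    (honly : ∀ w, vOk w → h.IsO (uM w) → w = v) (h1 : ¬ h.IsO 1) (h7 : ¬ h.IsO 7) : False := by
  classical
  have hO : ∀ n < 64, mM n n = 0 → h.IsO n → inL v n = true := by
    intro n hn hsq hnO
    by_cases h16 : n < 16
    · have h2 := (h.orb_iff h16).1 hnO
      have hp : ∀ w, vOk w → h.oB (uM w) = decide (w = v) := fun w hw => by
        rw [Bool.eq_iff_iff, h.oB_iff, decide_eq_true_eq]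
        exact ⟨honly w hw, fun e1 => e1 ▸ hvO⟩
      rw [h.oB_false.2 h1, h.oB_false.2 h7, show h.oB 3 = decide (1 = v) from hp 1 ⟨le_rfl, by norm_num⟩,
        show h.oB 5 = decide (2 = v) from hp 2 ⟨by norm_num, by norm_num⟩,
        show h.oB 9 = decide (3 = v) from hp 3 ⟨by norm_num, by norm_num⟩] at h2
      exact (by decide +kernel : ∀ v : Fin 4, 1 ≤ (v : ℕ) → ∀ n : Fin 16,
        orbM (decide (1 = (v : ℕ))) (decide (2 = (v : ℕ))) (decide (3 = (v : ℕ))) false false n = true →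
          inL v n = true) ⟨v, hv.2⟩ hv.1 ⟨n, h16⟩ h2
    · push Not at h16
      have h2 := honly _ (h.outer_to_pair hq hn h16 hsq).1 ((h.O_outer hq hn h16 hsq).1 hnO)
      simp [inL, hsq, h2, h16]
  have hL : ∀ n < 64, inL v n = true → n ≠ 0 → h.IsO n := by
    intro n hn hnL hn0
    have hsq : mM n n = 0 := by
      simp only [inL, Bool.and_eq_true, beq_iff_eq] at hnL
      exact hnL.1
    by_cases h16 : n < 16
    · rcases (by decide +kernel : ∀ v : Fin 4, 1 ≤ (v : ℕ) → ∀ n : Fin 16, inL v n = true → (n : ℕ) = 0 ∨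
          (n : ℕ) = 15 ∨ (n : ℕ) = uM v ∨ (n : ℕ) = mM (uM v) 15) ⟨v, hv.2⟩ hv.1 ⟨n, h16⟩ hnL with e1 | e1 | e1 | e1
        <;> simp only at e1
      · exact absurd e1 hn0
      · exact e1 ▸ h.O_self
      · exact e1 ▸ hvO
      · obtain ⟨t, -, ht⟩ := pair_swap ⟨v, hv.2⟩ hv.1
        obtain ⟨hu, -⟩ := vOk_uM hv
        rw [e1]
        refine (h.O_conj_iff t.2 (mM_lt _ _)).1 ?_
        rw [ht]; exact hvO
    · push Not at h16
      refine (h.O_outer hq hn h16 hsq).2 ?_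
      have hvP : vP n = v := (by decide +kernel : ∀ v : Fin 4, 1 ≤ (v : ℕ) → ∀ n : Fin 64, 16 ≤ (n : ℕ) →
        inL v n = true → vP n = v) ⟨v, hv.2⟩ hv.1 ⟨n, hn⟩ h16 hnL
      rwa [hvP]
  have hclosed : Cfsg.IsStronglyClosed (h.c.sLG hv) (S : Subgroup G) := by
    refine ⟨h.c.sLG_le hv, fun x hx g hg => ?_⟩
    by_cases hx1 : x = 1
    · rw [hx1, mul_one, mul_inv_cancel]; exact one_mem _
    obtain ⟨n, hn, hnL, rfl⟩ := hx
    obtain ⟨g0, hg0⟩ := hL n hn hnL fun e1 => hx1 ((h.c.eq_one hn).2 e1)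
    obtain ⟨k, hk, hke⟩ := (h.c.mem _).1 hg
    rw [← hke, h.c.e_mem_sLG hv hk]
    refine hO k hk ((h.c.sq_iff hk).1 ?_) ⟨g * g0, ?_⟩
    · rw [hke, show g * e n * g⁻¹ * (g * e n * g⁻¹) = g * (e n * e n) * g⁻¹ by group,
        h.c.sLG_sq hv ⟨n, hn, hnL, rfl⟩]
      group
    · rw [hke, show g * g0 * e 15 * (g * g0)⁻¹ = g * (g0 * e 15 * g0⁻¹) * g⁻¹ by group, hg0]
  have hg : GoldHyp S (e 15) (h.c.sLG hv) :=
    ⟨h.res, h.odd, h.two, (h.c.e_mem_sLG hv (by norm_num)).2 (by simp [inL, show mM 15 15 = 0 by decide]),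
      h.c.z_order, fun x hx hc => h.center_two hx hc, h.c.sLG_elem hv, hclosed, by rw [h.c.sLG_card hv]; norm_num,
      fun s hs hc => by
        obtain ⟨n, hn, rfl⟩ := (h.c.mem s).1 hs
        exact (h.c.e_mem_sLG hv hn).2 (cent_pair ⟨v, hv.2⟩ hv.1 ⟨n, hn⟩ fun m hm =>
          (h.c.comm_iff hn m.2).1 (hc _ ((h.c.e_mem_sLG hv m.2).2 hm)))⟩
  refine hg.false_of_four h.c.sE (h.c.sE ⊓ h.c.sLG hv) h.c.sE_le inf_le_left ?_
    (fun b hb => ?_) (fun k hk a ha => h.c.sLG_comm hv hk.2 ha) fun b hb hbK => ?_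
  · have h2 := card_mul_relIndex (inf_le_left : h.c.sE ⊓ h.c.sLG hv ≤ h.c.sE)
    rw [h.c.sLG_inf_card hv, h.c.sE_card] at h2
    omega
  · rw [← pow_two, h.c.sE_elem.2 b hb]; exact one_mem _
  · obtain ⟨n, hn16, rfl⟩ := hb
    have hnL : inL v n = false := by
      by_contra hh
      rw [Bool.not_eq_false] at hh
      exact hbK ⟨⟨n, hn16, rfl⟩, ⟨n, by omega, hh, rfl⟩⟩
    refine ⟨(Finset.univ.filter fun m : Fin 64 => inL v m = true ∧ comM n m = true).image fun m : Fin 64 => e m,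
      Finset.card_image_le.trans (L_fix ⟨v, hv.2⟩ hv.1 ⟨n, hn16⟩ hnL), fun a ha hba => ?_⟩
    obtain ⟨m, hm, hmL, rfl⟩ := ha
    exact Finset.mem_image.2 ⟨⟨m, hm⟩, Finset.mem_filter.2 ⟨Finset.mem_univ _, hmL,
      (h.c.comm_iff (show n < 64 by omega) hm).1 hba⟩, rfl⟩

omit h hq in
theorem orbN_table : ∀ p1 p2 p3 a b : Bool,
    orbN p1 p2 p3 a b ∈ [5, 7, 15] ∨ ¬ orbN p1 p2 p3 a b ∣ 20160 ∨
      ([p1, p2, p3, a, b] ∈ [[false, false, false, false, false], [false, false, false, true, true],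
        [true, false, false, false, false], [false, true, false, false, false], [false, false, true, false, false],
        [true, true, false, true, false], [true, false, true, true, false], [false, true, true, true, false],
        [true, true, false, false, true], [true, false, true, false, true], [false, true, true, false, true]]) := by
  decide +kernel

/-- The orbit in the small case: two pairs and one odd class. -/
theorem small_shapes (hs : hq.Small) : ∃ v0 a b : ℕ, vOk v0 ∧ ¬ h.IsO (uM v0) ∧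
    (∀ v, vOk v → v ≠ v0 → h.IsO (uM v)) ∧ (a = 1 ∧ b = 7 ∨ a = 7 ∧ b = 1) ∧ h.IsO a ∧ ¬ h.IsO b := by
  rcases orbN_table (h.oB 3) (h.oB 5) (h.oB 9) (h.oB 1) (h.oB 7) with e1 | e1 | e1
  · exact (h.small_prime_false hq hs e1).elim
  · exact absurd h.orbit_dvd e1
  simp only [List.mem_cons, List.not_mem_nil, or_false, List.cons.injEq, and_true, oB_iff, oB_false] at e1
  have h3 : ∀ {P : ℕ → Prop}, P 1 → P 2 → P 3 → ∀ v, vOk v → P v := by
    rintro P p1 p2 p3 v ⟨hv1, hv4⟩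
    interval_cases v <;> assumption
  rcases e1 with ⟨x1, x2, x3, x4, x5⟩ | ⟨x1, x2, x3, x4, x5⟩ | ⟨x1, x2, x3, x4, x5⟩ | ⟨x1, x2, x3, x4, x5⟩ |
    ⟨x1, x2, x3, x4, x5⟩ | ⟨x1, x2, x3, x4, x5⟩ | ⟨x1, x2, x3, x4, x5⟩ | ⟨x1, x2, x3, x4, x5⟩ |
    ⟨x1, x2, x3, x4, x5⟩ | ⟨x1, x2, x3, x4, x5⟩ | ⟨x1, x2, x3, x4, x5⟩
  · rcases h.exists_O hq with r | r | r | r | r <;> contradiction
  · exact (h.odd_both_false x1 x2 x3 x4 x5).elim
  · exact (h.one_pair_false hq (v := 1) ⟨le_rfl, by norm_num⟩ x1 (h3 (fun _ => rfl) (fun r => absurd r x2) (fun r => absurd r x3)) x4 x5).elim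
  · exact (h.one_pair_false hq (v := 2) ⟨by norm_num, by norm_num⟩ x2 (h3 (fun r => absurd r x1) (fun _ => rfl) (fun r => absurd r x3)) x4 x5).elim
  · exact (h.one_pair_false hq (v := 3) ⟨by norm_num, by norm_num⟩ x3 (h3 (fun r => absurd r x1) (fun r => absurd r x2) (fun _ => rfl)) x4 x5).elim
  · exact ⟨3, 1, 7, ⟨by norm_num, by norm_num⟩, x3, h3 (fun _ => x1) (fun _ => x2) (fun r => absurd rfl r), Or.inl ⟨rfl, rfl⟩, x4, x5⟩
  · exact ⟨2, 1, 7, ⟨by norm_num, by norm_num⟩, x2, h3 (fun _ => x1) (fun r => absurd rfl r) (fun _ => x3), Or.inl ⟨rfl, rfl⟩, x4, x5⟩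
  · exact ⟨1, 1, 7, ⟨le_rfl, by norm_num⟩, x1, h3 (fun r => absurd rfl r) (fun _ => x2) (fun _ => x3), Or.inl ⟨rfl, rfl⟩, x4, x5⟩
  · exact ⟨3, 7, 1, ⟨by norm_num, by norm_num⟩, x3, h3 (fun _ => x1) (fun _ => x2) (fun r => absurd rfl r), Or.inr ⟨rfl, rfl⟩, x5, x4⟩
  · exact ⟨2, 7, 1, ⟨by norm_num, by norm_num⟩, x2, h3 (fun _ => x1) (fun r => absurd rfl r) (fun _ => x3), Or.inr ⟨rfl, rfl⟩, x5, x4⟩
  · exact ⟨1, 7, 1, ⟨le_rfl, by norm_num⟩, x1, h3 (fun r => absurd rfl r) (fun _ => x2) (fun _ => x3), Or.inr ⟨rfl, rfl⟩, x5, x4⟩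

theorem pairs_iff (hl : hq.Large) {v w : ℕ} (hv : vOk v) (hw : vOk w) (hvO : h.IsO (uM v)) : h.IsO (uM w) := by
  obtain ⟨x, hx⟩ := hl.pairs v w hv hw
  obtain ⟨hu, -⟩ := vOk_uM hv
  obtain ⟨hu', -⟩ := vOk_uM hw
  obtain ⟨⟨g, hg⟩, rfl⟩ := QuotientGroup.mk'_surjective _ x
  obtain ⟨g', -, -, he⟩ := h.lift_exact hg (show uM v < 64 by omega) (show uM w < 64 by omega) (sq_E ⟨_, hu⟩)
    (sq_E ⟨_, hu'⟩) hx
  obtain ⟨k, hk⟩ := hvO
  exact ⟨g' * k, by rw [← he, ← hk]; group⟩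

/-- The orbit in the large case: one odd class alone, or everything. -/
theorem large_shapes (hl : hq.Large) :
    (∀ m < 16, m ≠ 0 → h.IsO m) ∨ ((∀ v, vOk v → ¬ h.IsO (uM v)) ∧
      ((h.IsO 1 ∧ ¬ h.IsO 7) ∨ (h.IsO 7 ∧ ¬ h.IsO 1))) := by
  classical
  have o1 : vOk 1 := ⟨le_rfl, by norm_num⟩
  have o2 : vOk 2 := ⟨by norm_num, by norm_num⟩
  have o3 : vOk 3 := ⟨by norm_num, by norm_num⟩
  by_cases hp : h.IsO 3
  · have h5 : h.IsO 5 := h.pairs_iff hq hl o1 o2 hp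
    have h9 : h.IsO 9 := h.pairs_iff hq hl o1 o3 hp
    have hd := h.orbit_dvd
    rw [h.oB_iff.2 hp, h.oB_iff.2 h5, h.oB_iff.2 h9] at hd
    by_cases h1 : h.IsO 1 <;> by_cases h7 : h.IsO 7
    · left
      intro m hm hm0
      rw [h.orb_iff hm, h.oB_iff.2 hp, h.oB_iff.2 h5, h.oB_iff.2 h9, h.oB_iff.2 h1, h.oB_iff.2 h7]
      exact (by decide +kernel : ∀ m : Fin 16, (m : ℕ) ≠ 0 → orbM true true true true true m = true) ⟨m, hm⟩ hm0
    · rw [h.oB_iff.2 h1, h.oB_false.2 h7] at hd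
      exact absurd hd (by decide +kernel)
    · rw [h.oB_false.2 h1, h.oB_iff.2 h7] at hd
      exact absurd hd (by decide +kernel)
    · exact (h.pairs_only_false hp h5 h9 h1 h7).elim
  · have hno : ∀ v, vOk v → ¬ h.IsO (uM v) := fun v hv hvO => hp (h.pairs_iff hq hl hv o1 hvO)
    have h5 : ¬ h.IsO 5 := hno 2 o2
    have h9 : ¬ h.IsO 9 := hno 3 o3
    refine Or.inr ⟨hno, ?_⟩
    rcases h.exists_O hq with r | r | r | r | r
    · exact absurd r hp
    · exact absurd r h5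
    · exact absurd r h9
    · exact Or.inl ⟨r, fun r7 => h.odd_both_false hp h5 h9 r r7⟩
    · exact Or.inr ⟨r, fun r1 => h.odd_both_false hp h5 h9 r1 r⟩

end Ctx

end Cfsg.Agent.Transfer.AEightSolv
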