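import Cfsg.Agent.Lib.Transfer.AEightSolv.Shapes
import Cfsg.Agent.S0215

/-!
# Signalizers: the closure, its normaliser, and the strongly embedded endgame
-/

set_option autoImplicit false
set_option linter.style.haveILetI false
set_option linter.unusedSectionVars false
set_option maxRecDepth 100000

namespace Cfsg.Agent.Transfer.AEightSolv

open Subgroup Cfsg.Agent.Grp

universe u

variable {G : Type u} [Group G] [Finite G]

/-- An element of odd order in the preimage of the core of a central 2-quotient lies in the core. -/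
theorem odd_mem_core_of_central {H : Type*} [Group H] [Finite H] (Z : Subgroup H) [Z.Normal] (hZ2 : IsPGroup 2 Z)
    (hc : ∀ z ∈ Z, ∀ x : H, z * x = x * z) {x : H} (hx : QuotientGroup.mk' Z x ∈ Cfsg.pPrimeCore 2 (H ⧸ Z))
    (hodd : Odd (orderOf x)) : x ∈ Cfsg.pPrimeCore 2 H := by
  classical
  haveI : Fact (Nat.Prime 2) := ⟨Nat.prime_two⟩
  haveI : (Cfsg.pPrimeCore 2 (H ⧸ Z)).Normal := pPrimeCore_isNormal
  set N := (Cfsg.pPrimeCore 2 (H ⧸ Z)).comap (QuotientGroup.mk' Z) with hN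
  have hZN : Z ≤ N := fun z hz => by
    rw [hN, mem_comap, show QuotientGroup.mk' Z z = 1 from (QuotientGroup.eq_one_iff z).2 hz]
    exact one_mem _
  obtain ⟨k, hk⟩ := IsPGroup.iff_card.1 hZ2
  have hidx : Odd (Z.subgroupOf N).index := by
    show Odd (Z.relIndex N)
    have h1 := relIndex_ker N (QuotientGroup.mk' Z)
    rw [QuotientGroup.ker_mk', hN, map_comap_eq_self_of_surjective (QuotientGroup.mk'_surjective Z)] at h1
    rw [hN, h1]
    exact Nat.coprime_two_right.1 pPrimeCore_coprime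
  have hcop : Nat.Coprime (Nat.card ↥(Z.subgroupOf N)) (Z.subgroupOf N).index := by
    rw [Nat.card_congr (subgroupOfEquivOfLe hZN).toEquiv, hk]
    exact (Nat.coprime_two_left.2 hidx).pow_left k
  obtain ⟨K, hK⟩ := exists_right_complement'_of_coprime hcop
  have hKodd : Odd (Nat.card K) := hK.symm.index_eq_card ▸ hidx
  -- the odd elements of `N` are those of `K`
  have hmem : ∀ y : ↥N, Odd (orderOf (y : H)) → y ∈ K := by
    intro y hy
    obtain ⟨⟨⟨z, hz⟩, ⟨w, hw⟩⟩, hzw⟩ := hK.2 y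
    simp only at hzw
    have hcm : Commute z w := Subtype.ext (hc _ (mem_subgroupOf.1 hz) _)
    obtain ⟨m, hm⟩ := hKodd
    have hwm : w ^ (2 * m + 1) = 1 := hm ▸ orderOf_dvd_iff_pow_eq_one.1 (K.orderOf_dvd_natCard hw)
    have h1 : y ^ (2 * m + 1) = z ^ (2 * m + 1) := by rw [← hzw, hcm.mul_pow, hwm, mul_one]
    have hz2 : z ^ (2 ^ k) = 1 := by
      have h3 := orderOf_dvd_iff_pow_eq_one.1 ((Z.subgroupOf N).orderOf_dvd_natCard hz)
      rwa [Nat.card_congr (subgroupOfEquivOfLe hZN).toEquiv, hk] at h3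
    have h4 : z ^ (2 * m + 1) = 1 := by
      refine orderOf_eq_one_iff.1 (Nat.eq_one_of_dvd_coprimes ((Nat.coprime_two_left.2 hy).pow_left k) ?_ ?_)
      · exact orderOf_dvd_of_pow_eq_one (by rw [← pow_mul, mul_comm, pow_mul, hz2, one_pow])
      · rw [← h1, Subgroup.orderOf_coe]; exact orderOf_pow_dvd _
    have hz1 : z = 1 := by
      refine orderOf_eq_one_iff.1 (Nat.eq_one_of_dvd_coprimes ?_ (orderOf_dvd_of_pow_eq_one hz2) (orderOf_dvd_of_pow_eq_one h4))
      exact (Nat.coprime_two_left.2 ⟨m, rfl⟩).pow_left k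
    rw [← hzw, hz1, one_mul]; exact hw
  have hKmem : ∀ y : ↥N, y ∈ K → Odd (orderOf (y : H)) := fun y hy => by
    rw [Subgroup.orderOf_coe]; exact hKodd.of_dvd_nat (K.orderOf_dvd_natCard hy)
  have hKn : (K.map N.subtype).Normal := ⟨by
    rintro _ ⟨y, hy, rfl⟩ g
    refine ⟨⟨g * y * g⁻¹, Subgroup.Normal.conj_mem inferInstance _ y.2 g⟩, hmem _ ?_, rfl⟩
    show Odd (orderOf (g * (y : H) * g⁻¹))
    rw [Invol.orderOf_conj_eq]; exact hKmem y hy⟩
  exact le_pPrimeCore hKn (by rw [card_map_of_injective N.subtype_injective]; exact Nat.coprime_two_right.2 hKodd)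
    ⟨⟨x, hx⟩, hmem ⟨x, hx⟩ hodd, rfl⟩

theorem theta_conj_le {W : Subgroup G} (x g : G) (hW : theta (g * x * g⁻¹) ≤ W) :
    theta x ≤ W.comap (MulAut.conj g).toMonoidHom := fun _ hy => hW (conj_mem_theta hy)

theorem solvable_cent_conj (x g : G) (hs : Group.IsSolvable ↥(centralizer ({x} : Set G))) :
    Group.IsSolvable ↥(centralizer ({g * x * g⁻¹} : Set G)) := by
  haveI := hs
  let f : ↥(centralizer ({x} : Set G)) →* ↥(centralizer ({g * x * g⁻¹} : Set G)) :=
    MonoidHom.mk' (fun y => ⟨g * y * g⁻¹, mem_centralizer_singleton_iff.2 (by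
        have h1 := mem_centralizer_singleton_iff.1 y.2
        calc g * (y : G) * g⁻¹ * (g * x * g⁻¹) = g * ((y : G) * x) * g⁻¹ := by group
          _ = _ := by rw [h1]; group)⟩)
      fun a b => Subtype.ext (show g * ((a : G) * b) * g⁻¹ = g * (a : G) * g⁻¹ * (g * (b : G) * g⁻¹) by group)
  refine Group.isSolvable_of_surjective (f := f) fun y => ?_
  refine ⟨⟨g⁻¹ * y * g, mem_centralizer_singleton_iff.2 ?_⟩, Subtype.ext (by show g * (g⁻¹ * (y : G) * g) * g⁻¹ = y; group)⟩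
  have h1 := mem_centralizer_singleton_iff.1 y.2
  calc g⁻¹ * (y : G) * g * x = g⁻¹ * ((y : G) * (g * x * g⁻¹)) * g := by group
    _ = _ := by rw [h1]; group

/-- A four-group of operators with solvable centralisers bounds a core. -/
theorem theta_le_four {F W : Subgroup G} (hF : Cfsg.IsElementaryAbelian 2 F) (h4 : 4 ≤ Nat.card F) {u : G}
    (hu : orderOf u = 2) (hFu : ∀ f ∈ F, f * u = u * f)
    (hsol : ∀ f ∈ F, f ≠ 1 → Group.IsSolvable ↥(centralizer ({f} : Set G)))
    (hW : ∀ f ∈ F, f ≠ 1 → theta f ≤ W) : theta u ≤ W :=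
  le_of_four hF h4 (theta_odd u)
    (fun f hf => mem_normalizer_fintype fun _ hx => centralizerPPrimeCore_conj (hFu f hf) hx)
    fun f hf hf1 => (balance hu (hFu f hf).symm (hsol f hf hf1)).trans (hW f hf hf1)

/-- The signalizer closure of a pure elementary group. -/
theorem closure_facts {A : Subgroup G} (hA : Cfsg.IsElementaryAbelian 2 A) (h8 : 8 ≤ Nat.card A)
    (hsol : ∀ a ∈ A, a ≠ 1 → Group.IsSolvable ↥(centralizer ({a} : Set G))) :
    Odd (Nat.card ↥(Cfsg.signalizerClosure A theta)) ∧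
      ∀ a ∈ A, a ≠ 1 → theta a ≤ Cfsg.signalizerClosure A theta := by
  haveI : Fact (Nat.Prime 2) := ⟨Nat.prime_two⟩
  have hth : Cfsg.IsSolvableSignalizerFunctor 2 A theta := by
    refine ⟨⟨fun a _ _ => theta_le a, fun a _ _ => ?_, fun a ha _ b hb x hx => ?_, fun a ha ha1 b hb hb1 => ?_⟩,
      fun a _ _ => S0205.result (theta_odd a)⟩
    · exact Nat.two_dvd_ne_zero.2 (Nat.odd_iff.1 (theta_odd a))
    · exact centralizerPPrimeCore_conj (elemAb_comm hA b hb a ha) hx
    · exact balance (orderOf_eq_prime (hA.2 a ha) ha1) (elemAb_comm hA a ha b hb) (hsol b hb hb1)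
  refine ⟨Nat.odd_iff.2 (Nat.two_dvd_ne_zero.1 (SFT.closure_complete hA h8 hth).2.1), fun a ha ha1 => ?_⟩
  exact le_iSup (fun b : {b : G // b ∈ A ∧ b ≠ 1} => theta (b : G)) ⟨a, ha, ha1⟩

/-- The closure is generated by the cores at a four-subgroup. -/
theorem closure_le {A F X : Subgroup G} (hA : Cfsg.IsElementaryAbelian 2 A) (hFA : F ≤ A) (h4 : 4 ≤ Nat.card F)
    (hsol : ∀ a ∈ A, a ≠ 1 → Group.IsSolvable ↥(centralizer ({a} : Set G)))
    (hX : ∀ f ∈ F, f ≠ 1 → theta f ≤ X) : Cfsg.signalizerClosure A theta ≤ X :=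
  iSup_le fun a => theta_le_four (elemAb_mono hA hFA) h4 (orderOf_eq_prime (hA.2 _ a.2.1) a.2.2)
    (fun f hf => elemAb_comm hA f (hFA hf) _ a.2.1) (fun f hf => hsol f (hFA hf)) hX

theorem mem_normalizer_of_comap {W : Subgroup G} {g : G} (h : W ≤ W.comap (MulAut.conj g).toMonoidHom) :
    g ∈ normalizer (W : Set G) := mem_normalizer_fintype fun _ hx => h hx

namespace Ctx

variable {S : Sylow 2 G} {e : ℕ → G} (h : Ctx G S e)
include h

theorem O_solvable {m : ℕ} (hm : h.IsO m) : Group.IsSolvable ↥(centralizer ({e m} : Set G)) := by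
  obtain ⟨g, hg⟩ := hm
  exact hg ▸ solvable_cent_conj _ g h.sol

theorem cent_le_of_conj {M : Subgroup G} {x y n : G} (hn : n ∈ M) (hxy : n * x * n⁻¹ = y)
    (hx : centralizer ({x} : Set G) ≤ M) : centralizer ({y} : Set G) ≤ M := fun g hg => by
  have h1 : n⁻¹ * g * n ∈ centralizer ({x} : Set G) := mem_centralizer_singleton_iff.2 (by
    have h2 := mem_centralizer_singleton_iff.1 hg
    rw [← hxy] at h2
    calc n⁻¹ * g * n * x = n⁻¹ * (g * (n * x * n⁻¹)) * n := by group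
      _ = _ := by rw [h2]; group)
  have h3 := M.mul_mem (M.mul_mem hn (hx h1)) (M.inv_mem hn)
  rwa [show n * (n⁻¹ * g * n) * n⁻¹ = g by group] at h3

/-- The common end: a normaliser containing all involution centralisers kills the closure. -/
theorem finish {T : Sylow 2 h.Xq} (hq : LocalQ h.Xq T h.eX) {W : Subgroup G} (hW : Odd (Nat.card W))
    (hN : normalizer (h.c.sE : Set G) ≤ normalizer (W : Set G))
    (hC : centralizer ({e 15} : Set G) ≤ normalizer (W : Set G))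
    (hcent : ∀ m < 16, m ≠ 0 → centralizer ({e m} : Set G) ≤ normalizer (W : Set G)) : W = ⊥ := by
  have hM : ∀ {g : G}, g ∈ normalizer (h.c.sE : Set G) → g ∈ normalizer (W : Set G) := fun hg => hN hg
  have hinE : ∀ x ∈ (S : Subgroup G), orderOf x = 2 → ∃ c ∈ normalizer (W : Set G), ∃ m < 16, m ≠ 0 ∧ c * x * c⁻¹ = e m := by
    intro x hx hx2
    obtain ⟨n, hn, rfl⟩ := (h.c.mem x).1 hx
    obtain ⟨hsq, hn0⟩ := (h.c.order_two hn).1 hx2
    by_cases h16 : n < 16
    · exact ⟨1, one_mem _, n, h16, hn0, by group⟩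
    push Not at h16
    obtain ⟨hv, c, hc, hce⟩ := h.outer_to_pair hq hn h16 hsq
    obtain ⟨hu, -, hu0, -⟩ := vOk_uM hv
    exact ⟨c⁻¹, inv_mem (hC hc), uM (vP n), hu, hu0, by rw [← hce]; group⟩
  have hkey : ∀ x ∈ (S : Subgroup G), orderOf x = 2 → ∀ g : G, g * x * g⁻¹ ∈ (S : Subgroup G) →
      g ∈ normalizer (W : Set G) := by
    intro x hx hx2 g hg
    obtain ⟨c1, hc1, m1, hm1, hm10, h1⟩ := hinE x hx hx2
    obtain ⟨c2, hc2, m2, hm2, -, h2⟩ := hinE _ hg (by rw [Invol.orderOf_conj_eq, hx2])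
    obtain ⟨k, hk⟩ : ∃ k, k = c2 * g * c1⁻¹ := ⟨_, rfl⟩
    have hke : k * e m1 * k⁻¹ = e m2 := by rw [hk, ← h1, ← h2]; group
    obtain ⟨n, -, hn, hne⟩ := h.fusion_E le_top (mem_top k) (show e m1 ∈ h.c.sE from ⟨m1, hm1, rfl⟩)
      (hke ▸ ⟨m2, hm2, rfl⟩)
    have hnk : n⁻¹ * k ∈ normalizer (W : Set G) := hcent m1 hm1 hm10 (mem_centralizer_singleton_iff.2 (mul_inv_eq_iff_eq_mul.1 (by
      calc n⁻¹ * k * e m1 * (n⁻¹ * k)⁻¹ = n⁻¹ * (k * e m1 * k⁻¹) * n := by group
        _ = n⁻¹ * (n * e m1 * n⁻¹) * n := by rw [hne]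
        _ = _ := by group)))
    have h3 : k ∈ normalizer (W : Set G) := by
      have := mul_mem (hM hn) hnk
      rwa [mul_inv_cancel_left] at this
    have h4 := mul_mem (mul_mem (inv_mem hc2) h3) hc1
    rwa [hk, show c2⁻¹ * (c2 * g * c1⁻¹) * c1 = g by group] at h4
  have heven : Even (Nat.card ↥(normalizer (W : Set G))) :=
    Invol.even_card_of_mem h.c.z_order (hM (h.S_le_norm (h.c.e_mem (by norm_num))))
  rcases se_or_top S (h.S_le_cent.trans hC) heven hkey with e1 | e1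
  · haveI : W.Normal := normalizer_eq_top_iff.1 e1
    exact le_bot_iff.1 (h.odd ▸ le_pPrimeCore inferInstance (Nat.coprime_two_right.2 hW))
  · exact le_bot_iff.1 (h.odd ▸ le_oddCore_of_se e1 le_normalizer normal_in_normalizer hW)

end Ctx

end Cfsg.Agent.Transfer.AEightSolv
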